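import Cfsg.Agent.Lib.GW.Homo
import Cfsg.Agent.Lib.Suz.HigmanB
import Cfsg.Agent.Lib.H8SigX

/-!
# Sylow `2`-subgroups of type `U₃(4)` with `2`-nilpotent involution centralizers
-/

set_option autoImplicit false

namespace CfsgLib.GO.U3

open Subgroup Cfsg CfsgLib.FT CfsgLib.FT.BGN CfsgLib.Blk CfsgLib.GW CfsgLib.SigX
open scoped commutatorElement ComplexConjugate

theorem num_odd (n : ℕ) : ∀ x y a b c m : ℤ, x.natAbs + y.natAbs ≤ n →
    (2 * a + 1) * x ^ 2 + (2 * b + 1) * (x * y) + (2 * c + 1) * y ^ 2 +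
      m * (x * y * (x + y)) = 0 → x = 0 := by
  induction n with
  | zero => intro x y a b c m h _; omega
  | succ n ih =>
    intro x y a b c m h e
    obtain ⟨i, hi⟩ := Int.even_or_odd' x
    obtain ⟨j, hj⟩ := Int.even_or_odd' y
    rcases hi with rfl | rfl <;> rcases hj with rfl | rfl
    · by_cases h0 : i = 0 ∧ j = 0
      · omega
      · have := ih i j a b c (2 * m) (by omega) (by linarith)
        omega
    all_goals
      exfalso
      have := congrArg (fun z : ℤ => (z : ZMod 2)) e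
      push_cast at this
      revert this
      generalize (i : ZMod 2) = i
      generalize (j : ZMod 2) = j
      generalize (m : ZMod 2) = m
      generalize (a : ZMod 2) = a
      generalize (b : ZMod 2) = b
      generalize (c : ZMod 2) = c
      revert i j m a b c
      decide

variable {G : Type*} [Group G]

theorem mem_four [Finite G] {H : Subgroup G} (h4 : Nat.card H = 4) {w x y z : G} (hw : w ∈ H)
    (hx : x ∈ H) (hy : y ∈ H) (hz : z ∈ H) (n1 : w ≠ x) (n2 : w ≠ y) (n3 : w ≠ z) (n4 : x ≠ y)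
    (n5 : x ≠ z) (n6 : y ≠ z) {v : G} (hv : v ∈ H) : v = w ∨ v = x ∨ v = y ∨ v = z := by
  classical
  by_contra hc
  push Not at hc
  have := card_le_ncard_aux H {v, w, x, y, z} (by
    intro u hu
    simp only [Finset.mem_insert, Finset.mem_singleton] at hu
    rcases hu with rfl | rfl | rfl | rfl | rfl <;> assumption)
  rw [Finset.card_insert_of_notMem (by simp [hc]), Finset.card_insert_of_notMem (by simp [*]),
    Finset.card_insert_of_notMem (by simp [*]), Finset.card_pair n6] at this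
  omega

/-- The basic configuration. -/
structure Hb (S A : Subgroup G) (d : G) : Prop where
  syl : IsSylowIn 2 S ⊤
  memA : ∀ x, x ∈ A ↔ x ∈ S ∧ x * x = 1
  cardA : Nat.card A = 4
  cen : S ≤ 𝐂(A)
  nc : ¬ IsMulCommutative S
  norm : d ∈ 𝐍(S)
  odd : Odd (orderOf d)
  dA : d ∉ 𝐂(A)
  hnpc : ∀ a ∈ A, a ≠ 1 → HasNormalPComplement 2 𝐂[a]

theorem exists_hb [Finite G] {S A : Subgroup G} (hS : IsSylowIn 2 S ⊤) (h4 : Nat.card A = 4)
    (hA : ∀ x, x ∈ A ↔ x ∈ S ∧ x * x = 1) (hZ : S ≤ centralizer (A : Set G))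
    (hnc : ¬ IsMulCommutative S) (hd : ¬ normalizer (S : Set G) ≤ centralizer (A : Set G))
    (hC : ∀ a ∈ A, a ≠ 1 → HasNormalPComplement 2 (centralizer ({a} : Set G))) :
    ∃ d, Hb S A d := by
  obtain ⟨n, hn, hnA⟩ := SetLike.not_le_iff_exists.1 hd
  obtain ⟨a, ha, u, hu, rfl, -, hk, ho⟩ := exists_p_part Nat.prime_two n
  have haS : a ∈ S := by
    have h1 := hS.eq_of_le (T := S ⊔ zpowers a) (IsPGroup.to_sup_of_normal_left' hS.isPGroup
      (isPGroup_zpowers_iff.2 hk) (zpowers_le.2 (zpowers_le.2 hn ha))) le_sup_left le_top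
    exact h1 ▸ mem_sup_right (mem_zpowers a)
  exact ⟨u, hS, hA, h4, hZ, hnc, zpowers_le.2 hn hu, Nat.coprime_two_right.1 ho,
    fun e => hnA (mul_mem (hZ haS) e), hC⟩

namespace Hb

variable [Finite G] {S A : Subgroup G} {d s a : G} (h : Hb S A d)
include h

omit [Finite G] in
theorem le : A ≤ S := fun x hx => ((h.memA x).1 hx).1

omit [Finite G] in
theorem mem (hs : s ∈ S) : d * s * d⁻¹ ∈ S := conj_mem_of_mem_normalizer h.norm hs

omit [Finite G] in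
theorem comm (ha : a ∈ A) (hs : s ∈ S) : a * s = s * a := h.cen hs a ha

omit [Finite G] in
theorem conj_memA {g : G} (ha : a ∈ A) (hg : g * a * g⁻¹ ∈ S) : g * a * g⁻¹ ∈ A :=
  (h.memA _).2 ⟨hg, by rw [_root_.conj_mul, ((h.memA a).1 ha).2, mul_one, mul_inv_cancel]⟩

omit [Finite G] in
theorem memd (ha : a ∈ A) : d * a * d⁻¹ ∈ A := h.conj_memA ha (h.mem (h.le ha))

omit [Finite G] in
theorem le_cent (ha : a ∈ A) : S ≤ 𝐂[a] := fun _ hs => U4.mem_cent1'.2 (h.comm ha hs)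

theorem exists_pow (hs : s ∈ S) : ∃ k, s ^ 2 ^ k = 1 := by
  obtain ⟨k, hk⟩ := h.syl.isPGroup ⟨s, hs⟩
  exact ⟨k, congrArg Subtype.val hk⟩

theorem exists_inv (hs : s ∈ S) (h1 : s ≠ 1) : ∃ a ∈ zpowers s, a ∈ A ∧ a ≠ 1 := by
  haveI := Fintype.ofFinite G
  obtain ⟨v, hv, hv2⟩ := exists_inv_of_not_odd (H := zpowers s) (by
    rw [Nat.card_zpowers, Nat.not_odd_iff_even, even_iff_two_dvd]
    exact two_dvd_orderOf_of_mem h.syl.isPGroup hs h1)
  exact ⟨v, hv, (h.memA v).2 ⟨zpowers_le.2 hs hv, mul_self_of_inv hv2⟩, ne_one_of_inv hv2⟩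

theorem cent_of_odd {n : G} (hn : n ∈ 𝐍(S)) (ho : Odd (orderOf n)) (hs : s ∈ S) (h1 : s ≠ 1)
    (e : n * s * n⁻¹ = s) : n ∈ 𝐂(S) := by
  obtain ⟨a, ha, haA, ha1⟩ := h.exists_inv hs h1
  exact PCompl.hnpc_mem_centralizer_of_le (h.hnpc a haA ha1) (h.le_cent haA) h.syl.isPGroup
    (U4.mem_cent1_comm.1 (zpowers_le.2 (U4.mem_cent1_comm.1 (U4.mem_cent1_of_conj_eq e)) ha)) hn
    (Nat.coprime_two_right.2 ho)

theorem free (hs : s ∈ S) (e : d * s * d⁻¹ = s) : s = 1 := by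
  by_contra h1
  exact h.dA (centralizer_le h.le (h.cent_of_odd h.norm h.odd hs h1 e))

theorem free2 (hs : s ∈ S) (e : d * (d * s * d⁻¹) * d⁻¹ = s) : s = 1 := by
  refine h.free hs (U4.conj_eq_of_mem_cent1 (zpowers_le.2 (U4.mem_cent1_of_conj_eq ?_)
    (mem_zpowers_sq h.odd)))
  calc d * d * s * (d * d)⁻¹ = d * (d * s * d⁻¹) * d⁻¹ := by group
    _ = s := e

theorem n1 (hs : s ∈ S) (h1 : s ≠ 1) : s ≠ d * s * d⁻¹ := fun e => h1 (h.free hs e.symm)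

theorem n2 (hs : s ∈ S) (h1 : s ≠ 1) : s ≠ d * (d * s * d⁻¹) * d⁻¹ :=
  fun e => h1 (h.free2 hs e.symm)

theorem n3 (hs : s ∈ S) (h1 : s ≠ 1) : d * s * d⁻¹ ≠ d * (d * s * d⁻¹) * d⁻¹ :=
  h.n1 (h.mem hs) (U4.conj_ne_one_iff.2 h1)

theorem casesA (ha : a ∈ A) (h1 : a ≠ 1) {x : G} (hx : x ∈ A) :
    x = 1 ∨ x = a ∨ x = d * a * d⁻¹ ∨ x = d * (d * a * d⁻¹) * d⁻¹ :=
  mem_four h.cardA (one_mem A) ha (h.memd ha) (h.memd (h.memd ha)) h1.symm
    (U4.conj_ne_one_iff.2 h1).symm (U4.conj_ne_one_iff.2 (U4.conj_ne_one_iff.2 h1)).symm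
    (h.n1 (h.le ha) h1) (h.n2 (h.le ha) h1) (h.n3 (h.le ha) h1) hx

theorem exists_ne : ∃ a ∈ A, a ≠ 1 :=
  A.bot_or_exists_ne_one.resolve_left fun e => by simpa [e] using h.cardA

theorem cube (hs : s ∈ S) : d * (d * (d * s * d⁻¹) * d⁻¹) * d⁻¹ = s := by
  obtain ⟨a, ha, h1⟩ := h.exists_ne
  have h2 := U4.conj_ne_one_iff (g := d).2 h1
  have h3 : d * (d * (d * a * d⁻¹) * d⁻¹) * d⁻¹ = a := by
    rcases h.casesA ha h1 (h.memd (h.memd (h.memd ha))) with e | e | e | e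
    · exact absurd e (U4.conj_ne_one_iff.2 (U4.conj_ne_one_iff.2 h2))
    · exact e
    · exact absurd e.symm (h.n2 (h.mem (h.le ha)) h2)
    · exact absurd e.symm (h.n3 (h.mem (h.le ha)) h2)
  have e3 : ∀ x, d * (d * (d * x * d⁻¹) * d⁻¹) * d⁻¹ = d ^ 3 * x * (d ^ 3)⁻¹ := fun x => by
    simp only [pow_succ, pow_zero, one_mul, mul_assoc, mul_inv_rev]
  have h4 := h.cent_of_odd (n := d ^ 3) (pow_mem h.norm 3)
    (Odd.of_dvd_nat h.odd (orderOf_pow_dvd 3)) (h.le ha) h1 (by rw [← e3, h3])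
  rw [e3, ← h4 s hs, mul_inv_cancel_right]

theorem higman : (∀ x ∈ S, x * x ∈ A) ∧ ⁅S, S⁆ ≤ A ∧ (∀ x ∈ S, x ∈ 𝐂(S) → x ∈ A) ∧
    (Nat.card S = 16 ∨ Nat.card S = 64) := by
  have hinv : CopAut.Inv (MulAut.conj.comp (zpowers d).subtype) S := fun k x hx =>
    conj_mem_of_mem_normalizer (zpowers_le.2 h.norm k.2) hx
  have hm : ∀ x : S, x ^ 2 = 1 ↔ (x : G) ∈ A := fun x => by
    rw [h.memA, Subtype.ext_iff, sq]; simp
  have hH : Suz.HigSetup (Suz.restrInv hinv) := by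
    refine ⟨h.syl.isPGroup, by rw [Nat.card_zpowers]; exact h.odd,
      isSolvable_of_isMulCommutative, fun x y hx hx2 hy hy2 => ?_, ?_⟩
    · rcases h.casesA ((hm x).1 hx2) (fun e => hx (Subtype.ext e)) ((hm y).1 hy2) with e | e | e | e
      · exact absurd (Subtype.ext e) hy
      · exact ⟨1, by rw [map_one]; exact Subtype.ext e.symm⟩
      · exact ⟨⟨d, mem_zpowers d⟩, Subtype.ext e.symm⟩
      · refine ⟨⟨d * d, mul_mem (mem_zpowers d) (mem_zpowers d)⟩, Subtype.ext ?_⟩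
        rw [e]
        show d * d * x * (d * d)⁻¹ = _
        group
    · obtain ⟨a, ha, h1⟩ := h.exists_ne
      exact ⟨⟨a, h.le ha⟩, ⟨_, h.mem (h.le ha)⟩, fun e => h.n1 (h.le ha) h1 (congrArg Subtype.val e),
        fun e => h1 (congrArg Subtype.val e), (hm _).2 ha,
        fun e => U4.conj_ne_one_iff.2 h1 (congrArg Subtype.val e), (hm _).2 (h.memd ha)⟩
  have hnc : ∃ u v : S, ⁅u, v⁆ ≠ 1 := by
    by_contra hc
    push Not at hc
    exact h.nc ⟨⟨fun u v => commutatorElement_eq_one_iff_mul_comm.1 (hc u v)⟩⟩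
  have hc : Nat.card (Suz.omZ S) = 4 := by
    rw [← h.cardA, ← card_subgroupOf_of_le h.le]
    congr 2
    ext x
    rw [hH.mem_omZ, hm, mem_subgroupOf]
  refine ⟨fun x hx => ?_, commutator_le.2 fun x hx y hy => ?_, fun x hx hc => ?_, ?_⟩
  · simpa [sq] using (hm _).1 (hH.sq_sq hnc ⟨x, hx⟩)
  · exact (hm _).1 (hH.commutatorElement_sq hnc ⟨x, hx⟩ ⟨y, hy⟩)
  · refine (hm ⟨x, hx⟩).1 (hH.mem_omZ.1 ?_)
    rw [← hH.center_eq hnc, mem_center_iff]
    exact fun g => Subtype.ext (hc g g.2)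
  · simpa [hc] using hH.card_eq hnc

theorem sqA (hs : s ∈ S) : s * s ∈ A := h.higman.1 s hs

theorem commA {x y : G} (hx : x ∈ S) (hy : y ∈ S) : ⁅x, y⁆ ∈ A :=
  h.higman.2.1 (commutator_mem_commutator hx hy)

theorem freeA (hs : s ∈ S) (e : s⁻¹ * (d * s * d⁻¹) ∈ A) : s ∈ A := by
  refine (h.memA s).2 ⟨hs, h.free (mul_mem hs hs) ?_⟩
  have h1 := h.comm e hs
  have h2 := ((h.memA _).1 e).2
  calc d * (s * s) * d⁻¹ = s * (s⁻¹ * (d * s * d⁻¹) * s) * (s⁻¹ * (d * s * d⁻¹)) := by group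
    _ = s * s * (s⁻¹ * (d * s * d⁻¹) * (s⁻¹ * (d * s * d⁻¹))) := by rw [h1]; group
    _ = s * s := by rw [h2, mul_one]

theorem normA (hs : s ∈ S) : s * (d * s * d⁻¹) * (d * (d * s * d⁻¹) * d⁻¹) ∈ A := by
  have h1 := mul_mem (h.mem hs) (h.mem (h.mem hs))
  refine h.freeA (mul_mem (mul_mem hs (h.mem hs)) (h.mem (h.mem hs))) ?_
  have e : d * (s * (d * s * d⁻¹) * (d * (d * s * d⁻¹) * d⁻¹)) * d⁻¹ =
      d * s * d⁻¹ * (d * (d * s * d⁻¹) * d⁻¹) * (d * (d * (d * s * d⁻¹) * d⁻¹) * d⁻¹) := by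
    simp only [mul_assoc, mul_inv_rev, inv_inv, mul_inv_cancel_left, inv_mul_cancel_left,
      mul_inv_cancel, inv_mul_cancel, mul_one]
  rw [e, h.cube hs]
  convert h.commA (inv_mem h1) (inv_mem hs) using 1
  rw [commutatorElement_def]
  simp only [mul_assoc, mul_inv_rev, inv_inv, mul_inv_cancel_left, inv_mul_cancel_left,
      mul_inv_cancel, inv_mul_cancel, mul_one]

theorem notA (hs : s ∈ S) (h1 : s ∉ A) : d * s * d⁻¹ ∉ A := fun e =>
  h1 (h.cube hs ▸ h.memd (h.memd e))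

theorem freeA2 (hs : s ∈ S) (e : s⁻¹ * (d * (d * s * d⁻¹) * d⁻¹) ∈ A) : s ∈ A := by
  have h1 := h.memd (inv_mem e)
  have e1 : d * (s⁻¹ * (d * (d * s * d⁻¹) * d⁻¹))⁻¹ * d⁻¹ =
      (d * (d * (d * s * d⁻¹) * d⁻¹) * d⁻¹)⁻¹ * (d * s * d⁻¹) := by
    simp only [mul_assoc, mul_inv_rev, inv_inv, mul_inv_cancel_left, inv_mul_cancel_left,
      mul_inv_cancel, inv_mul_cancel, mul_one]
  rw [e1, h.cube hs] at h1
  exact h.freeA hs h1

theorem conj_eq {x : G} (hs : s ∈ S) (hx : x ∈ S) : ∃ a ∈ A, x * s * x⁻¹ = s * a :=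
  ⟨⁅s⁻¹, x⁆, h.commA (inv_mem hs) hx, by rw [commutatorElement_def]; group⟩

theorem cls (hs : s ∈ S) (h1 : s ∉ A) (ha : a ∈ A) : ∃ u ∈ S, u * s * u⁻¹ = s * a := by
  by_contra hc
  obtain ⟨x, hx, hxs⟩ : ∃ x ∈ S, x * s ≠ s * x := by
    by_contra e
    push Not at e
    exact h1 (h.higman.2.2.1 s hs e)
  obtain ⟨b, hb, e⟩ := h.conj_eq hs hx
  have hb1 : b ≠ 1 := fun e1 => hxs (by rwa [e1, mul_one, mul_inv_eq_iff_eq_mul] at e)
  have key : ∀ y ∈ S, y * s * y⁻¹ = s ∨ y * s * y⁻¹ = s * b := by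
    intro y hy
    obtain ⟨c, hcA, e1⟩ := h.conj_eq hs hy
    by_contra hn
    rw [e1, not_or] at hn
    have hc1 : c ≠ 1 := fun e2 => hn.1 (by rw [e2, mul_one])
    have hcb : b ≠ c := fun e2 => hn.2 (by rw [e2])
    have hbb := ((h.memA b).1 hb).2
    rcases mem_four h.cardA (one_mem A) hb hcA (mul_mem hb hcA) hb1.symm hc1.symm
      (fun e2 => hcb (by rw [← mul_one b, e2, ← mul_assoc, hbb, one_mul])) hcb
      (fun e2 => hc1 (by simpa using e2)) (fun e2 => hb1 (by simpa using e2)) ha with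
      rfl | rfl | rfl | rfl
    · exact hc ⟨1, one_mem S, by simp⟩
    · exact hc ⟨x, hx, e⟩
    · exact hc ⟨y, hy, e1⟩
    · refine hc ⟨x * y, mul_mem hx hy, ?_⟩
      calc x * y * s * (x * y)⁻¹ = x * (y * s * y⁻¹) * x⁻¹ := by group
        _ = x * s * x⁻¹ * (x * c * x⁻¹) := by rw [e1]; group
        _ = _ := by rw [e, ← h.comm hcA hx]; group
  have hidx : (𝐂[s]).relIndex S = 2 := by
    rw [← Frob.ncard_conj_subgroup, ← Set.ncard_pair (a := s) (b := s * b)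
      (fun e1 => hb1 (by simpa using e1))]
    congr 1
    ext y
    constructor
    · rintro ⟨z, hz, rfl⟩
      exact key z hz
    · rintro (rfl | rfl)
      exacts [⟨1, one_mem S, by simp⟩, ⟨x, hx, e⟩]
  have key' : ∀ s ∈ S, ∀ b, (∀ y ∈ S, y * s * y⁻¹ = s ∨ y * s * y⁻¹ = s * b) →
      ∀ y ∈ S, y * (d * s * d⁻¹) * y⁻¹ = d * s * d⁻¹ ∨
        y * (d * s * d⁻¹) * y⁻¹ = d * s * d⁻¹ * (d * b * d⁻¹) := fun s _ b hk y hy => by
    have e1 : y * (d * s * d⁻¹) * y⁻¹ = d * (d⁻¹ * y * d * s * (d⁻¹ * y * d)⁻¹) * d⁻¹ := by group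
    rw [e1]
    rcases hk _ (conj_mem_of_mem_normalizer' h.norm hy) with e2 | e2 <;> rw [e2]
    · exact Or.inl rfl
    · exact Or.inr (by group)
  have key1 := key' s hs b key
  have key2 := key' _ (h.mem hs) _ key1
  have hinv : ∀ y ∈ S ⊓ 𝐂[s], d⁻¹ * y * d ∈ S ⊓ 𝐂[s] := by
    rintro y ⟨hy, hys⟩
    refine ⟨conj_mem_of_mem_normalizer' h.norm hy, U4.mem_cent1_of_conj_eq ?_⟩
    have h2 : y * (d * s * d⁻¹) * y⁻¹ = d * s * d⁻¹ := by
      refine (key1 y hy).resolve_right fun e1 => ?_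
      have h3 := U4.conj_eq_of_mem_cent1 (h.le_cent (h.normA hs) hy)
      have h4 := key2 y hy
      have h5 := h.comm (h.memd hb) (h.mem (h.mem hs))
      have h6 := h.n3 (h.le hb) hb1
      have h7 := ((h.memA _).1 (h.memd hb)).2
      have h8 := U4.conj_ne_one_iff (g := d).2 hb1
      have h9 := U4.conj_eq_of_mem_cent1 hys
      generalize d * s * d⁻¹ = s1 at *
      generalize d * s1 * d⁻¹ = s2 at *
      generalize d * b * d⁻¹ = b1 at *
      generalize d * b1 * d⁻¹ = b2 at *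
      rw [show y * (s * s1 * s2) * y⁻¹ = (y * s * y⁻¹) * (y * s1 * y⁻¹) * (y * s2 * y⁻¹) by group,
        h9, e1] at h3
      rcases h4 with e2 | e2 <;> rw [e2] at h3
      · exact h8 (by simpa using h3)
      · rw [show s * (s1 * b1) * (s2 * b2) = s * s1 * (b1 * s2) * b2 by group, h5, mul_assoc,
          mul_assoc s2, ← mul_assoc, mul_eq_left, mul_eq_one_iff_inv_eq,
          inv_eq_of_mul_eq_one_right h7] at h3
        exact h6 h3
    calc d⁻¹ * y * d * s * (d⁻¹ * y * d)⁻¹ = d⁻¹ * (y * (d * s * d⁻¹) * y⁻¹) * d := by group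
      _ = s := by rw [h2]; group
  have h3 : Nat.card ↥(S ⊓ 𝐂[s]) % 3 = 1 := by
    classical
    let f : ↥(S ⊓ 𝐂[s]) → ↥(S ⊓ 𝐂[s]) := fun y => ⟨d⁻¹ * y * d, hinv y y.2⟩
    haveI := Fintype.ofFinite ↥(S ⊓ 𝐂[s])
    haveI : Fact (Nat.Prime 3) := ⟨Nat.prime_three⟩
    have h4 := Equiv.Perm.card_fixedPoints_modEq (f := f) (p := 3) (n := 1) (by
      funext y
      apply Subtype.ext
      have := h.cube (conj_mem_of_mem_normalizer' h.norm (conj_mem_of_mem_normalizer' h.norm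
        (conj_mem_of_mem_normalizer' h.norm y.2.1)))
      show d⁻¹ * (d⁻¹ * (d⁻¹ * y * d) * d) * d = y
      rw [← this]; group)
    have h5 : Fintype.card (Function.fixedPoints f) = 1 := by
      rw [Fintype.card_eq_one_iff]
      refine ⟨⟨1, Subtype.ext (by simp [f])⟩, fun y => Subtype.ext (Subtype.ext ?_)⟩
      have h6 : d⁻¹ * (y : G) * d = y := congrArg Subtype.val y.2
      refine h.free y.1.2.1 ?_
      conv_lhs => rw [← h6]
      group
    rw [h5, ← Nat.card_eq_fintype_card] at h4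
    exact h4
  have h4 := card_inf_mul_relIndex (𝐂[s]) S
  rw [hidx, inf_comm] at h4
  rcases h.higman.2.2.2 with e1 | e1 <;> omega

theorem relIndex_cent (hs : s ∈ S) (h1 : s ∉ A) : (𝐂[s]).relIndex S = 4 := by
  rw [← Frob.ncard_conj_subgroup, ← h.cardA, ← Frob.ncard_coset A s]
  congr 1
  ext y
  constructor
  · rintro ⟨z, hz, rfl⟩
    obtain ⟨a, ha, e⟩ := h.conj_eq hs hz
    exact ⟨a, ha, e.symm⟩
  · rintro ⟨a, ha, rfl⟩
    exact h.cls hs h1 ha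

theorem exists_notA : ∃ s ∈ S, s ∉ A := SetLike.not_le_iff_exists.1 fun e =>
  h.nc (BSW.isMulCommutative_iff'.2 fun _ hx _ hy => h.comm (e hx) hy)

theorem cardS : Nat.card S = 64 := by
  obtain ⟨s, hs, h1⟩ := h.exists_notA
  have h2 := card_inf_mul_relIndex (𝐂[s]) S
  have h3 := card_lt_card_of_lt (H := A) (K := 𝐂[s] ⊓ S) (lt_of_le_of_ne
    (le_inf (fun a ha => U4.mem_cent1.2 (h.comm ha hs)) h.le)
    fun e => h1 (e ▸ ⟨U4.self_mem_cent1 s, hs⟩))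
  rw [h.relIndex_cent hs h1] at h2
  rw [h.cardA] at h3
  rcases h.higman.2.2.2 with e1 | e1 <;> omega

theorem card_cent (hs : s ∈ S) (h1 : s ∉ A) : Nat.card ↥(S ⊓ 𝐂[s]) = 16 := by
  have h2 := card_inf_mul_relIndex (𝐂[s]) S
  rw [h.relIndex_cent hs h1, h.cardS, inf_comm] at h2
  omega

theorem relIndex_A : A.relIndex S = 16 := by
  have := card_mul_relIndex h.le
  rw [h.cardA, h.cardS] at this
  omega

theorem fusC (ha : a ∈ A) (h1 : a ≠ 1) {c : G} (hc : c ∈ 𝐂[a]) (hs : s ∈ S)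
    (hcs : c * s * c⁻¹ ∈ S) : ∃ u ∈ S, c * s * c⁻¹ = u * s * u⁻¹ := by
  obtain ⟨P, hP⟩ := (h.syl.mono (h.le_cent ha) le_top).exists_sylow
  obtain ⟨u, hu, e⟩ := PCompl.hnpc_fusion (h.hnpc a ha h1) P ⟨c, hc⟩
  rw [hP] at hu e
  exact ⟨u, hu, congrArg Subtype.val (e ⟨s, h.le_cent ha hs⟩ hs hcs)⟩

theorem fus (hs : s ∈ S) {g : G} (hg : g * s * g⁻¹ ∈ S) (h1 : s ∉ A) :
    s⁻¹ * (g * s * g⁻¹) ∈ A ∨ (d * s * d⁻¹)⁻¹ * (g * s * g⁻¹) ∈ A ∨
      (d * (d * s * d⁻¹) * d⁻¹)⁻¹ * (g * s * g⁻¹) ∈ A := by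
  have hz := h.sqA hs
  have hz1 : s * s ≠ 1 := fun e => h1 ((h.memA s).2 ⟨hs, e⟩)
  have key : ∀ g, g * s * g⁻¹ ∈ S → g * (s * s) * g⁻¹ = s * s → s⁻¹ * (g * s * g⁻¹) ∈ A := by
    intro g hg e
    obtain ⟨u, hu, e1⟩ := h.fusC hz hz1 (U4.mem_cent1_of_conj_eq e) hs hg
    obtain ⟨a, ha, e2⟩ := h.conj_eq hs hu
    rwa [e1, e2, inv_mul_cancel_left]
  have h2 := h.sqA hg
  rw [_root_.conj_mul] at h2
  have hd := fun x (hx : x ∈ S) => conj_mem_of_mem_normalizer' h.norm hx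
  rcases h.casesA hz hz1 h2 with e | e | e | e
  · exact absurd e (U4.conj_ne_one_iff.2 hz1)
  · exact Or.inl (key g hg e)
  · refine Or.inr (Or.inl ?_)
    have := h.memd (key (d⁻¹ * g) (by convert hd _ hg using 1; group) (by
      calc d⁻¹ * g * (s * s) * (d⁻¹ * g)⁻¹ = d⁻¹ * (g * (s * s) * g⁻¹) * d := by group
        _ = _ := by rw [e]; group))
    convert this using 1
    group
  · refine Or.inr (Or.inr ?_)
    have := h.memd (h.memd (key (d⁻¹ * d⁻¹ * g) (by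
      convert hd _ (hd _ hg) using 1
      simp only [mul_assoc, mul_inv_rev, inv_inv, mul_inv_cancel_left, inv_mul_cancel_left,
      mul_inv_cancel, inv_mul_cancel, mul_one]) (by
      calc d⁻¹ * d⁻¹ * g * (s * s) * (d⁻¹ * d⁻¹ * g)⁻¹ =
            d⁻¹ * (d⁻¹ * (g * (s * s) * g⁻¹) * d) * d := by
              simp only [mul_assoc, mul_inv_rev, inv_inv, mul_inv_cancel_left, inv_mul_cancel_left,
      mul_inv_cancel, inv_mul_cancel, mul_one]
        _ = _ := by rw [e]; group)))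
    convert this using 1
    simp only [mul_assoc, mul_inv_rev, inv_inv, mul_inv_cancel_left, inv_mul_cancel_left,
      mul_inv_cancel, inv_mul_cancel, mul_one]

theorem nilp (hs : s ∈ S) (h1 : s ≠ 1) : Nilp2 𝐂[s] := by
  obtain ⟨a, ha, haA, ha1⟩ := h.exists_inv hs h1
  exact (nilp2_of_hnpc (h.hnpc a haA ha1)).mono (Frob.centralizer_le_centralizer_of_mem_zpowers ha)

theorem syl2 (hs : s ∈ S) (h1 : s ≠ 1) : IsSylowIn 2 (S ⊓ 𝐂[s]) 𝐂[s] := by
  obtain ⟨a, ha, haA, ha1⟩ := h.exists_inv hs h1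
  have hle := Frob.centralizer_le_centralizer_of_mem_zpowers ha
  obtain ⟨T, hT, hT'⟩ := IsSylowIn.exists_ge (h.syl.isPGroup.to_inf_left (K := 𝐂[s])) inf_le_right
  obtain ⟨c, hc, hcT⟩ := (h.syl.mono (h.le_cent haA) le_top).exists_conj_le hT'.isPGroup
    (hT'.le.trans hle)
  obtain ⟨u, hu, e⟩ := h.fusC haA ha1 hc hs
    (hcT (conj_mem_map_conj (hT ⟨hs, U4.self_mem_cent1 s⟩)))
  refine hT'.of_card_le (h.syl.isPGroup.to_inf_left) inf_le_right ?_
  rw [← card_map_conj (u⁻¹ * c)]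
  refine card_le_of_le ?_
  rintro _ ⟨x, hx, rfl⟩
  have e1 : u⁻¹ * c * s * (u⁻¹ * c)⁻¹ = s := by
    calc u⁻¹ * c * s * (u⁻¹ * c)⁻¹ = u⁻¹ * (c * s * c⁻¹) * u := by group
      _ = s := by rw [e]; group
  refine ⟨?_, e1 ▸ BSW.conj_mem_cent (hT'.le hx)⟩
  have := mul_mem (mul_mem (inv_mem hu) (hcT (conj_mem_map_conj hx))) hu
  convert this using 1
  simp [mul_assoc]

theorem exists_conj_memA {t : G} {k : ℕ} (ht : t * t = 1) (ha : a ^ 2 ^ k = 1)
    (e : t * a * t⁻¹ = a⁻¹) : ∃ g, g * a * g⁻¹ ∈ A := by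
  have hn : zpowers t ≤ 𝐍(zpowers a) := zpowers_le.2 (mem_normalizer_of_conj_mem fun x hx => by
    rw [H5.inverts_of_mem_zpowers e hx]; exact inv_mem hx)
  obtain ⟨g, -, hg⟩ := h.syl.exists_conj_le (H1.isPGroup_sup_of_le_normalizer
    (H1.isPGroup_zpowers_of_pow (k := 1) (by rw [pow_one, sq, ht]))
    (H1.isPGroup_zpowers_of_pow ha) hn) le_top
  have h1 : g * a * g⁻¹ ∈ S := hg (conj_mem_map_conj (mem_sup_right (mem_zpowers a)))
  have h2 : g * t * g⁻¹ ∈ A := (h.memA _).2 ⟨hg (conj_mem_map_conj (mem_sup_left (mem_zpowers t))),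
    by rw [_root_.conj_mul, ht, mul_one, mul_inv_cancel]⟩
  refine ⟨g, (h.memA _).2 ⟨h1, ?_⟩⟩
  have h3 := h.comm h2 h1
  rw [_root_.conj_mul, _root_.conj_mul, mul_left_inj, mul_right_inj] at h3
  rw [h3, mul_inv_cancel_right] at e
  rw [_root_.conj_mul, mul_eq_one_iff_eq_inv.2 e, mul_one, mul_inv_cancel]

end Hb

end CfsgLib.GO.U3
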