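import Cfsg.Agent.Lib.Gol.NS
import Cfsg.Agent.Lib.Gol.T1a
import Cfsg.Agent.Lib.GOB.Mod
import Cfsg.Agent.Lib.ClassSize2

/-!
# Groups of odd order acting on a `2`-group whose involutions form a central four-group
-/

set_option autoImplicit false

namespace CfsgLib.GO

open Subgroup Cfsg CfsgLib.FT CfsgLib.FT.BGN CfsgLib.Cop CfsgLib.GW CfsgLib.Wal
open CfsgLib.FT.U4 (mem_cent1 mem_cent1' mem_cent mem_cent1_comm cent1_conj
  eq_one_of_mem_inf eq_bot_of_forall conj_mem_conj_iff orderOf_conj norm_le_norm_cent)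
open scoped commutatorElement

universe u

variable {Y : Type u} [Group Y] [Finite Y] {S Q A T : Subgroup Y} {ρ : Y}

/-- The square roots of `a` in `T`. -/
def sqFib (T : Subgroup Y) (a : Y) : Set Y := {x | x ∈ T ∧ x * x = a}

theorem card_eq_sqFib {a b : Y} (h4 : Four a b) (hA : ∀ x, x ∈ V a b ↔ x ∈ T ∧ x * x = 1)
    (sq : ∀ x ∈ T, x * x ∈ V a b) : Nat.card T =
      4 + (sqFib T a).ncard + (sqFib T b).ncard + (sqFib T (a * b)).ncard := by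
  have d : ∀ {u v : Y}, u ≠ v → Disjoint (sqFib T u) (sqFib T v) := fun e =>
    Set.disjoint_left.2 fun x h1 h2 => e (h1.2.symm.trans h2.2)
  have e1 : (T : Set Y) = sqFib T 1 ∪ sqFib T a ∪ sqFib T b ∪ sqFib T (a * b) := by
    ext x
    constructor
    · intro hx
      rcases h4.mem_V.1 (sq x hx) with e | e | e | e
      · exact .inl (.inl (.inl ⟨hx, e⟩))
      · exact .inl (.inl (.inr ⟨hx, e⟩))
      · exact .inl (.inr ⟨hx, e⟩)
      · exact .inr ⟨hx, e⟩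
    · rintro (((h | h) | h) | h) <;> exact h.1
  have e2 : sqFib T 1 = (V a b : Set Y) := Set.ext fun x => (hA x).symm
  have n1 : a ≠ b := h4.ne
  have n2 : a ≠ a * b := fun e => h4.s1 (by simpa using e)
  have n3 : b ≠ a * b := fun e => h4.t1 (by simpa using e)
  rw [show Nat.card T = (T : Set Y).ncard from rfl, e1, Set.ncard_union_eq, Set.ncard_union_eq, Set.ncard_union_eq,
    e2, ← h4.card_V]
  · rfl
  · exact d h4.t1.symm
  · exact Set.disjoint_union_left.2 ⟨d h4.s1.symm, d n1⟩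
  · exact Set.disjoint_union_left.2
      ⟨Set.disjoint_union_left.2 ⟨d h4.ts1.symm, d n2⟩, d n3⟩

theorem sqFib_conj (hn : ρ ∈ 𝐍(T)) (a : Y) :
    (sqFib T (ρ * a * ρ⁻¹)).ncard = (sqFib T a).ncard := by
  rw [← Set.ncard_image_of_injective (sqFib T a) (MulAut.conj ρ).injective]
  congr 1
  ext x
  constructor
  · rintro ⟨h1, h2⟩
    refine ⟨ρ⁻¹ * x * ρ⁻¹⁻¹, ⟨conj_mem_of_mem_normalizer (inv_mem hn) h1, ?_⟩, by simp [mul_assoc]⟩
    calc _ = ρ⁻¹ * (x * x) * ρ := by simp only [mul_assoc, inv_inv, mul_inv_cancel_left]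
      _ = a := by rw [h2]; group
  · rintro ⟨x, ⟨h1, h2⟩, rfl⟩
    refine ⟨conj_mem_of_mem_normalizer hn h1, ?_⟩
    rw [← map_mul, h2]; rfl

theorem four_le_sqFib (h4 : Nat.card A = 4) (hE : El A) (h1 : A ≤ T) (h2 : T ≤ 𝐂(A)) (a : Y) :
    (sqFib T a).ncard = 0 ∨ 4 ≤ (sqFib T a).ncard := by
  rcases (sqFib T a).eq_empty_or_nonempty with e | ⟨q, hq, e⟩
  · exact .inl (by rw [e, Set.ncard_empty])
  refine .inr ?_
  rw [← h4, show Nat.card A = (A : Set Y).ncard from rfl, ← Set.ncard_image_of_injective _ (mul_right_injective q)]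
  refine Set.ncard_le_ncard ?_
  rintro _ ⟨x, hx, rfl⟩
  refine ⟨mul_mem hq (h1 hx), ?_⟩
  have := h2 hq x hx
  calc q * x * (q * x) = q * (x * q) * x := by simp only [mul_assoc]
    _ = q * q * (x * x) := by rw [this]; simp only [mul_assoc]
    _ = a := by rw [hE x hx, e, mul_one]

theorem sqFib_modEq {y a : Y} {r : ℕ} (hr : r.Prime) (hy : y ^ r = 1) (hn : y ∈ 𝐍(T))
    (ha : y * a = a * y) : (sqFib T a).ncard ≡ (sqFib (T ⊓ 𝐂[y]) a).ncard [MOD r] := by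
  have := Suz.card_modEq_fixed hr hy (sqFib T a) (fun x hx => ⟨by
    simpa using conj_mem_of_mem_normalizer (inv_mem hn) hx.1, by
    calc _ = y⁻¹ * (x * x * y) := by simp only [mul_assoc, mul_inv_cancel_left]
      _ = a := by rw [hx.2, ← ha, inv_mul_cancel_left]⟩)
  convert this using 2
  ext x
  simp only [sqFib, Set.mem_ofPred_eq, mem_inf, mem_cent1]
  tauto

theorem sqFib_num {r f c1 c2 c3 t : ℕ} (hr : r.Prime) (h2 : r ≠ 2) (hf : f = 4 ∨ f = 20)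
    (ht : t ∣ 4 + f + f + f) (e : t = 4 + c1 + c2 + c3) (l1 : c1 ≤ f) (l2 : c2 ≤ f) (l3 : c3 ≤ f)
    (m1 : f ≡ c1 [MOD r]) (m2 : f ≡ c2 [MOD r]) (m3 : f ≡ c3 [MOD r]) (k1 : c1 = 0 ∨ 4 ≤ c1)
    (k2 : c2 = 0 ∨ 4 ≤ c2) (k3 : c3 = 0 ∨ 4 ≤ c3) :
    t = 4 + f + f + f ∨ (f = 20 ∧ r = 5 ∧ t = 4) := by
  have h64 : t ∣ 2 ^ 6 := ht.trans (by rcases hf with rfl | rfl <;> norm_num)
  obtain ⟨j, hj, hj'⟩ := (Nat.dvd_prime_pow Nat.prime_two).1 h64
  have ht' : t = 1 ∨ t = 2 ∨ t = 4 ∨ t = 8 ∨ t = 16 ∨ t = 32 ∨ t = 64 := by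
    interval_cases j <;> simp [hj']
  have ht2 := Nat.le_of_dvd (by omega) ht
  clear hj' h64 ht
  have d1 := (Nat.modEq_iff_dvd' l1).1 m1.symm
  have d2 := (Nat.modEq_iff_dvd' l2).1 m2.symm
  have d3 := (Nat.modEq_iff_dvd' l3).1 m3.symm
  clear m1 m2 m3
  by_cases h : t = 4 + f + f + f
  · exact .inl h
  have d4 : r ∣ 2 ^ 5 * (3 * (5 * 7)) :=
    (dvd_add (dvd_add d1 d2) d3).trans (by
      have : f - c1 + (f - c2) + (f - c3) = 4 + f + f + f - t := by omega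
      rw [this]
      rcases hf with rfl | rfl <;> rcases ht' with rfl | rfl | rfl | rfl | rfl | rfl | rfl <;>
        omega)
  have d5 : r = 3 ∨ r = 5 ∨ r = 7 := by
    have q : ∀ {p : ℕ}, p.Prime → r ∣ p → r = p := fun hp => (Nat.prime_dvd_prime_iff_eq hr hp).1
    rcases (Nat.Prime.dvd_mul hr).1 d4 with d | d
    · exact absurd (q Nat.prime_two (hr.dvd_of_dvd_pow d)) h2
    rcases (Nat.Prime.dvd_mul hr).1 d with d | d
    · exact .inl (q Nat.prime_three d)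
    · exact .inr (((Nat.Prime.dvd_mul hr).1 d).imp (q Nat.prime_five) (q (by norm_num)))
  clear d4
  rcases hf with rfl | rfl <;> rcases d5 with rfl | rfl | rfl <;> omega

/-- `A = Ω₁(Q)` is a central four-group of `Q`, moved by `ρ`. -/
structure HQ (Q A : Subgroup Y) (ρ : Y) : Prop where
  two : IsPGroup 2 Q
  card : Nat.card A = 4
  mem : ∀ x, x ∈ A ↔ x ∈ Q ∧ x * x = 1
  cent : Q ≤ 𝐂(A)
  norm : ρ ∈ 𝐍(Q)
  odd : Odd (orderOf ρ)
  free : A ⊓ 𝐂[ρ] = ⊥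

namespace HQ
variable (h : HQ Q A ρ)
include h

omit [Finite Y] in
theorem le : A ≤ Q := fun x hx => ((h.mem x).1 hx).1

omit [Finite Y] in
theorem el : El A := fun x hx => ((h.mem x).1 hx).2

theorem normA : ρ ∈ 𝐍(A) := mem_normalizer_of_conj_mem fun a ha =>
  (h.mem _).2 ⟨conj_mem_of_mem_normalizer h.norm (h.le ha), Invol.conj_mul_self (h.el a ha) ρ⟩

theorem four {a : Y} (ha : a ∈ A) (a1 : a ≠ 1) : Four a (ρ * a * ρ⁻¹) ∧
    V a (ρ * a * ρ⁻¹) = A ∧ ρ * (ρ * a * ρ⁻¹) * ρ⁻¹ = a * (ρ * a * ρ⁻¹) :=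
  four_of_fpf h.card h.normA h.free ha (inv_of_mul_self (h.el a ha) a1)

theorem exists_ne : ∃ a ∈ A, a ≠ 1 :=
  A.bot_or_exists_ne_one.resolve_left fun e => by simpa [e] using h.card

theorem higman (nc : ¬ Q ≤ 𝐂(Q)) :
    (∀ x ∈ Q, x * x ∈ A) ∧ (Nat.card Q = 16 ∨ Nat.card Q = 64) := by
  have hinv : CopAut.Inv (MulAut.conj.comp (zpowers ρ).subtype) Q := fun k x hx =>
    conj_mem_of_mem_normalizer (zpowers_le.2 h.norm k.2) hx
  have hm : ∀ x : Q, x ^ 2 = 1 ↔ (x : Y) ∈ A := fun x => by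
    rw [h.mem, Subtype.ext_iff, sq]; simp
  have hH : Suz.HigSetup (Suz.restrInv hinv) := by
    refine ⟨h.two, by rw [Nat.card_zpowers]; exact h.odd,
      isSolvable_of_isMulCommutative, fun x y hx hx2 hy hy2 => ?_, ?_⟩
    · obtain ⟨h4, hV, h3⟩ := h.four ((hm x).1 hx2) (fun e => hx (Subtype.ext e))
      rcases h4.mem_V.1 (hV ▸ (hm y).1 hy2) with e | e | e | e
      · exact absurd (Subtype.ext e) hy
      · exact ⟨1, by rw [map_one]; exact Subtype.ext e.symm⟩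
      · exact ⟨⟨ρ, mem_zpowers ρ⟩, Subtype.ext e.symm⟩
      · refine ⟨⟨ρ * ρ, mul_mem (mem_zpowers ρ) (mem_zpowers ρ)⟩, Subtype.ext ?_⟩
        rw [e, ← h3]
        show ρ * ρ * x * (ρ * ρ)⁻¹ = _
        simp only [mul_assoc, mul_inv_rev]
    · obtain ⟨a, ha, h1⟩ := h.exists_ne
      obtain ⟨h4, -, -⟩ := h.four ha h1
      have hb := conj_mem_of_mem_normalizer h.normA ha
      exact ⟨⟨a, h.le ha⟩, ⟨_, h.le hb⟩, fun e => h4.ne (congrArg Subtype.val e),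
        fun e => h1 (congrArg Subtype.val e), (hm _).2 ha,
        fun e => h4.s1 (congrArg Subtype.val e), (hm _).2 hb⟩
  have hnc : ∃ u v : Q, ⁅u, v⁆ ≠ 1 := by
    by_contra hc
    push Not at hc
    exact nc fun u hu v hv => congrArg Subtype.val
      (commutatorElement_eq_one_iff_mul_comm.1 (hc ⟨v, hv⟩ ⟨u, hu⟩))
  have hc : Nat.card (Suz.omZ Q) = 4 := by
    rw [← h.card, ← card_subgroupOf_of_le h.le]
    congr 2
    ext x
    rw [hH.mem_omZ, hm, mem_subgroupOf]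
  exact ⟨fun x hx => by simpa [sq] using (hm _).1 (hH.sq_sq hnc ⟨x, hx⟩),
    by simpa [hc] using hH.card_eq hnc⟩

theorem card_eq {a : Y} (ha : a ∈ A) (a1 : a ≠ 1) (h1 : A ≤ T) (h2 : T ≤ Q)
    (sq : ∀ x ∈ Q, x * x ∈ A) : Nat.card T = 4 + (sqFib T a).ncard +
      (sqFib T (ρ * a * ρ⁻¹)).ncard + (sqFib T (ρ * (ρ * a * ρ⁻¹) * ρ⁻¹)).ncard := by
  obtain ⟨h4, hV, h3⟩ := h.four ha a1
  rw [h3]
  refine card_eq_sqFib h4 (fun x => ?_) fun x hx => hV ▸ sq x (h2 hx)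
  rw [hV]
  exact ⟨fun hx => ⟨h1 hx, h.el x hx⟩, fun hx => (h.mem x).2 ⟨h2 hx.1, hx.2⟩⟩

theorem card_eq' {a : Y} (ha : a ∈ A) (a1 : a ≠ 1) (sq : ∀ x ∈ Q, x * x ∈ A) :
    Nat.card Q = 4 + (sqFib Q a).ncard + (sqFib Q a).ncard + (sqFib Q a).ncard := by
  rw [h.card_eq ha a1 h.le le_rfl sq, sqFib_conj h.norm (ρ * a * ρ⁻¹), sqFib_conj h.norm]

theorem count (nc : ¬ Q ≤ 𝐂(Q)) {y : Y} {r : ℕ} (hr : r.Prime) (h2 : r ≠ 2) (hy : y ^ r = 1)
    (hn : y ∈ 𝐍(Q)) (hc : y ∈ 𝐂(A)) :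
    Q ≤ 𝐂[y] ∨ (Nat.card Q = 64 ∧ r = 5 ∧ Q ⊓ 𝐂[y] ≤ A) := by
  obtain ⟨sq, hcard⟩ := h.higman nc
  obtain ⟨a, ha, a1⟩ := h.exists_ne
  have hb := conj_mem_of_mem_normalizer h.normA ha
  have hd := conj_mem_of_mem_normalizer h.normA hb
  have e1 := h.card_eq' ha a1 sq
  have hT : A ≤ Q ⊓ 𝐂[y] := le_inf h.le fun x hx => mem_cent1.2 (hc x hx)
  have l : ∀ u, (sqFib (Q ⊓ 𝐂[y]) u).ncard ≤ (sqFib Q u).ncard := fun u =>
    Set.ncard_le_ncard fun x hx => ⟨hx.1.1, hx.2⟩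
  have m : ∀ u ∈ A, (sqFib Q u).ncard ≡ (sqFib (Q ⊓ 𝐂[y]) u).ncard [MOD r] := fun u hu =>
    sqFib_modEq hr hy hn (hc u hu).symm
  have k := four_le_sqFib h.card h.el hT (inf_le_left.trans h.cent)
  have c1 := sqFib_conj h.norm a
  have c2 := (sqFib_conj h.norm _).trans c1
  rcases sqFib_num (f := (sqFib Q a).ncard) hr h2 (by omega)
    (e1 ▸ card_dvd_of_le (inf_le_left : Q ⊓ 𝐂[y] ≤ Q)) (h.card_eq ha a1 hT inf_le_left sq)
    (l a) (c1 ▸ l _) (c2 ▸ l _) (m a ha) (c1 ▸ m _ hb) (c2 ▸ m _ hd) (k _) (k _) (k _) with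
    e | ⟨e2, e3, e4⟩
  · exact .inl (inf_eq_left.1 (eq_of_le_of_card_ge inf_le_left (by omega)))
  · exact .inr ⟨by omega, e3, (eq_of_le_of_card_ge hT (by rw [e4, h.card])).ge⟩

end HQ

theorem comm_of_card_dvd_five {D : Subgroup Y} [D.Normal] (h5 : Nat.card D ∣ 5) {n x : Y}
    (hn : n ^ 3 ∈ D) (hx : x ∈ D) : n * x = x * n := by
  have := Fact.mk Nat.prime_five
  have hc : IsCyclic D := isCyclic_of_card_dvd_prime h5
  have h4 : (MulAut.conjNormal n : MulAut D) ^ 4 = 1 := by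
    refine orderOf_dvd_iff_pow_eq_one.1 ((_root_.orderOf_dvd_natCard _).trans ?_)
    rw [IsCyclic.card_mulAut]
    rcases (Nat.dvd_prime Nat.prime_five).1 h5 with e | e <;> rw [e] <;> decide
  have h3 : (MulAut.conjNormal n : MulAut D) ^ 3 = 1 := by
    rw [← map_pow]
    ext z
    have := congrArg Subtype.val (hc.isMulCommutative.is_comm.comm ⟨_, hn⟩ z)
    simp only [coe_mul] at this
    rw [MulAut.conjNormal_apply, this, mul_inv_cancel_right]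
    rfl
  rw [pow_succ, h3, one_mul] at h4
  have := congrArg Subtype.val (DFunLike.congr_fun h4 ⟨x, hx⟩)
  exact mul_inv_eq_iff_eq_mul.1 (by simpa using this)

theorem card_eq_pow_of_prime {H : Subgroup Y} {p t : ℕ} (ht : t ∣ Nat.card H)
    (h : ∀ y ∈ H, (orderOf y).Prime → orderOf y ∣ t → orderOf y = p) : ∃ k, t = p ^ k :=
  ⟨_, Nat.eq_prime_pow_of_unique_prime_dvd (ne_zero_of_dvd_ne_zero Nat.card_pos.ne' ht)
    fun {r} hr hd => by
      have := Fact.mk hr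
      obtain ⟨y, hy⟩ := exists_prime_orderOf_dvd_card' r (hd.trans ht)
      rw [← orderOf_coe] at hy
      exact hy ▸ h y y.2 (hy ▸ hr) (hy ▸ hd)⟩

theorem HQ.struct (h : HQ S A ρ) (hS : IsSylowIn 2 S ⊤) [hN : Q.Normal] [A.Normal]
    (hQ : IsPGroup 2 Q) (hAQ : A ≤ Q) (hE : ∀ y ∈ 𝐂(A), Odd (orderOf y) → Q ≤ 𝐂[y] → y = 1)
    (h3 : ∀ n : Y, n ^ 3 ∈ 𝐂(A)) {y : Y} (hy : y ∈ 𝐂(A)) (hr : (orderOf y).Prime)
    (h2 : orderOf y ≠ 2) : orderOf y = 5 ∧ ∀ n : Y, ∀ x ∈ 𝐂(A), ⁅n, x⁆ ∈ S := by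
  have := Fact.mk Nat.prime_two
  have hn : ∀ g, g ∈ 𝐍(Q) := fun g => le_normalizer_of_normal (K := ⊤) (mem_top g)
  have hQS : Q ≤ S := ((hS.inf_of_le_normalizer le_top fun g _ => hn g).eq_of_le hQ inf_le_right
    le_rfl).le.trans inf_le_left
  have h' : HQ Q A ρ := ⟨hQ, h.card, fun x => ⟨fun hx => ⟨hAQ hx, h.el x hx⟩,
    fun hx => (h.mem x).2 ⟨hQS hx.1, hx.2⟩⟩, hQS.trans h.cent, hn ρ, h.odd, h.free⟩
  have key : ∀ y ∈ 𝐂(A), (orderOf y).Prime → orderOf y ≠ 2 →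
      ¬ Q ≤ 𝐂(Q) ∧ Nat.card Q = 64 ∧ orderOf y = 5 ∧ Q ⊓ 𝐂[y] ≤ A := fun y hy hr h2 => by
    have ho := hr.odd_of_ne_two h2
    have h1 : ¬ Q ≤ 𝐂[y] := fun e => hr.ne_one (orderOf_eq_one_iff.2 (hE y hy ho e))
    have nc : ¬ Q ≤ 𝐂(Q) := fun e => h1 fun x hx => mem_cent1.2
      (commutator_eq_bot_iff_le_centralizer.1 (commutator_eq_bot_of_centralizes_omega_abelian hQ
        (le_centralizer_iff_isMulCommutative.1 e) (zpowers_le.2 (hn y))
        (by rw [Nat.card_zpowers]; exact Nat.coprime_two_right.2 ho) fun z hz z2 =>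
          le_centralizer_iff.1 (zpowers_le.2 hy) ((h'.mem z).2 ⟨hz, by rwa [← sq]⟩)) hx y
            (mem_zpowers y)).symm
    exact ⟨nc, (h'.count nc hr h2 (pow_orderOf_eq_one y) (hn y) hy).resolve_left h1⟩
  obtain ⟨nc, h64, h5, -⟩ := key y hy hr h2
  obtain rfl : Q = S := eq_of_le_of_card_ge hQS (by
    have := (h.higman fun e => nc (hQS.trans (e.trans (centralizer_le hQS)))).2
    omega)
  refine ⟨h5, fun n x hx => ?_⟩
  obtain ⟨q, hq, hqA⟩ : ∃ q ∈ Q, q ∉ A := by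
    by_contra hc
    push Not at hc
    have := card_le_of_le (show Q ≤ A from hc)
    rw [h.card] at this
    omega
  have sq := (h.higman nc).1
  have e20 := h.card_eq' (sq q hq) (fun e => hqA ((h.mem q).2 ⟨hq, e⟩)) sq
  have hm : (𝐂[q]).relIndex 𝐂(A) ≤ 20 := by
    rw [← Frob.ncard_conj_subgroup]
    refine (Set.ncard_le_ncard (t := sqFib Q (q * q)) ?_).trans (by omega)
    rintro _ ⟨g, hg, rfl⟩
    refine ⟨hN.conj_mem q hq g, ?_⟩
    calc _ = g * (q * q) * g⁻¹ := by simp only [mul_assoc, inv_mul_cancel_left]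
      _ = _ := by rw [← hg _ (sq q hq), mul_inv_cancel_right]
  obtain ⟨k, hk⟩ := card_eq_pow_of_prime (H := 𝐂[q] ⊓ 𝐂(A)) (p := 2) dvd_rfl fun z hz z1 _ =>
    by_contra fun z2 => hqA ((key z hz.2 z1 z2).2.2.2 ⟨hq, mem_cent1_comm.1 hz.1⟩)
  have hd : Q.relIndex 𝐂(A) ∣ Nat.card 𝐂(A) := relIndex_dvd_card _ _
  have ho : ¬ 2 ∣ Q.relIndex 𝐂(A) := (hS.mono h.cent le_top).not_dvd
  obtain ⟨j, hj⟩ := card_eq_pow_of_prime (p := 5) hd fun z hz z1 z3 =>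
    (key z hz z1 fun e => ho (e ▸ z3)).2.2.1
  have h6 : Q.relIndex 𝐂(A) ≤ 20 := by
    refine (Nat.le_of_dvd (Nat.pos_of_ne_zero index_ne_zero_of_finite)
      (Nat.Coprime.dvd_of_dvd_mul_left (m := 2 ^ k) ?_ ?_)).trans hm
    · exact ((Nat.prime_two.coprime_iff_not_dvd.2 ho).symm).pow_right k
    · rw [← hk, ← card_subgroupOf_of_le (inf_le_right : 𝐂[q] ⊓ 𝐂(A) ≤ _), inf_subgroupOf_right,
        card_mul_index]
      exact hd
  have h7 : Nat.card ((𝐂(A)).map (QuotientGroup.mk' Q)) ∣ 5 := by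
    rw [← relIndex_ker, QuotientGroup.ker_mk', hj]
    rw [hj] at h6
    rcases j with _ | _ | j
    · simp
    · simp
    · have := Nat.one_le_pow j 5 (by norm_num)
      rw [pow_succ, pow_succ] at h6
      omega
  have : ((𝐂(A)).map (QuotientGroup.mk' Q)).Normal := Normal.map inferInstance _
    (QuotientGroup.mk'_surjective Q)
  have := comm_of_card_dvd_five h7 (n := QuotientGroup.mk' Q n)
    (map_pow (QuotientGroup.mk' Q) n 3 ▸ mem_map_of_mem _ (h3 n)) (mem_map_of_mem _ hx)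
  rw [← QuotientGroup.eq_one_iff]
  show QuotientGroup.mk' Q _ = 1
  rwa [map_commutatorElement, commutatorElement_eq_one_iff_mul_comm]

end CfsgLib.GO
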