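import Cfsg.Agent.Lib.Gol.T1a

/-!
# Sylow `2`-subgroups of type `U₃(4)`: the character argument
-/

set_option autoImplicit false

namespace CfsgLib.GO.U3

open Subgroup Cfsg CfsgLib.FT CfsgLib.FT.BGN CfsgLib.Blk CfsgLib.GW CfsgLib.SigX
open scoped commutatorElement ComplexConjugate

variable {G : Type*} [Group G]

namespace Hb

variable [Fintype G] {S A : Subgroup G} {d s a : G} (h : Hb S A d)
include h

theorem normA' : S ≤ 𝐍(A) := h.cen.trans (centralizer_le_normalizer _)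

theorem T0_A {θ : G → ℂ} (hθ : ∀ a ∈ A, θ a = 0) (ha : a ∈ A) : T0 S ⊤ θ a = 0 := by
  obtain ⟨k, hk⟩ := h.exists_pow (h.le ha)
  rw [T0_apply le_top, Finset.sum_eq_zero, mul_zero]
  intro x hx
  by_cases hxA : x ∈ A
  · rw [hθ x hxA, zero_mul]
  obtain ⟨k', hk'⟩ := h.exists_pow (mem_elems.1 hx)
  rw [kerB_of_not_conj hk (mem_top a) hk' fun z _ e => hxA ?_, mul_zero]
  have e2 : z⁻¹ * a * z⁻¹⁻¹ = x := by rw [← e]; group
  exact e2 ▸ h.conj_memA ha (e2 ▸ mem_elems.1 hx)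

theorem T0_val {θ : G → ℂ} (hθ : ∀ x, ∀ a ∈ A, θ (x * a) = θ x) (hs : s ∈ S) (h1 : s ∉ A) :
    T0 S ⊤ θ s = θ s + θ (d * s * d⁻¹) + θ (d * (d * s * d⁻¹) * d⁻¹) := by
  classical
  obtain ⟨k, hk⟩ := h.exists_pow hs
  have hs1 : s ≠ 1 := fun e => h1 (e ▸ one_mem A)
  have hK : kerB (B0 2 ⊤) s s = 16 := by
    rw [kerB_self_of_nilp2 hk (mem_top s) (by rw [top_inf_eq]; exact h.nilp hs hs1)
      (by rw [top_inf_eq]; exact h.syl2 hs hs1), h.card_cent hs h1]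
    norm_num
  have key : ∀ x ∈ S, x ∉ A → kerB (B0 2 ⊤) s x = 16 →
      ∑ y ∈ elems (S : Set G), cf1 A (x⁻¹ * y) * (θ y * kerB (B0 2 ⊤) s y) = 64 * θ x := by
    intro x hx hxA hxK
    rw [← sum_elems_mul_left hx]
    simp only [inv_mul_cancel_left]
    rw [sum_elems_mul_CF h.le, Finset.sum_congr rfl (g := fun _ => θ x * 16), sum_elems_const,
      h.cardA]
    · simp only [nsmul_eq_mul]; push_cast; ring
    · intro a ha
      obtain ⟨u, -, e⟩ := h.cls hx hxA (mem_elems.1 ha)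
      rw [hθ x a (mem_elems.1 ha), ← e, kerB_conj_right _ _ (mem_top u), hxK]
  have k1 := key s hs h1 hK
  have k2 := key _ (h.mem hs) (h.notA hs h1) (by rw [kerB_conj_right _ _ (mem_top d), hK])
  have k3 := key _ (h.mem (h.mem hs)) (h.notA (h.mem hs) (h.notA hs h1))
    (by rw [kerB_conj_right _ _ (mem_top d), kerB_conj_right _ _ (mem_top d), hK])
  have n1 : ∀ x, s⁻¹ * x ∈ A → (d * s * d⁻¹)⁻¹ * x ∉ A := fun x e1 e2 => h1 (h.freeA hs (by
    simpa [mul_assoc] using mul_mem e1 (inv_mem e2)))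
  have n2 : ∀ x, s⁻¹ * x ∈ A → (d * (d * s * d⁻¹) * d⁻¹)⁻¹ * x ∉ A := fun x e1 e2 =>
    h1 (h.freeA2 hs (by simpa [mul_assoc] using mul_mem e1 (inv_mem e2)))
  have n3 : ∀ x, (d * s * d⁻¹)⁻¹ * x ∈ A → (d * (d * s * d⁻¹) * d⁻¹)⁻¹ * x ∉ A := fun x e1 e2 =>
    h.notA hs h1 (h.freeA (h.mem hs) (by simpa [mul_assoc] using mul_mem e1 (inv_mem e2)))
  rw [T0_apply le_top, Finset.sum_congr rfl (g := fun y =>
    cf1 A (s⁻¹ * y) * (θ y * kerB (B0 2 ⊤) s y) +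
    cf1 A ((d * s * d⁻¹)⁻¹ * y) * (θ y * kerB (B0 2 ⊤) s y) +
    cf1 A ((d * (d * s * d⁻¹) * d⁻¹)⁻¹ * y) * (θ y * kerB (B0 2 ⊤) s y)),
    Finset.sum_add_distrib, Finset.sum_add_distrib, k1, k2, k3, h.cardS]
  · push_cast; ring
  intro x hx
  by_cases e1 : s⁻¹ * x ∈ A
  · rw [cf1_apply e1, cf1_apply_of_notMem (n1 x e1), cf1_apply_of_notMem (n2 x e1)]; ring
  by_cases e2 : (d * s * d⁻¹)⁻¹ * x ∈ A
  · rw [cf1_apply e2, cf1_apply_of_notMem e1, cf1_apply_of_notMem (n3 x e2)]; ring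
  by_cases e3 : (d * (d * s * d⁻¹) * d⁻¹)⁻¹ * x ∈ A
  · rw [cf1_apply e3, cf1_apply_of_notMem e1, cf1_apply_of_notMem e2]; ring
  obtain ⟨k', hk'⟩ := h.exists_pow (mem_elems.1 hx)
  rw [kerB_of_not_conj hk (mem_top s) hk' fun z _ e => ?_]
  · ring
  have e4 : z⁻¹ * s * z⁻¹⁻¹ = x := by rw [← e]; group
  have := h.fus hs (g := z⁻¹) (e4 ▸ mem_elems.1 hx) h1
  rw [e4] at this
  tauto

/-- The action on characters. -/
def sg (μ : Irr S) : Irr S := ⟨cfConjg d⁻¹ μ, μ.irr.cfConjg (inv_mem h.norm)⟩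

theorem sg_apply (μ : Irr S) (x : G) : h.sg μ x = μ (d * x * d⁻¹) := by
  change μ (d⁻¹⁻¹ * x * d⁻¹) = _
  rw [inv_inv]

theorem lin {μ : Irr S} (hμ : μ ∈ XI S A) : IsLin S μ :=
  μ.irr.isLin_of_commutator_le (h.higman.2.1.trans (mem_XI.1 hμ))

theorem apply_A {μ : Irr S} (hμ : μ ∈ XI S A) (ha : a ∈ A) : μ a = 1 := by
  rw [cfker_apply (mem_XI.1 hμ ha), (h.lin hμ).one]

theorem sg_mem {μ : Irr S} (hμ : μ ∈ XI S A) : h.sg μ ∈ XI S A := by
  rw [mem_XI, (h.sg μ).isChar.le_cfker h.le]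
  intro x hx
  rw [sg_apply, sg_apply, h.apply_A hμ (h.memd hx), h.apply_A hμ (h.memd (one_mem A))]

theorem one_mem_XI : (1 : Irr S) ∈ XI S A := by
  rw [mem_XI, Irr.coe_one, cfker_cf1]; exact h.le

omit h in
theorem irr_ext {μ ν : Irr S} (e : ∀ x ∈ S, μ x = ν x) : μ = ν := by
  refine Irr.ext (funext fun x => ?_)
  by_cases hx : x ∈ S
  · exact e x hx
  · rw [μ.mem_CF.1 x hx, ν.mem_CF.1 x hx]

theorem sg_cube (μ : Irr S) : h.sg (h.sg (h.sg μ)) = μ :=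
  irr_ext fun x hx => by rw [sg_apply, sg_apply, sg_apply, h.cube hx]

theorem sg_one : h.sg 1 = 1 :=
  irr_ext fun x hx => by rw [sg_apply, Irr.coe_one, cf1_apply hx, cf1_apply (h.mem hx)]

theorem sg_ne {μ : Irr S} (hμ : μ ∈ XI S A) (h1 : μ ≠ 1) : h.sg μ ≠ μ := fun e =>
  h1 <| irr_ext fun x hx => by
  have e1 : ∀ y, μ (d * y * d⁻¹) = μ y := fun y => by rw [← sg_apply h, e]
  have h3 := h.apply_A hμ (h.normA hx)
  rw [(h.lin hμ).map_mul (mul_mem hx (h.mem hx)) (h.mem (h.mem hx)),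
    (h.lin hμ).map_mul hx (h.mem hx), e1, e1, e1] at h3
  have h4 := h.apply_A hμ (h.sqA hx)
  rw [(h.lin hμ).map_mul hx hx] at h4
  rw [Irr.coe_one, cf1_apply hx, ← h3, h4, one_mul]

theorem sg_ne_one {μ : Irr S} (h1 : μ ≠ 1) : h.sg μ ≠ 1 := fun e => h1 (by
  rw [← h.sg_cube μ, e, h.sg_one, h.sg_one])

theorem sg_sg_ne {μ : Irr S} (hμ : μ ∈ XI S A) (h1 : μ ≠ 1) : h.sg (h.sg μ) ≠ μ := fun e =>
  h.sg_ne hμ h1 (by
    have := h.sg_cube μ
    rwa [e] at this)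

theorem sub_A {μ : Irr S} (hμ : μ ∈ XI S A) (ha : a ∈ A) : (cf1 S - (μ : G → ℂ)) a = 0 := by
  rw [Pi.sub_apply, cf1_apply (h.le ha), h.apply_A hμ ha, sub_self]

theorem Th_odd {μ : Irr S} (hμ : μ ∈ XI S A) {g : G} (hg : Odd (orderOf g)) :
    Homo.Th μ g = 0 := T0_odd le_top h.syl.isPGroup (h.sub_A hμ (one_mem A)) hg

theorem Th_A {μ : Irr S} (hμ : μ ∈ XI S A) (ha : a ∈ A) : Homo.Th μ a = 0 :=
  h.T0_A (fun _ ha => h.sub_A hμ ha) ha

theorem Th_val {μ : Irr S} (hμ : μ ∈ XI S A) (hs : s ∈ S) :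
    Homo.Th μ s = 3 - μ s - h.sg μ s - h.sg (h.sg μ) s := by
  by_cases h1 : s ∈ A
  · rw [h.Th_A hμ h1, h.apply_A hμ h1, h.apply_A (h.sg_mem hμ) h1,
      h.apply_A (h.sg_mem (h.sg_mem hμ)) h1]
    norm_num
  · rw [Homo.Th, h.T0_val _ hs h1, sg_apply, sg_apply, sg_apply]
    · simp only [Pi.sub_apply, cf1_apply hs, cf1_apply (h.mem hs), cf1_apply (h.mem (h.mem hs))]
      ring
    · intro x a ha
      rw [Pi.sub_apply, Pi.sub_apply, cfker_mul_right μ.mem_CF (mem_XI.1 hμ ha),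
        cfker_mul_right cf1_mem_CF (cfker_cf1 (L := S).symm ▸ h.le ha)]

open Classical in
theorem cfdot_Th {μ ν : Irr S} (hν : ν ∈ XI S A) (h1 : μ ≠ 1) (h2 : ν ≠ 1) :
    cfdot ⊤ (Homo.Th μ) (Homo.Th ν) =
      if μ ∈ ({ν, h.sg ν, h.sg (h.sg ν)} : Finset (Irr S)) then 4 else 3 := by
  rw [Homo.Th, cfdot_T0' le_top (Homo.proj0_Th ν), cfdot_congr (φ := cf1 S - (μ : G → ℂ))
    (φ' := ((1 : Irr S) : G → ℂ) - (μ : G → ℂ))
    (ψ' := ((3 : ℕ) : ℂ) • ((1 : Irr S) : G → ℂ) - (ν : G → ℂ) - (h.sg ν : G → ℂ) -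
      (h.sg (h.sg ν) : G → ℂ)) (fun _ _ => rfl)
    (fun x hx => by
      rw [h.Th_val hν hx]
      simp [cf1_apply hx])]
  have n1 := h.sg_ne hν h2
  have n2 := h.sg_sg_ne hν h2
  have n3 := h.sg_ne (h.sg_mem hν) (h.sg_ne_one h2)
  simp only [cfdot_sub_left, cfdot_sub_right, cfdot_natCast_smul_right, Irr.cfdot_eq, if_true,
    if_neg h1, if_neg h2.symm, if_neg (h.sg_ne_one h2).symm,
    if_neg (h.sg_ne_one (h.sg_ne_one h2)).symm, Finset.mem_insert, Finset.mem_singleton]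
  by_cases e1 : μ = ν
  · subst e1; simp [n1.symm, n2.symm]; norm_num
  by_cases e2 : μ = h.sg ν
  · subst e2; simp [n1, n3.symm]; norm_num
  by_cases e3 : μ = h.sg (h.sg ν)
  · subst e3; simp [n2, n3]; norm_num
  simp [e1, e2, e3]

theorem Th_eq_zero {μ : Irr S} (hμ : μ ∈ XI S A) {t g : G} (ht : t * t = 1)
    (e : t * g * t⁻¹ = g⁻¹) : Homo.Th μ g = 0 := by
  obtain ⟨a, ha, b, -, rfl, hc, ⟨k, hk⟩, ho⟩ := exists_p_part Nat.prime_two g
  have ho' := Nat.coprime_two_right.1 ho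
  by_cases h1 : a = 1
  · exact h.Th_odd hμ (by rwa [h1, one_mul])
  obtain ⟨c, hs⟩ := h.exists_conj_memA (k := k) ht (by rw [← hk, pow_orderOf_eq_one])
    (H5.inverts_of_mem_zpowers e ha)
  obtain ⟨k', hk'⟩ := h.exists_pow (h.le hs)
  rw [← (ZIrr_mem_CF (Homo.Th_ZIrr μ)).2 c (mem_top c), ← _root_.conj_mul, ← Homo.proj0_Th,
    proj0_mul hk' (mem_top _), Homo.proj0_Th, h.Th_A hμ hs]
  rw [top_inf_eq]
  refine h.nilp (h.le hs) (U4.conj_ne_one_iff.2 h1) _ (U4.mem_cent1.2 ?_) (by rwa [U4.orderOf_conj])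
  rw [_root_.conj_mul, _root_.conj_mul, hc.eq]

theorem exists_triple : ∃ E : Irr S → Finset (G → ℂ), ∀ μ ∈ XI S A, μ ≠ 1 → (E μ).card = 3 ∧
    (∀ α ∈ E μ, IsDirr ⊤ α) ∧ Orthonormal' ⊤ (E μ) ∧ Homo.Th μ - cf1 ⊤ = ∑ α ∈ E μ, α := by
  have : ∀ μ : Irr S, ∃ E : Finset (G → ℂ), μ ∈ XI S A → μ ≠ 1 → E.card = 3 ∧
      (∀ α ∈ E, IsDirr ⊤ α) ∧ Orthonormal' ⊤ E ∧ Homo.Th μ - cf1 ⊤ = ∑ α ∈ E, α := fun μ => by
    by_cases h1 : μ = 1
    · exact ⟨∅, fun _ h => absurd h1 h⟩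
    by_cases h2 : μ ∈ XI S A
    swap
    · exact ⟨∅, fun h => absurd h h2⟩
    obtain ⟨E, hE⟩ := zchar_small_norm (n := 3) (sub_mem (Homo.Th_ZIrr μ) cf1_mem_ZIrr)
      (cfnorm_eq_of_cfdot_eq (by
        rw [cfdot_sub_left, cfdot_sub_right, cfdot_sub_right, h.cfdot_Th h2 h1 h1,
          Homo.cfdot_Th_one h1, ZIrr_cfdot_comm cf1_mem_ZIrr (Homo.Th_ZIrr μ),
          Homo.cfdot_Th_one h1, cfdot_cf1, if_pos (by simp)]
        norm_num)) (by norm_num)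
    exact ⟨E, fun _ _ => hE⟩
  exact ⟨fun μ => (this μ).choose, fun μ => (this μ).choose_spec⟩

theorem card_XI : (XI S A).card = 16 := by
  classical
  rw [← h.relIndex_A, ← card_irr_ker_of_commutator_le h.le h.higman.2.1]
  congr 1

theorem irr_eq_zero {χ : Irr S} (hχ : χ ∉ XI S A) (hs : s ∈ S) (h1 : s ∉ A) : χ s = 0 := by
  have h2 := χ.irr.sum_eq_zero_of_not_le h.le h.normA' (fun e => hχ (mem_XI.2 e)) s
  rw [Finset.sum_congr rfl (g := fun _ => χ s), sum_elems_const, h.cardA] at h2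
  · simpa using h2
  · intro a ha
    obtain ⟨u, hu, e⟩ := h.cls hs h1 (mem_elems.1 ha)
    rw [h.comm (mem_elems.1 ha) hs, ← e, CF_conj χ.mem_CF hu]

theorem eq_zero_of_const {φ : G → ℂ} (hφ : φ ∈ CF S) {c : ℂ}
    (hc : ∀ μ ∈ XI S A, cfdot S φ μ = c) (hs : s ∈ S) (h1 : s ∉ A) : φ s = 0 := by
  classical
  have h2 := sum_irr_ker_mul h.le h.normA' s
  rw [if_neg h1] at h2
  rw [cfun_sum_cfdot hφ, Finset.sum_apply, ← Finset.sum_subset (Finset.subset_univ (XI S A))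
    (fun χ _ hχ => by rw [Pi.smul_apply, h.irr_eq_zero hχ hs h1, smul_zero]),
    Finset.sum_congr rfl (g := fun μ : Irr S => c * (μ 1 * μ s)) fun μ hμ => by
      rw [hc μ hμ, (h.lin hμ).one, one_mul, Pi.smul_apply, smul_eq_mul], ← Finset.mul_sum]
  rw [show ∑ μ ∈ XI S A, μ 1 * μ s = 0 from h2, mul_zero]

/-- The congruences for a virtual character which is `1` on the elements of order `4`. -/
theorem congr_of_one {α : G → ℂ} (hα : α ∈ ZIrr (⊤ : Subgroup G))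
    (h1 : ∀ s ∈ S, s ∉ A → α s = 1) {t : G} (ht : t ∈ A) (ht1 : t ≠ 1) :
    ∃ p x : ℤ, α t = 4 * p + 1 ∧ α 1 = 4 * p + 1 + 16 * x := by
  classical
  have hc := ZIrr_mem_CF hα
  have hval : ∀ a ∈ A, a ≠ 1 → α a = α t := fun a ha ha1 => by
    rcases h.casesA ht ht1 ha with e | e | e | e
    · exact absurd e ha1
    · rw [e]
    · rw [e, CF_conj hc (mem_top d)]
    · rw [e, CF_conj hc (mem_top d), CF_conj hc (mem_top d)]
  have key : ∀ ψ ∈ ZIrr S, ∃ n : ℤ,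
      (α t - 1) * ∑ a ∈ elems (A : Set G), conj (ψ a) + (α 1 - α t) * conj (ψ 1) = 64 * n := by
    intro ψ hψ
    obtain ⟨n, hn⟩ := ZIrr_cfdot_int (sub_mem (ZIrr_cfRes le_top hα) (cf1_mem_ZIrr (L := S))) hψ
    refine ⟨n, ?_⟩
    rw [cfdot_eq_sum_of_supp (A := A) h.le (fun x hx hxA => by
      rw [Pi.sub_apply, cfRes_apply hx, cf1_apply hx, h1 x hx hxA, sub_self, zero_mul]), h.cardS,
      Finset.sum_congr rfl (g := fun a => (α t - 1) * conj (ψ a) +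
        if a = 1 then (α 1 - α t) * conj (ψ 1) else 0), Finset.sum_add_distrib,
      Finset.sum_ite_eq' , if_pos (mem_elems.2 (one_mem A)), ← Finset.mul_sum] at hn
    · rw [← hn]; push_cast; ring
    · intro a ha
      have ha' := mem_elems.1 ha
      rw [Pi.sub_apply, cfRes_apply (h.le ha'), cf1_apply (h.le ha')]
      split_ifs with e
      · rw [e]; ring
      · rw [hval a ha' e]; ring
  obtain ⟨m, hm⟩ := key _ cf1_mem_ZIrr
  rw [Finset.sum_congr rfl (g := fun _ => (1 : ℂ)) (fun a ha => by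
    rw [cf1_apply (h.le (mem_elems.1 ha)), map_one]), sum_elems_const, h.cardA,
    cf1_apply (one_mem S), map_one] at hm
  obtain ⟨χ, hχ, -, hχt⟩ := exists_irr_ker_not_mem (L := S) (N := ⊥) bot_le le_normalizer_bot
    (h.le ht) ht1
  obtain ⟨k, hk⟩ := key _ hχ.mem_ZIrr
  obtain ⟨n, hn0, hn⟩ := hχ.exists_nat_one
  have h2 := hχ.sum_normal h.le h.normA'
  rw [if_neg fun e => hχt (e ht)] at h2
  rw [← map_sum, h2, map_zero, mul_zero, zero_add, hn, map_natCast] at hk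
  have h3 := hχ.one_sq_le_index h.le fun z hz y hy => by
    rw [← h.comm hz hy]; simp [one_mem]
  rw [hn, h.relIndex_A] at h3
  have h4 := hχ.degree_dvd_card hn
  rw [h.cardS] at h4
  have h5 : n ^ 2 ≤ 16 := by exact_mod_cast h3
  have h6 : n ≤ 4 := by nlinarith
  obtain ⟨a, ha⟩ := ZIrr_one_int hα
  obtain ⟨u, hu⟩ := ZIrr_int_of_pow_eq hα (x := t) fun j hj => hval _ (pow_mem ht j) fun e => by
    have h7 := orderOf_dvd_of_pow_eq_one e
    exact ht1 (orderOf_eq_one_iff.1 (Nat.Coprime.eq_one_of_dvd hj.symm h7))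
  rw [ha, hu] at hm hk
  have h7 : (u - 1) * 4 + (a - u) = 64 * m := by
    have : (((u - 1) * 4 + (a - u) : ℤ) : ℂ) = ((64 * m : ℤ) : ℂ) := by
      push_cast; simpa using hm
    exact_mod_cast this
  have h8 : (a - u) * n = 64 * k := by exact_mod_cast hk
  obtain ⟨x, hx⟩ : 16 ∣ a - u := by
    interval_cases n
    · omega
    · omega
    · omega
    · omega
  refine ⟨(u - 1) / 4, x, ?_, ?_⟩
  · rw [hu, show u = 4 * ((u - 1) / 4) + 1 by omega]
    push_cast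
    rw [show (4 * ((u - 1) / 4) + 1 - 1) / 4 = (u - 1) / 4 by omega]
  · rw [ha, show a = 4 * ((u - 1) / 4) + 1 + 16 * x by omega]
    push_cast
    ring

theorem exists_normal {t : G} (ht : t ∈ A) (ht1 : t ≠ 1) :
    ∃ N : Subgroup G, N.Normal ∧ N ≠ ⊤ ∧ t ∈ N := by
  classical
  obtain ⟨E, hE⟩ := h.exists_triple
  have hdot : ∀ μ ∈ XI S A, ∀ ν ∈ XI S A, μ ≠ 1 → ν ≠ 1 →
      cfdot ⊤ (∑ α ∈ E μ, α) (∑ α ∈ E ν, α) =
      if μ ∈ ({ν, h.sg ν, h.sg (h.sg ν)} : Finset (Irr S)) then 3 else 2 :=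
    fun μ hμ ν hν h1 h2 => by
    rw [← (hE μ hμ h1).2.2.2, ← (hE ν hν h2).2.2.2, cfdot_sub_left, cfdot_sub_right,
      cfdot_sub_right, h.cfdot_Th hν h1 h2, Homo.cfdot_Th_one h1,
      ZIrr_cfdot_comm cf1_mem_ZIrr (Homo.Th_ZIrr ν), Homo.cfdot_Th_one h2, cfdot_cf1]
    split_ifs <;> norm_num
  obtain ⟨P, hP, hPE⟩ := sunflower (F := ((XI S A).erase 1).image E) (fun B hB => by
      obtain ⟨μ, hμ, rfl⟩ := Finset.mem_image.1 hB
      exact (hE μ (Finset.mem_of_mem_erase hμ) (Finset.ne_of_mem_erase hμ)).1)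
    (fun C hC B hB hne => by
      obtain ⟨μ, hμ, rfl⟩ := Finset.mem_image.1 hC
      obtain ⟨ν, hν, rfl⟩ := Finset.mem_image.1 hB
      have h1 := hE μ (Finset.mem_of_mem_erase hμ) (Finset.ne_of_mem_erase hμ)
      have h2 := hE ν (Finset.mem_of_mem_erase hν) (Finset.ne_of_mem_erase hν)
      have h3 := Homo.re_cfdot_le h1.2.1 h2.2.1 h2.2.2.1
      rw [hdot ν (Finset.mem_of_mem_erase hν) μ (Finset.mem_of_mem_erase hμ)
        (Finset.ne_of_mem_erase hν) (Finset.ne_of_mem_erase hμ)] at h3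
      have h4 : 2 ≤ (E μ ∩ E ν).card := by
        have : (2 : ℝ) ≤ (E μ ∩ E ν).card := le_trans (by split_ifs <;> norm_num) h3
        exact_mod_cast this
      have h5 : (E μ ∩ E ν).card < 3 := by
        rw [← h1.1]
        refine Finset.card_lt_card ⟨Finset.inter_subset_left, fun h6 => hne ?_⟩
        exact Finset.eq_of_subset_of_card_le (h6.trans Finset.inter_subset_right)
          (by rw [h1.1, h2.1])
      omega) (by
      have h1 := Finset.card_le_mul_card_image (f := E) ((XI S A).erase 1) 3 fun B hB => by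
        obtain ⟨ν, hν, rfl⟩ := Finset.mem_image.1 hB
        refine le_trans (Finset.card_le_card (t := {ν, h.sg ν, h.sg (h.sg ν)}) fun μ hμ => ?_)
          Finset.card_le_three
        obtain ⟨h1, h2⟩ := Finset.mem_filter.1 hμ
        have h3 := hdot μ (Finset.mem_of_mem_erase h1) ν (Finset.mem_of_mem_erase hν)
          (Finset.ne_of_mem_erase h1) (Finset.ne_of_mem_erase hν)
        have h5 := hE ν (Finset.mem_of_mem_erase hν) (Finset.ne_of_mem_erase hν)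
        by_contra h4
        rw [if_neg h4, h2, cfdot_self, h5.2.2.1.cfnorm_sum, h5.1] at h3
        norm_num at h3
      rw [Finset.card_erase_of_mem h.one_mem_XI, h.card_XI] at h1
      omega)
  have hPE' : ∀ μ ∈ XI S A, μ ≠ 1 → P ⊆ E μ := fun μ hμ h1 =>
    hPE _ (Finset.mem_image_of_mem E (Finset.mem_erase.2 ⟨h1, hμ⟩))
  have hone : ∀ μ ∈ XI S A, μ ≠ 1 → ∀ α ∈ E μ, cfdot ⊤ (Homo.Th μ - cf1 ⊤) α = 1 :=
    fun μ hμ h1 α hα => by
    rw [(hE μ hμ h1).2.2.2, (hE μ hμ h1).2.2.1.cfdot_sum_subset subset_rfl hα, if_pos hα]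
  obtain ⟨l, hl, hl1⟩ := Finset.exists_mem_ne (show 1 < (XI S A).card by rw [h.card_XI]; omega) 1
  have horth : ∀ α ∈ E l, cfdot ⊤ α (cf1 ⊤) = 0 := fun α hα => by
    have h1 := hone l hl hl1 α hα
    have h2 : cfdot ⊤ (Homo.Th l - cf1 ⊤) (cf1 ⊤) = 0 := by
      rw [cfdot_sub_left, Homo.cfdot_Th_one hl1, cfdot_cf1, sub_self]
    rcases ((hE l hl hl1).2.1 α hα).cfdot_cases (isIrr_cf1 ⊤).isDirr with e | e | e
    · rw [e.1, h2] at h1; exact absurd h1 zero_ne_one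
    · rw [e.1, cfdot_neg_right, h2, neg_zero] at h1; exact absurd h1 zero_ne_one
    · exact e.2.2
  have hval : ∀ α ∈ P, ∃ p x : ℤ, α t = 4 * p + 1 ∧ α 1 = 4 * p + 1 + 16 * x := fun α hα => by
    have hαl := hPE' l hl hl1 hα
    have hd := (hE l hl hl1).2.1 α hαl
    have h1 : projB (B0 2 ⊤) α = α := projB_dirr (φ := Homo.Th l - cf1 ⊤) hd (by
      rw [projB_sub, Homo.proj0_Th, proj0_cf1, hone l hl hl1 α hαl]; exact one_ne_zero)
    refine h.congr_of_one hd.mem_ZIrr (fun s hs hsA => ?_) ht ht1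
    have h2 := h.eq_zero_of_const (φ := cfRes S α - cf1 S)
      (sub_mem (cfRes_mem_CF le_top hd.mem_CF) cf1_mem_CF) (c := cfdot S α (cf1 S) - 1)
      (fun μ hμ => by
        rw [cfdot_sub_left, cfdot_cfRes_left, ← Irr.coe_one, Irr.cfdot_eq]
        split_ifs with h3
        · rw [← h3]
        have h4 := hone μ hμ (Ne.symm h3) α (hPE' μ hμ (Ne.symm h3) hα)
        rw [cfdot_sub_left, cfdot_symm_zero (horth α hαl), sub_zero, Homo.Th, cfdot_T0' le_top h1,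
          ← cfdot_conj, cfdot_sub_right, ← map_one (starRingEnd ℂ)] at h4
        rw [← (starRingEnd ℂ).injective h4, Irr.coe_one]
        ring) hs hsA
    rwa [Pi.sub_apply, cfRes_apply hs, cf1_apply hs, sub_eq_zero] at h2
  obtain ⟨α, β, hab, rfl⟩ := Finset.card_eq_two.1 hP
  obtain ⟨γ, hγ, e⟩ := Finset.exists_eq_insert_iff.2 ⟨hPE' l hl hl1, by rw [hP, (hE l hl hl1).1]⟩
  have hαl : α ∈ E l := hPE' l hl hl1 (by simp)
  have hβl : β ∈ E l := hPE' l hl hl1 (by simp)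
  have hγl : γ ∈ E l := e ▸ Finset.mem_insert_self _ _
  have hd := (hE l hl hl1).2.1
  have hsum : ∀ g, Homo.Th l g = 1 + α g + β g + γ g := fun g => by
    have := congrFun (hE l hl hl1).2.2.2 g
    rw [← e, Finset.sum_insert hγ, Finset.sum_pair hab, Pi.sub_apply, cf1_apply (mem_top g)] at this
    simp only [Pi.add_apply] at this
    linear_combination this
  obtain ⟨p, x, v1, hx⟩ := hval α (by simp)
  obtain ⟨q, y, v2, hy⟩ := hval β (by simp)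
  have v3 : γ t = -(3 + 4 * p + 4 * q) := by
    have := hsum t
    rw [h.Th_A hl ht, v1, v2] at this
    linear_combination -this
  have hz : γ 1 = -(3 + 4 * p + 4 * q + 16 * x + 16 * y) := by
    have := hsum 1
    rw [h.Th_A hl (one_mem A), hx, hy] at this
    linear_combination -this
  have htt := ((h.memA t).1 ht).2
  have h1 : ∑ z, Homo.Th l (t * (z * t * z⁻¹)) = 0 := Finset.sum_eq_zero fun z _ =>
    h.Th_eq_zero hl htt (H5.inverts_mul_left (by rw [sq, htt])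
      (by rw [conj_pow, sq, htt, mul_one, mul_inv_cancel]))
  simp only [hsum, Finset.sum_add_distrib, sum_dirr_conj (hd α hαl), sum_dirr_conj (hd β hβl),
    sum_dirr_conj (hd γ hγl), v1, v2, v3, Finset.sum_const, Finset.card_univ, nsmul_eq_mul,
    ← Nat.card_eq_fintype_card] at h1
  have n1 := (hd α hαl).one_ne_zero
  have n2 := (hd β hβl).one_ne_zero
  have n3 := (hd γ hγl).one_ne_zero
  have n4 : (Nat.card G : ℂ) ≠ 0 := Nat.cast_ne_zero.2 Nat.card_pos.ne'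
  field_simp at h1
  rw [hx, hy, hz, mul_zero, mul_eq_zero, or_iff_right n4] at h1
  have h2 : x = 0 := num_odd _ x y (4 * q ^ 2 + 3 * q) (-(8 * p * q + 2 * p + 2 * q + 1))
    (4 * p ^ 2 + 3 * p) 8 le_rfl (by
    have : (((2 * (4 * q ^ 2 + 3 * q) + 1) * x ^ 2 +
        (2 * -(8 * p * q + 2 * p + 2 * q + 1) + 1) * (x * y) +
        (2 * (4 * p ^ 2 + 3 * p) + 1) * y ^ 2 + 8 * (x * y * (x + y)) : ℤ) : ℂ) = 0 := by
      push_cast
      linear_combination (-1 / 512 : ℂ) * h1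
    exact_mod_cast this)
  exact exists_normal_of_dirr (hd α hαl) (horth α hαl) (by rw [v1, hx, h2]; simp)

end Hb

theorem false_of_hb [Finite G] [IsSimpleGroup G] {S A : Subgroup G} {d : G} (h : Hb S A d) :
    False := by
  haveI := Fintype.ofFinite G
  obtain ⟨t, ht, ht1⟩ := h.exists_ne
  obtain ⟨N, hN, h1, h2⟩ := h.exists_normal ht ht1
  rcases hN.eq_bot_or_eq_top with e | e
  · exact ht1 (mem_bot.1 (e ▸ h2))
  · exact h1 e

end CfsgLib.GO.U3
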