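import Cfsg.Agent.Lib.GOB.Defs
import Cfsg.Agent.Lib.Gol.T1b

/-!
# Step B1: self-contained auxiliary results
-/

set_option autoImplicit false

namespace CfsgLib.GO

open Subgroup Cfsg CfsgLib.H1

universe u

/-- (T1) No simple group has a non-abelian Sylow `2`-subgroup with exactly three involutions,
if involution centralizers have normal `2`-complements (Sylow subgroup of `U₃(4)`). -/
theorem false_of_omega_four {G : Type u} [Group G] [Finite G] [IsSimpleGroup G]
    {S A : Subgroup G} (hS : IsSylowIn 2 S ⊤) (h4 : Nat.card A = 4)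
    (hA : ∀ x, x ∈ A ↔ x ∈ S ∧ x * x = 1) (hZ : S ≤ centralizer (A : Set G))
    (hnc : ¬ IsMulCommutative S) (hd : ¬ normalizer (S : Set G) ≤ centralizer (A : Set G))
    (hC : ∀ a ∈ A, a ≠ 1 → HasNormalPComplement 2 (centralizer ({a} : Set G))) : False := by
  obtain ⟨d, h⟩ := U3.exists_hb hS h4 hA hZ hnc hd hC
  exact U3.false_of_hb h

end CfsgLib.GO
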