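import Cfsg.Agent.Lib.GOB.Defs
import Cfsg.Agent.Lib.Wal.Walter
import Cfsg.Agent.Lib.Wal.H5B
import Cfsg.Agent.Lib.GW.Psl
import Cfsg.Agent.Lib.SL2Card

/-!
# Step B1: self-contained auxiliary results
-/

set_option autoImplicit false

namespace CfsgLib.GO

open Subgroup Cfsg CfsgLib.H1

open scoped MatrixGroups

universe u

theorem S3F.not_re3 {G : Type*} [Group G] [Finite G] (h3 : S3F G) : ¬ H5.JB.Re3 G := by
  rintro ⟨y, j, h1, -, h2⟩
  exact h3.not_three_dvd h2 (h1 ▸ dvd_rfl)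

theorem exists_quad_neg_one {F : Type*} [Field F] [Fintype F] (h2 : Fintype.card F % 2 = 1)
    (h3 : (3 : F) ≠ 0) : ∃ a c : F, a ^ 2 - a * c + c ^ 2 = -1 := by
  have h2' : (2 : F) ≠ 0 := Ring.two_ne_zero fun e => by
    rw [FiniteField.even_card_iff_char_two] at e
    omega
  open Polynomial in
  obtain ⟨u, c, h⟩ := FiniteField.exists_root_sum_quadratic (R := F) (f := X ^ 2 + C 4)
    (g := C 3 * X ^ 2) (degree_X_pow_add_C two_pos _) (degree_C_mul_X_pow 2 h3) h2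
  simp only [Polynomial.eval_add, Polynomial.eval_pow, Polynomial.eval_X, Polynomial.eval_C,
    Polynomial.eval_mul] at h
  refine ⟨(u + c) / 2, c, ?_⟩
  field_simp
  linear_combination h

theorem three_dvd_of_psl {F : Type*} [Field F] [Fintype F] (h2 : Fintype.card F % 2 = 1)
    (h : S3F (Matrix.ProjectiveSpecialLinearGroup (Fin 2) F)) : 3 ∣ Fintype.card F := by
  by_contra h3
  have h3' : (3 : F) ≠ 0 := fun e => h3 <| by
    have h4 : ringChar F ∣ 3 := ringChar.dvd (by exact_mod_cast e)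
    obtain ⟨n, hp, hn⟩ := FiniteField.card F (ringChar F)
    rw [hn, (Nat.prime_dvd_prime_iff_eq hp Nat.prime_three).1 h4]
    exact dvd_pow_self 3 n.ne_zero
  obtain ⟨a, c, hac⟩ := exists_quad_neg_one h2 h3'
  obtain ⟨y, y0, y1, y2, y3⟩ : ∃ g : SL(2, F), g 0 0 = 0 ∧ g 0 1 = -1 ∧ g 1 0 = 1 ∧ g 1 1 = -1 :=
    ⟨⟨!![0, -1; 1, -1], by rw [Matrix.det_fin_two_of]; ring⟩, rfl, rfl, rfl, rfl⟩
  obtain ⟨j, j0, j1, j2, j3⟩ : ∃ g : SL(2, F),
      g 0 0 = a ∧ g 0 1 = c - a ∧ g 1 0 = c ∧ g 1 1 = -a :=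
    ⟨⟨!![a, c - a; c, -a], by rw [Matrix.det_fin_two_of]; linear_combination -hac⟩,
      rfl, rfl, rfl, rfl⟩
  have e1 : y ^ 3 ^ 1 = 1 := by
    rw [pow_one, pow_succ, pow_two]
    refine SL2_ext ?_ ?_ ?_ ?_ <;> simp [SL2_mul_apply, y0, y1, y2, y3]
  have e2 : j * y * j⁻¹ = y⁻¹ := by
    refine SL2_ext ?_ ?_ ?_ ?_ <;> simp [SL2_mul_apply, SL2_inv_00, SL2_inv_01, SL2_inv_10,
      SL2_inv_11, y0, y1, y2, y3, j0, j1, j2, j3]
    all_goals first | linear_combination hac | linear_combination -hac | ring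
  have e3 := h.eq_one (d := QuotientGroup.mk y) (t := QuotientGroup.mk j) (k := 1)
    (by rw [← QuotientGroup.mk_pow, e1, QuotientGroup.mk_one])
    (by rw [← QuotientGroup.mk_inv, ← QuotientGroup.mk_inv, ← QuotientGroup.mk_mul,
      ← QuotientGroup.mk_mul, e2])
  obtain ⟨r, -, hr⟩ := Matrix.SpecialLinearGroup.mem_center_iff.1
    ((QuotientGroup.eq_one_iff y).1 e3)
  have e4 := congrFun (congrFun hr 1) 0
  change _ = y 1 0 at e4
  rw [y2] at e4
  simp at e4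

/-- (T3) The case of abelian Sylow `2`-subgroups. -/
theorem l3T_of_abTwo {G : Type u} [Group G] [Finite G] [IsSimpleGroup G]
    (hna : ¬ IsMulCommutative G) (h3 : S3F G) (hab : AbTwo G) : L3T G := by
  rcases Wal.walter' G hna hab with ⟨n, -, ⟨e⟩⟩ | ⟨F, _, _, h5, h8, ⟨e⟩⟩ | ⟨t, L, q, h⟩
  · exact absurd ((H5.JB.re3_sl2 _).map e.symm.toMonoidHom e.symm.injective) h3.not_re3
  · have h4 := three_dvd_of_psl (by omega) (h3.of_injective e.symm.toMonoidHom e.symm.injective)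
    obtain ⟨n, hp, hn⟩ := FiniteField.card F (ringChar F)
    have h6 : ringChar F = 3 :=
      ((Nat.prime_dvd_prime_iff_eq Nat.prime_three hp).1
        (Nat.prime_three.dvd_of_dvd_pow (hn ▸ h4))).symm
    rw [h6] at hn
    obtain ⟨f, hf | hf⟩ := Nat.even_or_odd' (n : ℕ)
    · rw [hn, hf, pow_mul, Nat.pow_mod] at h8
      simp at h8
    · refine ⟨F, inferInstance, inferInstance, f, ?_, hf ▸ hn, ⟨e⟩⟩
      rcases f with _ | f
      · rw [hn, hf] at h5
        omega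
      · omega
  · by_cases h5 : q = 5
    · obtain ⟨F, _, _, hq, ⟨e⟩⟩ := h.iso
      have h4 := three_dvd_of_psl (F := F) (by omega)
        ((h3.subgroup L).of_injective e.symm.toMonoidHom e.symm.injective)
      omega
    · exact absurd (H5.JB.real h h5).2 h3.not_re3

theorem two_ne_zero_of_card_three_pow {F : Type*} [Field F] [Fintype F] {k : ℕ}
    (h : Fintype.card F = 3 ^ k) : (2 : F) ≠ 0 := Ring.two_ne_zero fun e => by
  rw [FiniteField.even_card_iff_char_two, h, Nat.pow_mod] at e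
  simp at e

theorem L3T.card {K : Type*} [Group K] (h : L3T K) : ∃ f, 1 ≤ f ∧
    Nat.card K = 3 ^ (2 * f + 1) * ((3 ^ (2 * f + 1)) ^ 2 - 1) / 2 := by
  obtain ⟨F, _, _, f, h1, h2, ⟨e⟩⟩ := h
  refine ⟨f, h1, ?_⟩
  rw [Nat.card_congr e.toEquiv, SL2C.card_PSL2 (two_ne_zero_of_card_three_pow h2),
    Nat.card_eq_fintype_card, h2]

/-- (T4) -/
theorem L3T.not_five_dvd {K : Type*} [Group K] (h : L3T K) : ¬ 5 ∣ Nat.card K := by
  obtain ⟨f, -, h1⟩ := h.card
  intro h5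
  have h2 : 2 ∣ 3 ^ (2 * f + 1) * ((3 ^ (2 * f + 1)) ^ 2 - 1) :=
    Dvd.dvd.mul_left (even_iff_two_dvd.1 (Nat.Odd.sub_odd (Odd.pow (Odd.pow (by decide)))
      odd_one)) _
  have h3 : 5 ∣ 3 ^ (2 * f + 1) * ((3 ^ (2 * f + 1)) ^ 2 - 1) :=
    h5.trans (h1 ▸ Nat.div_dvd_of_dvd h2)
  rcases (Nat.Prime.dvd_mul Nat.prime_five).1 h3 with h4 | h4
  · exact absurd (Nat.prime_five.dvd_of_dvd_pow h4) (by norm_num)
  · have h6 : (3 ^ (2 * f + 1)) ^ 2 % 5 = 4 := by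
      rw [← pow_mul, show (2 * f + 1) * 2 = 4 * f + 2 by ring, pow_add, pow_mul, Nat.mul_mod,
        Nat.pow_mod]
      simp
    omega

/-- (T4) -/
theorem L3T.pslIn {K : Type*} [Group K] [Finite K] (h : L3T K) :
    GW.PslIn (⊤ : Subgroup K) := by
  obtain ⟨F, _, _, f, -, h2, ⟨e⟩⟩ := h
  have h3 := (GW.pslIn_PSL2 F (Or.inl (by
    rw [h2, pow_succ, pow_mul, Nat.mul_mod, Nat.pow_mod]; simp))).map e.symm.toMonoidHom
      e.symm.injective
  rwa [map_top_of_surjective _ e.symm.surjective] at h3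

end CfsgLib.GO
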