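import Cfsg.Agent.Lib.Gol.R2f
import Cfsg.Agent.Lib.Gol.T1
import Cfsg.Agent.Lib.Gol.T3
import Cfsg.Agent.Lib.Gol.R2g1
import Cfsg.Agent.Lib.Wal.H5BGen

/-!
# Strongly closed four-groups: the end

All involutions of `C = C(A)` lie in `A` (`mem_of_sq`); `N = N(A)`, `ρ` from `exists_rho`.
By Higman's theorem squares of elements of `S` lie in `A`, so `C / O(C)` has no component (`szT`).
If `C` is `2`-nilpotent, so is `C(a) = O(C(a)) C` and `false_of_omega_four` applies.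
Otherwise `HQ.struct` in `N / O(N)` gives `5 ∣ |C / O(C)|` and `[N, C] ≤ O(N) S`.
Let `P` be a Sylow `5`-subgroup of `C`, `X = N(P) ≥ A`.  By Frattini `X` moves `A#`, so `A`
centralizes `O(X)` (`le_cent_of_move`).  `X` good: `X ≤ N(A)`.  `X` bad: Frattini in `X / O(X)` for
the Sylow subgroup `A` of `J` and `L3T.not_five_dvd` give `|X|₅ = |N_X(A)|₅`.  So `P` is Sylow in
`G`, `N` controls fusion in `C` (`fusion`), and `P ≤ O(N) S` by the focal subgroup theorem, absurd.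
-/

set_option autoImplicit false

namespace CfsgLib.GO

open Subgroup Cfsg CfsgLib.FT CfsgLib.FT.BGN CfsgLib.Cop CfsgLib.GW CfsgLib.Wal
open CfsgLib.H1 (AbTwo CharIn layerIn genFitIn dSub)
open CfsgLib.FT.U4 (mem_cent1 mem_cent1' mem_cent mem_cent1_comm cent1_conj
  eq_one_of_mem_inf eq_bot_of_forall conj_mem_conj_iff orderOf_conj norm_le_norm_cent)
open scoped commutatorElement

universe u

variable {G : Type u} [Group G] [Finite G] {S A X : Subgroup G}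

theorem HQ.bar {ρ : G} (h : HQ S A ρ) (hS : S ≤ X) (hρ : ρ ∈ X) :
    HQ (im X S) (im X A) (br X ρ) := by
  have hA := h.le.trans hS
  refine ⟨pgroup_im h.two, (card_im h.el hA).trans h.card, fun x => ⟨fun hx => ⟨im_mono h.le hx,
    h.el.im x hx⟩, fun hx => ?_⟩, im_cent h.cent,
    im_norm (zpowers_le.2 h.norm) (br_mem_im (mem_zpowers ρ) hρ),
    h.odd.of_dvd_nat (H5.JB.ord_br_dvd hρ), eq_bot_of_forall fun x hx => ?_⟩
  · obtain ⟨u, h1, h2, h3, rfl⟩ := exists_lift hx.1 hx.2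
    exact br_mem_im ((h.mem u).2 ⟨h1, h3⟩) h2
  · obtain ⟨a, h1, h2, rfl⟩ := mem_im.1 hx.1
    have := eq_of_br h.el hA (conj_mem_of_mem_normalizer h.normA h1) h1
      (by rw [br_conj hρ h2, ← mem_cent1.1 hx.2, mul_inv_cancel_right])
    rw [eq_one_of_mem_inf h.free h1 (mem_cent1.2 (mul_inv_eq_iff_eq_mul.1 this).symm), br_one]

theorem br_norm_eq_one {x : G} (hx : x ∈ 𝐂(A)) : br 𝐍(A) x = 1 ↔ br 𝐂(A) x = 1 := by
  have h := centralizer_le_normalizer (A : Set G)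
  rw [br_eq_one hx, br_eq_one (h hx)]
  exact ⟨fun e => Od_inf_le h ⟨e, hx⟩, fun e => Od_le_Od h (norm_le_norm_cent A) e⟩

namespace R2
variable (h : R2 S A)
include h

theorem mem_iff (x : G) : x ∈ A ↔ x ∈ S ∧ x * x = 1 :=
  ⟨fun hx => ⟨h.sca.le hx, h.el x hx⟩, fun hx => h.mem_of_sq (h.le_cent hx.1) hx.2⟩

theorem exists_hq : ∃ ρ ∈ 𝐍(A), ρ ∉ 𝐂(A) ∧ HQ S A ρ := by
  obtain ⟨ρ, h1, ⟨k, h2⟩, h3⟩ := h.exists_rho
  refine ⟨ρ, h1.1, fun e => h.sca.ne (le_bot_iff.1 (h3 ▸ le_inf le_rfl fun a ha =>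
    mem_cent1.2 (e a ha))), h.sca.syl.isPGroup, h.card, h.mem_iff, h.le_cent, h1.2, ?_, h3⟩
  exact (Odd.pow (by decide)).of_dvd_nat (orderOf_dvd_of_pow_eq_one h2)

theorem cent_ne : 𝐂(A) ≠ ⊤ := by
  obtain ⟨ρ, -, h1, -⟩ := h.exists_hq
  exact fun e => h1 (e ▸ mem_top ρ)

theorem no_tc (J : Subgroup (Bar 𝐂(A))) : ¬ TC ⊤ J := fun hJ => by
  obtain ⟨ρ, -, -, hq⟩ := h.exists_hq
  obtain ⟨H, t, -, hn⟩ := (h.szT hJ).exists_zt
    (sylow_iz (hJ.sylow (H5.JB.sylow_im (h.sca.syl.mono h.le_cent le_top))))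
  refine hn fun x hx => ?_
  obtain ⟨s, hs, rfl⟩ := (mem_iz inf_le_right).1 hx
  obtain ⟨s, h1, h2, rfl⟩ := mem_im.1 hs.1
  rw [bz_sq hs.2, ← br_mul h2 h2]
  have h3 := im_cent (X := 𝐂(A)) (le_centralizer_iff.1 (le_refl 𝐂(A)))
    (br_mem_im ((hq.higman h.nab).1 s h1) (mul_mem h2 h2))
  rw [im_self] at h3
  exact centralizer_le (le_top (a := J)) h3

theorem eq_one_bar {y : Bar 𝐍(A)} (hy : y ∈ 𝐂(im 𝐍(A) A)) (ho : Odd (orderOf y))
    (hc : pCoreOf 2 ⊤ ≤ 𝐂[y]) : y = 1 := by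
  have hle := centralizer_le_normalizer (A : Set G)
  have hD : 𝐂(im 𝐍(A) A) = im 𝐍(A) 𝐂(A) := by
    rw [cent_im h.el.isPGroup le_normalizer, inf_eq_right.2 hle]
  rw [hD] at hy
  obtain ⟨y, h1, h2, rfl⟩ := mem_im.1 hy
  have hR : im 𝐍(A) (pre 𝐂(A) (pCoreOf 2 ⊤)) ≤ pCoreOf 2 ⊤ := by
    refine (H1.le_pCoreOf (im_mono (pre_le _)) (im_norm (le_norm_pre le_rfl
      (le_top.trans (H1.le_normalizer_pCoreOf _)))) ?_).trans
      (H1.pCoreOf_le_of_le_normalizer le_top (im_self.ge.trans (im_norm (norm_le_norm_cent A))))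
    rintro ⟨x, hx⟩
    obtain ⟨r, h3, h4, rfl⟩ := mem_im.1 hx
    obtain ⟨h5, h6⟩ := mem_pre.1 h3
    obtain ⟨k, hk⟩ := H1.pCoreOf_isPGroup _ ⟨_, h6⟩
    refine ⟨k, Subtype.ext ?_⟩
    show br _ r ^ 2 ^ k = 1
    rw [← br_pow h4, br_norm_eq_one (pow_mem h5 _), br_pow h5]
    exact congrArg Subtype.val hk
  rw [br_norm_eq_one h1, ← zpowers_eq_bot]
  refine (h.mc.loc_bar h.cent_ne).eq_bot le_top ?_ (fun J hJ => (h.no_tc J hJ).elim)
    (zpowers_le.2 fun r hr => ?_)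
  · rw [Nat.card_zpowers]
    refine ho.of_dvd_nat (orderOf_dvd_of_pow_eq_one ?_)
    rw [← br_pow h1, ← br_norm_eq_one (pow_mem h1 _), br_pow h2, pow_orderOf_eq_one]
  · obtain ⟨r, h3, rfl⟩ := br_surj r
    rw [← commutatorElement_eq_one_iff_mul_comm, ← br_comm h3 h1,
      ← br_norm_eq_one (x := ⁅r, y⁆) (mul_mem (mul_mem (mul_mem h3 h1) (inv_mem h3)) (inv_mem h1)),
      br_comm (hle h3) h2,
      commutatorElement_eq_one_iff_mul_comm]
    exact mem_cent1.1 (hc (hR (br_mem_im (mem_pre.2 ⟨h3, hr⟩) (hle h3))))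

theorem exists_odd : ∃ y ∈ 𝐂(im 𝐍(A) A), (orderOf y).Prime ∧ orderOf y ≠ 2 := by
  have := Fact.mk Nat.prime_two
  have := h.simple
  by_contra hc
  push Not at hc
  obtain ⟨k, hk⟩ := card_eq_pow_of_prime (p := 2) dvd_rfl fun y hy h1 _ => hc y hy h1
  obtain ⟨ρ, -, h1, hq⟩ := h.exists_hq
  refine false_of_omega_four h.sca.syl h.card h.mem_iff h.le_cent
    (fun e => h.nab (le_centralizer_iff_isMulCommutative.2 e)) (fun e => h1 (e hq.norm))
    fun a ha a1 => PCompl.hnpc_of_isPGroup_quotient (pPrimeCore 2 _) (Nat.coprime_two_right.2 odd_ker)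
      fun x => ⟨k, ?_⟩
  have h2 := h.mc.cent1_ne a1
  have h3 := (im_le_im le_rfl (cent_le_cent1 ha)).2 (h.top_le ha a1 h2 le_rfl)
  obtain ⟨x, h4, h5, rfl⟩ := mem_im.1 (h3 (im_self.ge (mem_top x)))
  have h6 := centralizer_le_normalizer _ h4
  rw [← br_pow h5, br_eq_one (pow_mem h5 _)]
  refine h.theta_le ha a1 h2 le_rfl ((br_eq_one (pow_mem h4 _)).1 ?_)
  rw [← br_norm_eq_one (pow_mem h4 _), br_pow h6, ← hk]
  exact congrArg Subtype.val
    (pow_card_eq_one' (x := (⟨_, im_cent le_rfl (br_mem_im h4 h6)⟩ : 𝐂(im 𝐍(A) A))))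

theorem struct : 5 ∣ Nat.card (im 𝐍(A) 𝐂(A)) ∧
    ∀ n ∈ 𝐍(A), ∀ x ∈ 𝐂(A), ⁅n, x⁆ ∈ pre 𝐍(A) (im 𝐍(A) S) := by
  have hle := centralizer_le_normalizer (A : Set G)
  obtain ⟨ρ, h0, -, hq⟩ := h.exists_hq
  obtain ⟨y, h1, h2, h3⟩ := h.exists_odd
  have hn : ⊤ ≤ 𝐍(im 𝐍(A) A) := im_self.ge.trans (im_norm le_rfl)
  have := normalizer_eq_top_iff.1 (top_le_iff.1 hn)
  have := normalizer_eq_top_iff.1 (top_le_iff.1
    (H1.le_normalizer_pCoreOf (p := 2) (⊤ : Subgroup (Bar 𝐍(A)))))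
  obtain ⟨h4, h5⟩ := (hq.bar h.sca.le_norm h0).struct
    (H5.JB.sylow_im (h.sca.syl.mono h.sca.le_norm le_top)) (H1.pCoreOf_isPGroup ⊤)
    (H1.le_pCoreOf le_top hn h.el.im.isPGroup) (fun y => h.eq_one_bar) (fun n => by
      obtain ⟨n, hn, rfl⟩ := br_surj n
      rw [← br_pow hn]
      exact im_cent le_rfl (br_mem_im (h.cube hn) (pow_mem hn 3))) h1 h2 h3
  refine ⟨?_, fun n hn x hx => mem_pre.2 ⟨mul_mem (mul_mem (mul_mem hn (hle hx)) (inv_mem hn))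
    (inv_mem (hle hx)), ?_⟩⟩
  · rw [cent_im h.el.isPGroup le_normalizer, inf_eq_right.2 hle] at h1
    exact h4 ▸ Subgroup.orderOf_dvd_natCard _ h1
  · rw [br_comm hn (hle hx)]
    exact h5 _ _ (im_cent le_rfl (br_mem_im hx (hle hx)))

theorem sylow_five {P : Subgroup G} (hP : IsSylowIn 5 P 𝐂(A)) (h0 : P ≠ ⊥) :
    IsSylowIn 5 P ⊤ := by
  have := Fact.mk Nat.prime_five
  have := Fact.mk Nat.prime_two
  have hle := centralizer_le_normalizer (A : Set G)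
  have hN : IsSylowIn 5 P 𝐍(A) := IsSylowIn.of_maximal (hP.le.trans hle) hP.isPGroup
    fun T h1 h2 h3 => (hP.eq_of_le h1 h2 fun t ht => by
      obtain ⟨k, hk⟩ := IsPGroup.iff_orderOf.1 h1 ⟨t, ht⟩
      refine zpowers_le.2 (h.cube (h3 ht)) (mem_zpowers_pow_iff.2 ?_)
      rw [← orderOf_coe] at hk
      rw [hk]
      exact Nat.Coprime.pow_right k (by decide)).le
  have hX := h.mc.norm_odd_ne h0 (odd_card_of_isPGroup Nat.prime_five (by decide) hP.isPGroup)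
  have hA : A ≤ 𝐍(P) := (le_centralizer_iff.1 hP.le).trans (centralizer_le_normalizer _)
  obtain ⟨ρ, h1, h2, -⟩ := h.exists_hq
  obtain ⟨c, h3, h4⟩ := hP.frattini_elem (norm_le_norm_cent A h1)
  have hO : Od 𝐍(P) ≤ 𝐍(A) := (h.le_cent_of_move (odd_Od _) (hA.trans (le_norm_Od _))
    ⟨mul_mem (hle h3) h1, le_norm_Od _ h4⟩ fun e => h2 ((mul_mem_cancel_left h3).1 e)).trans hle
  refine sylow_of_norm ?_
  rw [top_inf_eq]
  by_cases hg : Gb A 𝐍(P)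
  · exact hN.mono le_normalizer ((h.gb_le hX hA hg).trans (sup_le hO inf_le_right))
  obtain ⟨J, hJ⟩ := h.exists_bj hX hA hg
  have h5 := (relIndex_dvd_card_of_sup (fun g _ => hJ.nrm g)
    (top_le_iff.1 (hJ.syl.frattini_le le_top fun g _ => hJ.nrm g))).1
  rw [top_inf_eq, relIndex_top_right, ← H5.JB.relIndex_pre, norm_im h.el.isPGroup hA,
    pre_im inf_le_left, sup_eq_right.2 (le_inf (Od_le _) hO)] at h5
  have h6 : P ≤ 𝐍(P) ⊓ 𝐍(A) := le_inf le_normalizer hN.le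
  refine ⟨le_normalizer, hP.isPGroup, fun e => ?_⟩
  rw [← relIndex_mul_relIndex _ _ _ h6 inf_le_left] at e
  exact ((Nat.Prime.dvd_mul Nat.prime_five).1 e).elim (hN.mono h6 inf_le_right).not_dvd
    fun e => hJ.l3.not_five_dvd (e.trans h5)

end R2

theorem R2.false (h : R2 S A) : False := by
  have := Fact.mk Nat.prime_five
  have := Fact.mk Nat.prime_two
  have := h.simple
  have hle := centralizer_le_normalizer (A : Set G)
  obtain ⟨h5, hc⟩ := h.struct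
  obtain ⟨P, hP⟩ := IsSylowIn.exists_in (p := 5) 𝐂(A)
  have h1 : im 𝐍(A) P ≠ ⊥ := ((hP.subgroupOf hle).map (pr _)).ne_bot h5
  obtain ⟨P, rfl⟩ := IsSylowIn.top_iff.1 (h.sylow_five hP fun e => h1 (by
    rw [e]; exact (im_eq_bot bot_le).2 bot_le))
  have h2 := Fusion.commutator_inf_sylow_le P (L := pre 𝐍(A) (im 𝐍(A) S)) fun x hx g hg => by
    obtain ⟨n, hn, e⟩ := h.fusion (hP.le hx) (hP.le hg)
    rw [← e]
    exact hc n hn x (hP.le hx)
  rcases IsSimpleGroup.eq_bot_or_eq_top_of_normal (commutator G) inferInstance with e | e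
  · exact h.nab fun x _ y _ => commutatorElement_eq_one_iff_mul_comm.1
      (mem_bot.1 (e ▸ commutator_mem_commutator (mem_top y) (mem_top x)))
  rw [e, top_inf_eq, le_pre (hP.le.trans hle)] at h2
  exact h1 (le_bot_iff.1 ((le_inf le_rfl h2).trans (IsPGroup.disjoint_of_ne 5 2 (by decide) _ _
    (pgroup_im hP.isPGroup) (pgroup_im h.sca.syl.isPGroup)).le_bot))

end CfsgLib.GO
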