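import Cfsg.Agent.Lib.GOB.Defs
import Cfsg.Agent.Lib.Wal.Bender

/-!
# Step B1: the Sylow `2`-structure of the known simple `S₃`-free groups
-/

set_option autoImplicit false

namespace CfsgLib.GO

open Subgroup Cfsg CfsgLib.FT CfsgLib.FT.BGN CfsgLib.Cop CfsgLib.Suz

universe u

variable {K : Type*} [Group K]

/-- The involutions of `Q` are central and permuted transitively by `d`. -/
structure TD (Q : Subgroup K) (d : K) : Prop where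
  cen : ∀ x ∈ Q, x * x = 1 → ∀ y ∈ Q, x * y = y * x
  norm : d ∈ 𝐍(Q)
  odd : Odd (orderOf d)
  tr : ∀ x ∈ Q, ∀ y ∈ Q, x ≠ 1 → y ≠ 1 → x * x = 1 → y * y = 1 →
    ∃ k ∈ zpowers d, k * x * k⁻¹ = y
  two : Rank2 Q

/-- The structure of a Suzuki group at the Sylow `2`-subgroup `Q`. -/
structure SD (Q : Subgroup K) (d : K) : Prop extends TD Q d where
  sq : ∀ x ∈ Q, x * x * (x * x) = 1
  cent : ∀ x ∈ Q, x ≠ 1 → ∀ g, x * g = g * x → g ∈ Q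
  tr2 : ∀ x ∈ Q, ∀ y ∈ Q, x * x ≠ 1 → y * y ≠ 1 →
    ∃ k ∈ zpowers d, k * x * k⁻¹ * y⁻¹ * (k * x * k⁻¹ * y⁻¹) = 1
  com : ∀ x ∈ Q, ∀ y ∈ Q, x * x ≠ 1 → y * y ≠ 1 → x * y = y * x → x * y * (x * y) = 1
  cmm : ∀ x ∈ Q, ∀ y ∈ Q, x * y * x⁻¹ * y⁻¹ * (x * y * x⁻¹ * y⁻¹) = 1
  three : ∃ x ∈ Q, ∃ y ∈ Q, ∃ w ∈ Q, x * x ≠ 1 ∧ y * y ≠ 1 ∧ w * w ≠ 1 ∧ x * y * (x * y) ≠ 1 ∧
    x * w * (x * w) ≠ 1 ∧ y * w * (y * w) ≠ 1 ∧ x * (y * w) * (x * (y * w)) ≠ 1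
  card : ∃ T : Subgroup K, (∀ x, x ∈ T ↔ x ∈ Q ∧ x * x = 1) ∧ 8 ≤ Nat.card T ∧
    T.relIndex Q = Nat.card T
  aut : ∀ τ : MulAut K, Odd (orderOf τ) → (∀ x ∈ Q, τ x = x) → τ = 1

variable [Finite K]

theorem SzT.exists_zt (h : SzT K) {Q : Subgroup K} (hQ : IsSylowIn 2 Q ⊤) :
    ∃ H t, ZT H Q t ∧ ¬ ∀ x ∈ Q, x * x = 1 := by
  obtain ⟨H, Q₀, t, Z, hn⟩ := h
  have R := Z.toRO
  obtain ⟨g, -, rfl⟩ := hQ.exists_conj_eq (Q := Q₀)
    ⟨le_top, Z.isPGroup, by rw [relIndex_top_right]; exact R.odd_index_Q.not_two_dvd_nat⟩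
  have hk : (MulAut.conj g).toMonoidHom.ker ≤ H := by
    rw [(MonoidHom.ker_eq_bot_iff _).2 (MulAut.conj g).injective]; exact bot_le
  refine ⟨H.map _, _, ⟨R.map _ hk (MulAut.conj g).surjective, ?_, ?_⟩, fun h => hn fun x hx => ?_⟩
  · rw [RO.Dg_map _ hk]
    rintro _ ⟨d, hd, rfl⟩
    rw [← map_mul, ← map_mul, Z.inv d hd, map_inv]
  · rw [RO.Dg_map _ hk, Ne, map_eq_bot_iff_of_injective _ (MulAut.conj g).injective]
    exact Z.ne
  · exact (MulAut.conj g).injective (by simpa using h _ ⟨x, hx, rfl⟩)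

theorem aut_mem_H {H Q : Subgroup K} {t : K} (R : RO H Q t) (σ : MulAut K)
    (hσ : ∀ x ∈ Q, σ x ∈ Q) (g : K) : σ g ∈ H ↔ g ∈ H := by
  obtain ⟨s, r, hs⟩ := R.exists_dist
  have h1 : Q.map σ.toMonoidHom = Q := eq_of_le_of_card_ge (map_le_iff_le_comap.2 hσ)
    (card_map_of_injective σ.injective).ge
  refine ⟨fun h => ?_, fun h => R.mem_H_of_conj (hσ s hs.s_mem) (by simpa using hs.s_ne) ?_⟩
  · obtain ⟨x, hx, h3⟩ := h1.ge (R.norm _ h _ (hσ s hs.s_mem))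
    refine R.mem_H_of_conj hs.s_mem hs.s_ne (R.le ?_)
    rwa [show g⁻¹ * s * g = x from σ.injective (by simpa using h3.symm)]
  · simpa using R.le (hσ _ (R.norm g h s hs.s_mem))

theorem aut_eq_one {H Q : Subgroup K} {t : K} (Z : ZT H Q t) (τ : MulAut K)
    (ho : Odd (orderOf τ)) (h : ∀ x ∈ Q, τ x = x) : τ = 1 := by
  have R := Z.toRO
  have hH := aut_mem_H R τ fun x hx => (h x hx).symm ▸ hx
  obtain ⟨a, ha, y, hy, e⟩ := R.canon _ (mt (hH t).1 R.t_notMem)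
  have h1 : ∀ n : ℕ, ∃ b ∈ H, (τ ^ n) t = b * t * y ^ n := fun n => by
    induction n with
    | zero => exact ⟨1, one_mem _, by simp⟩
    | succ n ih =>
      obtain ⟨b, hb, e'⟩ := ih
      refine ⟨τ b * a, mul_mem ((hH b).2 hb) ha, ?_⟩
      rw [pow_succ', MulAut.mul_apply, e', map_mul, map_mul, e, h _ (pow_mem hy n), pow_succ']
      group
  obtain ⟨b, hb, e'⟩ := h1 (orderOf τ)
  rw [pow_orderOf_eq_one, MulAut.one_apply] at e'
  have h2 := (R.canon_unique (one_mem _) hb (one_mem _) (pow_mem hy _) (by simpa using e')).2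
  obtain ⟨k, hk⟩ := Z.isPGroup ⟨y, hy⟩
  have h3 : y = 1 := by
    rw [← orderOf_eq_one_iff, ← Nat.dvd_one, ← (Nat.coprime_two_left.2 ho).pow_left k]
    exact Nat.dvd_gcd (orderOf_dvd_of_pow_eq_one (congrArg Subtype.val hk))
      (orderOf_dvd_of_pow_eq_one h2.symm)
  rw [h3, mul_one] at e
  have h4 : ∀ g, τ g * g⁻¹ ∈ H := fun g => by
    by_cases hg : g ∈ H
    · exact mul_mem ((hH g).2 hg) (inv_mem hg)
    · obtain ⟨c, hc, z, hz, rfl⟩ := R.canon g hg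
      rw [map_mul, map_mul, e, h z hz, show τ c * (a * t) * z * (c * t * z)⁻¹ = τ c * a * c⁻¹ by
        group]
      exact mul_mem (mul_mem ((hH c).2 hc) ha) (inv_mem hc)
  ext g
  have h5 : τ g * g⁻¹ ∈ H.normalCore := fun b => by
    have := mul_mem (inv_mem (h4 b)) (h4 (b * g))
    rwa [map_mul, show (τ b * b⁻¹)⁻¹ * (τ b * τ g * (b * g)⁻¹) = b * (τ g * g⁻¹) * b⁻¹ by group]
      at this
  obtain ⟨h6, h7⟩ := R.mem_normalCore_iff.1 h5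
  obtain ⟨s, r, hs⟩ := R.exists_dist
  by_contra h8
  exact hs.s_ne (Z.fpf h6 (fun h => h8 (by simpa [mul_inv_eq_one] using h)) hs.s_mem
    (h7 s hs.s_mem).symm)

theorem SzT.sd (h : SzT K) {Q : Subgroup K} (hQ : IsSylowIn 2 Q ⊤) : ∃ d, SD Q d := by
  obtain ⟨H, t, Z, hn⟩ := h.exists_zt hQ
  have R := Z.toRO
  have h2 := Z.rank2
  obtain ⟨s, r, hs⟩ := R.exists_dist
  rcases R.ZT_theorem Z.inv Z.ne with ⟨n, -, h, -⟩ | ⟨hp, hna, hc, hrs, -, -, -, m, hm, -, hD, -⟩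
  · exact absurd h hn
  rw [Z.card_D] at hc hD
  obtain ⟨F, _, _, _, θ, χ, e, hF, C, hθ⟩ := R.exists_coord_sz h2 hp hna hc hs (hrs s r hs)
  obtain ⟨d, hd⟩ := R.exists_K_eq_zpowers h2
  have hdD : d ∈ Dg H t := ((hd d).2 (mem_zpowers d)).1
  have h8 : 8 ≤ Nat.card (Q0g Q) := by
    rw [hD]; exact (Nat.pow_le_pow_right two_pos (by omega : 3 ≤ 2 * m + 1))
  have ee : ∀ a b : F, e a b * e a b = 1 ↔ a = 0 := fun a b => by
    rw [C.mul, ← C.e_zero, CharTwo.add_self_eq_zero, CharTwo.add_self_eq_zero, zero_add]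
    refine ⟨fun h => ?_, fun h => by simp [h]⟩
    simpa using (C.inj _ _ _ _ h).2
  refine ⟨d, ⟨fun x hx h y hy => R.invol_central h2 hx h hy, R.le_normalizer (Dg_le hdD), ?_,
    fun x hx y hy x1 y1 xx yy => ?_, h2⟩, fun x hx => ?_,
    fun x hx x1 g h => Z.mem_Q_of_comm hx x1 h, fun x hx y hy xx yy => ?_,
    fun x hx y hy xx yy h => ?_, fun x hx y hy => ?_, ?_,
    ⟨Q0g Q, fun x => R.mem_Q0 h2, h8, ?_⟩, aut_eq_one Z⟩
  · exact R.odd.of_dvd_nat (orderOf_dvd_of_pow_eq_one (R.D_pow hdD))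
  · obtain ⟨k, hk, rfl⟩ := R.exists_K_conj hs hx x1 xx
    obtain ⟨l, hl, rfl⟩ := R.exists_K_conj hs hy y1 yy
    exact ⟨l⁻¹ * k, mul_mem (inv_mem ((hd l).1 hl)) ((hd k).1 hk), by group⟩
  · obtain ⟨a, b, rfl⟩ := C.surj x hx
    rw [C.mul, ee, CharTwo.add_self_eq_zero]
  · obtain ⟨a, b, rfl⟩ := C.surj x hx
    obtain ⟨a', b', rfl⟩ := C.surj y hy
    rw [Ne, ee] at xx yy
    obtain ⟨k, hk, h⟩ := C.exists_χ (div_ne_zero yy xx)
    refine ⟨k⁻¹, inv_mem ((hd k).1 hk), ?_⟩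
    rw [inv_inv, C.conj k hk, C.e_inv, C.mul, ee, h, div_mul_cancel₀ _ xx,
      CharTwo.add_self_eq_zero]
  · obtain ⟨a, b, rfl⟩ := C.surj x hx
    obtain ⟨c, b', rfl⟩ := C.surj y hy
    rw [Ne, ee] at xx yy
    rw [C.mul, C.mul] at h
    have h1 : a * θ c = c * θ a := by linear_combination (C.inj _ _ _ _ h).2
    have h3 : θ (a / c) = a / c := by
      rw [map_div₀, div_eq_div_iff (by simpa using yy) yy]; linear_combination -h1
    have h4 := hθ (a / c)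
    rw [h3, h3, sq, left_eq_mul₀ (div_ne_zero xx yy), div_eq_one_iff_eq yy] at h4
    rw [C.mul, ee, h4, CharTwo.add_self_eq_zero]
  · obtain ⟨a, b, rfl⟩ := C.surj x hx
    obtain ⟨c, b', rfl⟩ := C.surj y hy
    rw [C.e_inv, C.e_inv, C.mul, C.mul, C.mul, ee]
    linear_combination CharTwo.add_self_eq_zero a + CharTwo.add_self_eq_zero c
  · classical
    have key : ∀ s : Finset F, s.card < 8 → ∃ c, c ∉ s := fun s h => by
      by_contra! h'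
      rw [Finset.eq_univ_of_forall h', Finset.card_univ, hF] at h
      omega
    obtain ⟨c, hc⟩ := key {0, 1} (Finset.card_le_two.trans_lt (by norm_num))
    obtain ⟨w, hw⟩ := key {0, 1, c, 1 + c} (Finset.card_le_four.trans_lt (by norm_num))
    simp only [Finset.mem_insert, Finset.mem_singleton, not_or] at hc hw
    refine ⟨e 1 0, C.mem _ _, e c 0, C.mem _ _, e w 0, C.mem _ _, ?_⟩
    rw [Ne, Ne, Ne, ee, ee, ee, C.mul 1 0 c, C.mul 1 0 w, C.mul c 0 w, C.mul 1 0 (c + w)]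
    simp only [Ne, ee, CharTwo.add_eq_zero, ← add_assoc]
    exact ⟨one_ne_zero, hc.1, hw.1, Ne.symm hc.2, Ne.symm hw.2.1, Ne.symm hw.2.2.1,
      Ne.symm hw.2.2.2⟩
  · have := card_mul_relIndex (Q0g_le (Q := Q))
    rw [hc, sq] at this
    exact Nat.eq_of_mul_eq_mul_left Nat.card_pos this

theorem SzT.inner_of_sq (h : SzT K) (τ : MulAut K) {g₀ : K} (hτ : τ * τ = MulAut.conj g₀) :
    ∃ k, τ = MulAut.conj k := by
  obtain ⟨H, Q, t, Z, hn⟩ := id h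
  have R := Z.toRO
  obtain ⟨s, r, hs⟩ := R.exists_dist
  have hS : IsSylowIn 2 Q ⊤ :=
    ⟨le_top, Z.isPGroup, by rw [relIndex_top_right]; exact R.odd_index_Q.not_two_dvd_nat⟩
  obtain ⟨g, -, hg⟩ := hS.exists_conj_le (Z.isPGroup.map τ.toMonoidHom) le_top
  have h1 : ∀ x ∈ Q, (MulAut.conj g * τ) x ∈ Q := fun x hx => hg ⟨τ x, ⟨x, hx, rfl⟩, rfl⟩
  obtain ⟨a, ha, y, hy, e⟩ := R.invol_notMem (u := (MulAut.conj g * τ) t)
    (mt (aut_mem_H R _ h1 t).1 R.t_notMem) (by rw [← map_mul, R.tt, map_one])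
  obtain ⟨ρ, k, hk, hQ, ht⟩ : ∃ (ρ : MulAut K) (k : K), ρ = MulAut.conj k * τ ∧
      (∀ x ∈ Q, ρ x ∈ Q) ∧ ρ t = t := ⟨MulAut.conj (a * y) * (MulAut.conj g * τ), a * y * g, by
    rw [map_mul _ (a * y), mul_assoc], fun x hx =>
      R.norm' (mul_mem (Dg_le ha.1) (R.le hy)) (h1 x hx), by
    rw [MulAut.mul_apply, e, MulAut.conj_apply]; group⟩
  have h3 : ∀ x, ρ (ρ x) = (k * τ k * g₀) * x * (k * τ k * g₀)⁻¹ := fun x => by
    have h4 : τ (τ x) = g₀ * x * g₀⁻¹ := by rw [← MulAut.mul_apply, hτ, MulAut.conj_apply]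
    simp [hk, h4, mul_assoc]
  have h4 : k * τ k * g₀ ∈ H :=
    R.mem_H_of_conj' hs.s_mem hs.s_ne (h3 s ▸ R.le (hQ _ (hQ _ hs.s_mem)))
  have h5 : t * (k * τ k * g₀) = k * τ k * g₀ * t := by
    have h6 := h3 t
    rw [ht, ht, eq_mul_inv_iff_mul_eq] at h6
    exact h6
  have h6 := Z.V_eq (R.mem_D.2 ⟨h4, by rwa [h5, R.tt'']⟩) h5
  obtain ⟨l, hl⟩ := h.exists_conj ρ (by ext x; simp [h3, h6])
  exact ⟨k⁻¹ * l, by rw [map_mul, ← hl, hk, map_inv, inv_mul_cancel_left]⟩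

theorem SzT.inner (h : SzT K) (n : ℕ) : ∀ (τ : MulAut K) {g : K}, τ ^ 2 ^ n = MulAut.conj g →
    ∃ k, τ = MulAut.conj k := by
  induction n with
  | zero => exact fun τ g e => ⟨g, by simpa using e⟩
  | succ n ih =>
    intro τ g e
    obtain ⟨k, hk⟩ := h.inner_of_sq (τ ^ 2 ^ n) (by rw [← e, ← pow_add, ← two_mul, pow_succ'])
    exact ih τ hk

end CfsgLib.GO
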