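import Cfsg.Agent.Lib.Gol.SC

/-!
# Step B1: balance, and components of Suzuki type centralized by Sylow subgroups
-/

set_option autoImplicit false

namespace CfsgLib.GO

open Subgroup Cfsg CfsgLib.FT CfsgLib.FT.BGN CfsgLib.Cop CfsgLib.GW CfsgLib.Wal
open CfsgLib.H1 (AbTwo CharIn layerIn genFitIn dSub)
open CfsgLib.FT.U4 (mem_cent1 mem_cent1' mem_cent mem_cent1_comm cent1_conj
  eq_one_of_mem_inf eq_bot_of_forall conj_mem_conj_iff orderOf_conj norm_le_norm_cent)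
open scoped commutatorElement

universe u

variable {G : Type u} [Group G]

/-- All components of `X` not centralized by `A` are of Suzuki type. -/
def Good (A X : Subgroup G) : Prop := ∀ L, TC X L → ¬ A ≤ 𝐂(L) → SzT (Zq L)

variable [Finite G] {X A L P Q K T : Subgroup G}

omit [Finite G] in
theorem Mov.notMem (m : Mov X A L Q K T) {t : G} (ht : t ∈ T) (h1 : t ≠ 1) : t ∉ 𝐂(L) :=
  fun e => h1 (eq_one_of_mem_inf m.inf ht e)

omit [Finite G] in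
theorem Mov.tA (m : Mov X A L Q K T) : T ≤ A := m.tle.trans inf_le_left

omit [Finite G] in
theorem Mov.tQ (m : Mov X A L Q K T) : T ≤ Q := m.tle.trans inf_le_right

omit [Finite G] in
theorem Mov.tL (m : Mov X A L Q K T) : T ≤ L := m.tQ.trans m.syl.le

theorem Mov.exists_ne (m : Mov X A L Q K T) : ∃ t ∈ T, t ≠ 1 :=
  exists_ne_one_of_card (le_trans (by norm_num) m.four)

theorem Loc.bal_pc {W : Subgroup G} {a : G} (ha : a * a = 1) (haX : a ∈ X) (hW : W ≤ X ⊓ 𝐂[a])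
    (ho : Odd (Nat.card W)) (hc : W ≤ 𝐂(pCoreOf 2 (X ⊓ 𝐂[a]))) : W ≤ 𝐂(pCoreOf 2 X) := by
  have := Fact.mk Nat.prime_two
  have hR := H1.le_normalizer_pCoreOf (p := 2) X
  refine le_centralizer_iff.1 (pxq (el_zpowers ha).isPGroup (H1.pCoreOf_isPGroup X)
    (Nat.coprime_two_right.2 ho) (zpowers_le.2 (hR haX)) (hW.trans (inf_le_left.trans hR))
    (le_centralizer_iff.1 (hW.trans (inf_le_right.trans (cent_zpowers a).ge)))
    (le_trans ?_ (le_centralizer_iff.1 hc)))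
  rw [cent_zpowers]
  exact le_trans (le_inf inf_le_left (inf_le_inf_right _ (H1.pCoreOf_le X)))
    (H1.pCoreOf_inf_le inf_le_left)

theorem Loc.bal (h : Loc X) (hA : SCin A X) {W : Subgroup G} {a : G} (ha : a ∈ A)
    (hW : W ≤ X ⊓ 𝐂[a]) (ho : Odd (Nat.card W)) (hc : W ≤ 𝐂(pCoreOf 2 (X ⊓ 𝐂[a])))
    (hL : TC X L) (h1 : a ∉ 𝐂(L)) (hs : SzT (Zq L)) : W ≤ 𝐂(L) := by
  have := Fact.mk Nat.prime_two
  obtain ⟨Q, K, T, m, s⟩ := h.exists_smov hA hL (fun e => h1 (e ha)) hs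
  obtain ⟨t, ht, h2⟩ := m.dec a ha
  have h3 : t ∉ 𝐂(L) := fun e => h1 (by simpa using mul_mem (inv_mem e) h2)
  have h4 : ∀ x ∈ L, x ∈ 𝐂[a] ↔ x ∈ 𝐂[t] := fun x hx => by
    have h5 : x ∈ 𝐂[t * a] := mem_cent1.2 (mem_cent.1 h2 x hx)
    rw [mem_cent1_comm] at h5 ⊢
    rw [mem_cent1_comm (y := x)]
    exact ⟨fun e => by simpa using mul_mem h5 (inv_mem e), fun e => by
      simpa using mul_mem (inv_mem e) h5⟩
  have h5 : W ≤ 𝐂(L ⊓ (X ⊓ 𝐂[a])) := hc.trans (centralizer_le (H1.le_pCoreOf_of_subnormalIn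
    (hL.1.inf inf_le_left) (m.syl.isPGroup.to_le fun x hx => s.cent t (m.tQ ht) h3 x hx.1 (by
      rw [commutatorElement_eq_one_iff_mul_comm.2 (mem_cent1'.1 ((h4 x hx.1).1 hx.2.2))]
      exact one_mem _))))
  have h6 : W ≤ 𝐂[t] := fun w hw => mem_cent1'.2 (mem_cent.1 (h5 hw) t
    ⟨m.tL ht, hA.le (m.tA ht), hA.el.le_cent1 ha (m.tA ht)⟩)
  have h7 : ∀ w ∈ W, w * t * w⁻¹ = t := fun w hw => by
    rw [mem_cent1.1 (h6 hw), mul_inv_cancel_right]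
  have h8 : W ≤ 𝐍(L) := fun w hw =>
    hL.mem_norm (le_normalizer (hW hw).1) (m.tL ht) h3 ((h7 w hw).symm ▸ m.tL ht)
  have h9 : W ≤ 𝐍(Q) := fun w hw => mem_normalizer_of_conj_mem fun x hx =>
    s.cent t (m.tQ ht) h3 _ (conj_mem_of_mem_normalizer (h8 hw) (m.syl.le hx)) (by
      have := conj_mem_of_mem_normalizer (norm_le_norm_cent L (h8 hw))
        (m.cen t (m.tQ ht) (hA.el t (m.tA ht) ▸ one_mem _) x hx)
      rwa [conjugate_commutatorElement, h7 w hw] at this)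
  have h10 := pxq (el_zpowers (hA.el t (m.tA ht))).isPGroup m.syl.isPGroup
    (Nat.coprime_two_right.2 ho) (zpowers_le.2 (le_normalizer (m.tQ ht))) h9
    (le_centralizer_iff.1 (h6.trans (cent_zpowers t).ge)) fun x hx => le_centralizer_iff.1 h5
      ⟨m.syl.le hx.1, hL.le (m.syl.le hx.1), (h4 x (m.syl.le hx.1)).2 ((cent_zpowers t).le hx.2)⟩
  exact fun w hw => s.aut w (h8 hw) (odd_orderOf_of_mem ho hw) (le_centralizer_iff.1 h10 hw)

omit [Finite G] in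
theorem _root_.CfsgLib.Wal.TC.mono (h : TC X L) {Y : Subgroup G} (h1 : L ≤ Y) (h2 : Y ≤ X) :
    TC Y L := ⟨h.1.mono h1 h2, h.2⟩

omit [Finite G] in
theorem _root_.CfsgLib.Wal.TC.inf_cent1 (h : TC X L) {a : G} (h1 : a ∈ 𝐂(L)) :
    TC (X ⊓ 𝐂[a]) L := h.mono (le_inf h.le fun x hx => mem_cent1.2 (mem_cent.1 h1 x hx)) inf_le_left

/-- Balance. -/
theorem Loc.od_cent (h : Loc X) (hA : SCin A X) (hg : Good A X) {a : G} (ha : a ∈ A) :
    Od (X ⊓ 𝐂[a]) = ⊥ := by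
  have := Fact.mk Nat.prime_two
  have hc : Od (X ⊓ 𝐂[a]) ≤ 𝐂(pCoreOf 2 (X ⊓ 𝐂[a])) := comm_eq_bot_iff.1
    (H1.commutator_eq_bot_of_coprime ((Od_le _).trans (H1.le_normalizer_pCoreOf _))
      ((H1.pCoreOf_le _).trans (le_norm_Od _))
      (coprime_of_two (H1.pCoreOf_isPGroup _) (odd_Od _)).symm)
  refine h.eq_bot ((Od_le _).trans inf_le_left) (odd_Od _) (fun J hJ => ?_)
    (Loc.bal_pc (hA.el a ha) (hA.le ha) (Od_le _) (odd_Od _) hc)
  by_cases e : a ∈ 𝐂(J)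
  · exact (hJ.inf_cent1 e).Od_le
  · exact h.bal hA ha (Od_le _) (odd_Od _) hc hJ e (hg J hJ fun h => e (h ha))

/-- `L`-balance. -/
theorem Loc.lbal (h : Loc X) (hA : SCin A X) (hg : Good A X) {a : G} (ha : a ∈ A)
    (hL : TC (X ⊓ 𝐂[a]) L) : TC X L := by
  have := Fact.mk Nat.prime_two
  by_contra h1
  refine hL.not_solv (solvable_of_isPGroup (p := 2) (H5.isPGroup_of_forall_coprime fun y hy hc => ?_))
  have h2 := zpowers_le.2 hy
  have ho : Odd (Nat.card (zpowers y)) := by rwa [Nat.card_zpowers, ← Nat.coprime_two_right]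
  have h3 := h2.trans (le_centralizer_iff.1 (hL.pc_le 2))
  refine zpowers_eq_bot.1 (h.eq_bot (h2.trans (hL.le.trans inf_le_left)) ho (fun J hJ => ?_)
    (Loc.bal_pc (hA.el a ha) (hA.le ha) (h2.trans hL.le) ho h3))
  by_cases e : a ∈ 𝐂(J)
  · rcases hL.eq_or (hJ.inf_cent1 e) with rfl | e'
    · exact absurd hJ h1
    · exact h2.trans e'
  · exact h.bal hA ha (h2.trans hL.le) ho h3 hJ e (hg J hJ fun h => e (h ha))

theorem center_le_comm (hQ : IsSylowIn 2 Q L) (hp : ⁅L, L⁆ = L) {z : G} (h1 : z ∈ Q)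
    (h2 : z ∈ 𝐂(L)) : z ∈ ⁅Q, Q⁆ := by
  let z' : L := ⟨z, hQ.le h1⟩
  have key : ∀ (k : ℕ) (g : L), g⁻¹ * z' ^ k * g ∈ Q.subgroupOf L → g⁻¹ * z' ^ k * g = z' ^ k :=
    fun k g _ => Subtype.ext (by
      change (g : G)⁻¹ * z ^ k * g = z ^ k
      rw [mul_assoc, ← mem_cent.1 (pow_mem h2 k) g g.2, inv_mul_cancel_left])
  have h3 := MonoidHom.transfer_eq_pow (Abelianization.of (G := Q.subgroupOf L)) z' key
  have h4 : z' ∈ (MonoidHom.transfer (Abelianization.of (G := Q.subgroupOf L))).ker := by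
    refine Abelianization.commutator_subset_ker _ ?_
    rw [← mem_map_iff_mem L.subtype_injective, map_subtype_commutator, hp]
    exact z'.2
  rw [MonoidHom.mem_ker, h3, ← MonoidHom.mem_ker, Abelianization.ker_of] at h4
  have h5 := mem_map_of_mem (L.subtype.comp (Q.subgroupOf L).subtype) h4
  rw [← map_map, map_subtype_commutator, map_commutator, H1.map_subtype_subgroupOf hQ.le] at h5
  obtain ⟨n, hn⟩ := hQ.isPGroup ⟨z, h1⟩
  refine mem_of_pow_odd (n := n) (by rw [show z ^ 2 ^ n = 1 from congrArg Subtype.val hn]; simp)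
    (Nat.not_even_iff_odd.1 fun h => hQ.not_dvd (even_iff_two_dvd.1 h)) h5

/-- A component of Suzuki type moved by `A`, with Sylow subgroup centralized by `A`. -/
structure SM (X A L Q K T : Subgroup G) : Prop where
  el : El A
  m : Mov X A L Q K T
  s : STor X L Q K
  ca : 𝐂(A) ≤ X
  qc : Q ≤ 𝐂(A)

namespace SM

variable (h : SM X A L Q K T)
include h

theorem cn : 𝐂(A) ≤ 𝐍(L) := fun g hg => by
  obtain ⟨t, ht, h1⟩ := h.m.exists_ne
  refine h.m.tc.mem_norm (le_normalizer (h.ca hg)) (h.m.tL ht) (h.m.notMem ht h1) ?_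
  rw [← mem_cent.1 hg t (h.m.tA ht), mul_inv_cancel_right]
  exact h.m.tL ht

theorem mem_Q {x : G} (hx : x ∈ L) (h1 : x ∈ 𝐂(T)) : x ∈ Q := by
  obtain ⟨t, ht, h2⟩ := h.m.exists_ne
  refine h.s.cent t (h.m.tQ ht) (h.m.notMem ht h2) x hx ?_
  rw [commutatorElement_eq_one_iff_mul_comm.2 (mem_cent.1 h1 t ht)]
  exact one_mem _

omit [Finite G] in
theorem cenQ {x : G} (hx : x ∈ Q) (h1 : x * x ∈ 𝐂(L)) : x ∈ 𝐂(Q) := by
  obtain ⟨t, ht, h2⟩ := h.m.cov x hx h1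
  simpa using mul_mem (centralizer_le h.m.syl.le h2) (le_centralizer_iff.1 h.qc (h.m.tA ht))

theorem zbot : L ⊓ 𝐂(L) = ⊥ := by
  have cm : ∀ x ∈ Q, ∀ y ∈ Q, ⁅x, y⁆ ∈ Q := fun x hx y hy => comm_mem_left hx (le_normalizer hy)
  have cc : ∀ x ∈ Q, ∀ y ∈ Q, ⁅x, y⁆ ∈ 𝐂(Q) := fun x hx y hy =>
    h.cenQ (cm x hx y hy) (h.s.cmm x hx y hy)
  have sc : ∀ x ∈ Q, x * x ∈ 𝐂(Q) := fun x hx => h.cenQ (mul_mem hx hx) (h.s.sq x hx)
  let Ω : Subgroup G :=
    { carrier := {w | w ∈ Q ⊓ 𝐂(Q) ∧ w * w = 1}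
      mul_mem' := fun {a b} ha hb => ⟨mul_mem ha.1 hb.1, by
        rw [mul_assoc, ← mul_assoc b, mem_cent.1 ha.1.2 b hb.1.1, mul_assoc, hb.2, mul_one, ha.2]⟩
      one_mem' := ⟨one_mem _, mul_one 1⟩
      inv_mem' := fun {a} ha => ⟨(Q ⊓ 𝐂(Q)).inv_mem ha.1, by rw [← mul_inv_rev, ha.2, inv_one]⟩ }
  have h1 : ⁅Q, Q⁆ ≤ Ω := commutator_le.2 fun x hx y hy => ⟨⟨cm x hx y hy, cc x hx y hy⟩, by
    calc ⁅x, y⁆ * ⁅x, y⁆ = x * ⁅x, y⁆ * x⁻¹ * ⁅x, y⁆ := by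
          rw [mem_cent.1 (cc x hx y hy) x hx, mul_inv_cancel_right]
      _ = x * x * y * (x * x)⁻¹ * y⁻¹ := by simp only [commutatorElement_def]; group
      _ = 1 := by rw [← mem_cent.1 (sc x hx) y hy]; group⟩
  have hZ : ∀ z ∈ L ⊓ 𝐂(L), z ∈ ⁅Q, Q⁆ := fun z hz =>
    center_le_comm h.m.syl h.m.tc.perfect (h.m.zle hz) hz.2
  have h2 : ∀ x ∈ Q, x * x ∈ 𝐂(L) → x * x = 1 := fun x hx e => by
    obtain ⟨t, ht, h3⟩ := h.m.cov x hx e
    have h4 := (h1 (hZ _ (mem_inf.2 ⟨mul_mem (h.m.syl.le hx) (inv_mem (h.m.tL ht)), h3⟩))).2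
    rwa [h.el.inv (h.m.tA ht), mul_assoc, ← mul_assoc t, mem_cent.1 (h.qc hx) t (h.m.tA ht),
      mul_assoc, h.el t (h.m.tA ht), mul_one] at h4
  have h3 : ∀ x ∈ Q, ∀ y ∈ Q, x * x ∉ 𝐂(L) → y * y ∉ 𝐂(L) → (x * x)⁻¹ * (y * y) ∈ T :=
    fun x hx y hy xx yy => by
      obtain ⟨k, hk, h4⟩ := h.s.tr2 x hx y hy xx yy
      have h5 := mul_mem (conj_mem_of_mem_normalizer (h.m.norm hk) hx) (inv_mem hy)
      obtain ⟨t, ht, h6⟩ := h.m.cov _ (mul_mem hx hx) (h.s.sq x hx)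
      have h7 : k * (x * x) * k⁻¹ = y * y := by
        calc _ = k * x * k⁻¹ * y⁻¹ * (y * (k * x * k⁻¹ * y⁻¹)) * y := by group
          _ = y * y := by
            rw [mem_cent.1 (h.cenQ h5 h4) y hy, ← mul_assoc _ _ y, h2 _ h5 h4, one_mul]
      have h8 := mul_mem (inv_mem ht) (conj_mem_of_mem_normalizer (h.m.kt hk) ht)
      convert h8 using 1
      rw [← h7, show k * (x * x) * k⁻¹ = k * (x * x * t⁻¹) * t * k⁻¹ by group,
        mem_cent.1 h6 k (h.m.le hk)]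
      group
  have h4 : ∀ x ∈ Q, ∀ y ∈ Q, x * x ∉ 𝐂(L) → x * y * (x * y) ∉ 𝐂(L) →
      ⁅x⁻¹, y⁆ * (y * y) ∈ T := fun x hx y hy a b => by
    convert h3 x hx _ (mul_mem hx hy) a b using 1
    simp only [commutatorElement_def]; group
  obtain ⟨x, hx, y, hy, w, hw, xx, yy, ww, xy, xw, yw, xyw⟩ := h.s.three
  have h5 : y * y ∈ T := by
    have a := h4 x hx y hy xx xy
    have b := h4 x hx w hw xx xw
    have c := h4 x hx _ (mul_mem hy hw) xx xyw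
    have d := h3 w hw _ (mul_mem hy hw) ww yw
    have e : ⁅x⁻¹, y * w⁆ = ⁅x⁻¹, y⁆ * ⁅x⁻¹, w⁆ := by
      calc _ = ⁅x⁻¹, y⁆ * (y * ⁅x⁻¹, w⁆ * y⁻¹) := by simp only [commutatorElement_def]; group
        _ = _ := by rw [mem_cent.1 (cc _ (inv_mem hx) w hw) y hy, mul_inv_cancel_right]
    have f := mul_mem (inv_mem (mul_mem c (mul_mem (inv_mem d) (inv_mem b)))) a
    convert f using 1
    rw [e]; group
  have h6 : ∀ u ∈ Q, u * u ∈ T := fun u hu => by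
    by_cases e : u * u ∈ 𝐂(L)
    · rw [h2 u hu e]; exact one_mem _
    · simpa only [mul_inv_cancel_left] using mul_mem h5 (h3 y hy u hu yy e)
  have h7 : ⁅Q, Q⁆ ≤ T := commutator_le.2 fun u hu v hv => by
    convert mul_mem (mul_mem (h6 u hu) (h6 _ (mul_mem (inv_mem hu) hv))) (h6 _ (inv_mem hv))
      using 1
    simp only [commutatorElement_def]; group
  exact eq_bot_of_forall fun z hz => eq_one_of_mem_inf h.m.inf (h7 (hZ z hz)) hz.2

theorem inf_eq : A ⊓ L = T := le_antisymm (fun a ha => by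
  obtain ⟨t, ht, h1⟩ := h.m.dec a ha.1
  rw [eq_inv_of_mul_eq_one_right (eq_one_of_mem_inf h.zbot (mul_mem (h.m.tL ht) ha.2) h1)]
  exact inv_mem ht) (le_inf h.m.tA h.m.tL)

theorem le_comm : T ≤ ⁅Q, Q⁆ := fun t ht => by
  by_cases h1 : t = 1
  · rw [h1]; exact one_mem _
  obtain ⟨x, hx, y, hy, -, -, xx, yy, -, xy, -⟩ := h.s.three
  have h2 : ⁅x, y⁆ ∈ Q := comm_mem_left hx (le_normalizer hy)
  obtain ⟨s, hs, h3⟩ := h.m.cov _ h2 (h.s.cmm x hx y hy)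
  have h4 := mul_inv_eq_one.1 (eq_one_of_mem_inf h.zbot
    (mul_mem (h.m.syl.le h2) (inv_mem (h.m.tL hs))) h3)
  obtain ⟨k, hk, rfl⟩ := h.m.trt s hs t ht (fun e => xy (h.s.com x hx y hy xx yy
    (commutatorElement_eq_one_iff_mul_comm.1 (h4.trans e)))) h1
  exact conj_mem_of_mem_normalizer (le_normalizer_commutator h.m.norm h.m.norm hk)
    (h4 ▸ commutator_mem_commutator hx hy)

/-- A `2`-element centralizing `A` acts on `L` as an element of `Q`. -/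
theorem dec {y : G} (hy : y ∈ 𝐂(A)) (h2 : IsPGroup 2 (zpowers y)) : ∃ l ∈ Q, l⁻¹ * y ∈ 𝐂(L) := by
  obtain ⟨n, hn⟩ := h2 ⟨y, mem_zpowers y⟩
  obtain ⟨l, hl, h3⟩ := h.m.inn y (h.ca hy) (h.cn hy) n
    (by rw [show y ^ 2 ^ n = 1 from congrArg Subtype.val hn]; exact one_mem _)
  refine ⟨l, h.mem_Q hl ?_, h3⟩
  simpa using mul_mem (centralizer_le h.m.tA hy) (inv_mem (centralizer_le h.m.tL h3))

theorem dich {X' L' Q' K' T' : Subgroup G} (h' : SM X' A L' Q' K' T') : T ≤ T' ∨ T ≤ 𝐂(L') := by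
  have hn := h.qc.trans h'.cn
  have key : ∀ y ∈ Q, y ∈ H1.centMod Q 𝐂(L') ∨ y ∈ H1.centMod Q L' := fun y hy => by
    by_cases yy : y * y ∈ 𝐂(L)
    · refine Or.inl ⟨norm_le_norm_cent _ (hn hy), fun w hw => ?_⟩
      rw [commutatorElement_eq_one_iff_mul_comm.2 (mem_cent.1 (h.cenQ hy yy) w hw)]
      exact one_mem _
    obtain ⟨p, hp, h1⟩ := h'.dec (h.qc hy) (h.m.syl.isPGroup.to_le (zpowers_le.2 hy))
    obtain ⟨u, hu, h2⟩ := h.dec (h'.qc hp) (h'.m.syl.isPGroup.to_le (zpowers_le.2 hp))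
    have h3 : p * y = y * p := by
      have := mem_cent.1 h1 p (h'.m.syl.le hp)
      rwa [mul_inv_cancel_left, mul_assoc, eq_inv_mul_iff_mul_eq] at this
    have h4 : u * (u⁻¹ * y) = u⁻¹ * y * u := by
      have := mem_cent.1 h2 y (h.m.syl.le hy)
      rw [mul_assoc, h3, ← mul_assoc, ← mul_assoc, mul_left_inj] at this
      rw [mul_inv_cancel_left, ← this, inv_mul_cancel_right]
    have h5 := mul_mem (inv_mem hu) hy
    by_cases uu : u * u ∈ 𝐂(L)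
    · refine Or.inl ⟨norm_le_norm_cent _ (hn hy), fun w hw => ?_⟩
      have h6 : p ∈ 𝐂(Q) := by
        simpa using mul_mem (h.cenQ hu uu) (centralizer_le h.m.syl.le h2)
      have h7 := comm_mem_right (norm_le_norm_cent _ (hn hw)) h1
      have h8 := mem_cent.1 h7 p (h'.m.syl.le hp)
      rw [show ⁅w, y⁆ = (w * p) * w⁻¹ * p⁻¹ * (p * ⁅w, p⁻¹ * y⁆) * p⁻¹ by
        simp only [commutatorElement_def]; group, mem_cent.1 h6 w hw, h8]
      simpa using h7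
    · refine Or.inr ⟨hn hy, fun w hw => ?_⟩
      have h6 : u⁻¹ * y * (u⁻¹ * y) ∈ 𝐂(L) := by
        by_contra e
        exact yy (by simpa using h.s.com u hu _ h5 uu e h4)
      have h7 : p⁻¹ * y ∈ 𝐂(Q) := by
        simpa [mul_assoc] using mul_mem (inv_mem (centralizer_le h.m.syl.le h2)) (h.cenQ h5 h6)
      rw [show ⁅w, y⁆ = ⁅w, p⁆ * p * (w * (p⁻¹ * y)) * w⁻¹ * y⁻¹ by
        simp only [commutatorElement_def]; group, mem_cent.1 h7 w hw]
      simpa [mul_assoc] using comm_mem_right (hn hw) (h'.m.syl.le hp)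
  by_cases e : Q ≤ H1.centMod Q 𝐂(L')
  · exact Or.inr (h.le_comm.trans (commutator_le.2 fun x hx y hy => (e hy).2 x hx))
  obtain ⟨x, hx, h1⟩ := SetLike.not_le_iff_exists.1 e
  refine Or.inl (le_trans (le_inf h.m.tA (h.le_comm.trans (commutator_le.2 fun w hw y hy =>
    (mem_centMod.1 ?_).2 w hw))) h'.inf_eq.le)
  have h2 := (key x hx).resolve_left h1
  rcases key y hy with h3 | h3
  · rcases key _ (mul_mem hx hy) with h4 | h4
    · exact absurd (by simpa using mul_mem h4 (inv_mem h3)) h1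
    · simpa using mul_mem (inv_mem h2) h4
  · exact h3

end SM

end CfsgLib.GO
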