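import Cfsg.Agent.Lib.Gol.Bal
import Cfsg.Agent.Lib.Wal.FourW
import Cfsg.Agent.Lib.FusionControl

/-!
# Step B1: the action of `N(A)` on `A`
-/

set_option autoImplicit false

namespace CfsgLib.GO

open Subgroup Cfsg CfsgLib.FT CfsgLib.FT.BGN CfsgLib.Cop CfsgLib.GW CfsgLib.Wal
open CfsgLib.H1 (AbTwo CharIn layerIn genFitIn dSub)
open CfsgLib.FT.U4 (mem_cent1 mem_cent1' mem_cent mem_cent1_comm cent1_conj
  eq_one_of_mem_inf eq_bot_of_forall conj_mem_conj_iff orderOf_conj norm_le_norm_cent)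
open scoped commutatorElement

universe u

variable {G : Type u} [Group G]

/-- `N(A)` acts irreducibly on `A`. -/
def Irr (A : Subgroup G) : Prop := ∀ C ≤ A, 𝐍(A) ≤ 𝐍(C) → C = ⊥ ∨ C = A

variable [Finite G] {S A X : Subgroup G}

omit [Finite G] in
theorem SCA.el (h : SCA S A) : El A := fun a ha => by rw [← sq]; exact h.ea.2 a ha

theorem SCA.scin (h : SCA S A) (hX : A ≤ X) : SCin A X := by
  have := Fact.mk Nat.prime_two
  refine ⟨h.el, hX, fun P hP h1 _ g _ a ha h2 => ?_⟩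
  obtain ⟨x, -, hx⟩ := h.syl.exists_conj_le hP le_top
  have h3 : x ∈ 𝐍(A) := mem_normalizer_of_conj_mem fun b hb =>
    h.sc x b hb (hx (conj_mem_map_conj (h1 hb)))
  have h4 := h.sc (x * g) a ha (by convert hx (conj_mem_map_conj h2) using 1; group)
  convert conj_mem_of_mem_normalizer' h3 h4 using 1; group

theorem SCA.le_norm (h : SCA S A) : S ≤ 𝐍(A) :=
  (h.scin le_top).le_norm h.syl.isPGroup h.le le_top

theorem SCA.exists_cent (h : SCA S A) : ∃ z ∈ A, z ≠ 1 ∧ z ∈ 𝐂(S) := by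
  have := Fact.mk Nat.prime_two
  obtain ⟨⟨z, hz⟩, h1⟩ := ne_bot_iff_exists_ne_one.1 (inf_centralizer_ne_bot_of_isNilpotent
    h.syl.isPGroup.isNilpotent h.le h.le_norm h.ne)
  exact ⟨z, hz.1, fun e => h1 (Subtype.ext e), hz.2⟩

theorem MC.not_solv (h : MC G) : ¬ Group.IsSolvable (⊤ : Subgroup G) := fun hs => by
  have := h.simple
  exact h.nonab ⟨⟨IsSimpleGroup.comm_iff_isSolvable.2
    (solvable_of_surjective (f := (⊤ : Subgroup G).subtype) fun x => ⟨⟨x, trivial⟩, rfl⟩)⟩⟩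

theorem MC.norm_ne (h : MC G) (h0 : X ≠ ⊥) (hs : Group.IsSolvable X) : 𝐍(X) ≠ ⊤ :=
  haveI := h.simple
  norm_ne_top h0 fun e => h.not_solv (e ▸ hs)

theorem MC.cent1_ne (h : MC G) {a : G} (h1 : a ≠ 1) : 𝐂[a] ≠ ⊤ := fun e =>
  h.norm_ne (X := zpowers a) (by rwa [Ne, zpowers_eq_bot]) inferInstance
    (top_le_iff.1 (e.ge.trans (norm_zp le_rfl)))

theorem MC.loc_bar (h : MC G) (hX : X ≠ ⊤) : Loc (⊤ : Subgroup (Bar X)) :=
  GO.loc_bar (h.s3f.subgroup X) (h.kg X hX)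

theorem MC.loc (h : MC G) (hX : X ≠ ⊤) (hO : Od X = ⊥) : Loc X :=
  ⟨hO, h.s3f.subgroup X, h.kg X hX⟩

/-- A normal subgroup of `N(A)` inducing a `2`-group on `A` fixes a nontrivial element. -/
theorem inf_cent_ne_bot (hA : IsPGroup 2 A) (h0 : A ≠ ⊥) {K : Subgroup G} (hK : K ≤ 𝐍(A)) {k : ℕ}
    (h : (𝐂(A)).relIndex K = 2 ^ k) : A ⊓ 𝐂(K) ≠ ⊥ := by
  have := Fact.mk Nat.prime_two
  obtain ⟨P, hP⟩ := IsSylowIn.exists_in (p := 2) K
  have h1 := hP.sup_eq_of_relIndex_eq_pow (N := 𝐂(A) ⊓ K) inf_le_right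
    (by rwa [inf_relIndex_right])
  refine fun e => inf_centralizer_ne_bot_of_isNilpotent
    (isPGroup_sup' (hP.le.trans hK) hA hP.isPGroup).isNilpotent le_sup_left
    (sup_le le_normalizer (hP.le.trans hK)) h0 (le_bot_iff.1 (le_trans ?_ e.le))
  refine le_inf inf_le_left (le_centralizer_iff.1 (h1.ge.trans (sup_le
    (inf_le_left.trans (centralizer_le inf_le_left)) ?_)))
  exact le_sup_right.trans (le_centralizer_iff.1 inf_le_right)

theorem ml_of_red (h3 : S3F 𝐍(A)) (hK : KG 𝐍(A)) (hA : El A)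
    (hr : ∀ K ≤ 𝐍(A), 𝐍(A) ≤ 𝐍(K) → ∀ k, (𝐂(A)).relIndex K = 2 ^ k → K ≤ 𝐂(A))
    {U : Subgroup G} (hU : U ≤ 𝐍(A)) (h2 : ∀ u ∈ U, u * u ∈ 𝐂(A)) :
    (𝐂(A)).relIndex U ^ 2 ≤ (𝐂(U)).relIndex A := by
  have := sq_le_index h3 hK A.normalizerMonoidHom
    (fun v => Subtype.ext (by change (v : G) ^ 2 = 1; rw [sq]; exact hA v v.2))
    (fun K hK ⟨k, hk⟩ => by
      rw [normalizerMonoidHom_ker] at hk ⊢
      rw [subgroupOf, ← map_le_iff_le_comap]
      refine hr _ (map_subtype_le _) (fun g hg => (mem_normalizer_map_subtype (x := ⟨g, hg⟩)).2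
        ((normalizer_eq_top K).ge (mem_top _))) k ?_
      rwa [subgroupOf, relIndex_comap] at hk)
    (U := U.subgroupOf 𝐍(A)) (fun u hu => by
      rw [normalizerMonoidHom_ker, mem_subgroupOf, sq]; exact h2 u hu)
    (F := (𝐂(U)).subgroupOf A) (fun v hv => mem_cent.2 fun u hu =>
      mul_inv_eq_iff_eq_mul.1 (congrArg Subtype.val (hv ⟨u, hU hu⟩ hu)))
    fun v hv u hu => Subtype.ext (mul_inv_eq_iff_eq_mul.2 (mem_cent.1 hv u hu))
  rwa [normalizerMonoidHom_ker, relIndex_subgroupOf hU] at this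

theorem MC.ml (h : MC G) (hA : El A) (h0 : A ≠ ⊥) (hi : Irr A) {U : Subgroup G} (hU : U ≤ 𝐍(A))
    (h2 : ∀ u ∈ U, u * u ∈ 𝐂(A)) : (𝐂(A)).relIndex U ^ 2 ≤ (𝐂(U)).relIndex A :=
  ml_of_red (h.s3f.subgroup _) (h.kg _ (h.norm_ne h0 hA.solv)) hA (fun K h1 h2 _ hk =>
    le_centralizer_iff.1 (((hi _ inf_le_left (H1.le_normalizer_inf le_rfl
      (H1.le_normalizer_centralizer h2))).resolve_left
        (inf_cent_ne_bot hA.isPGroup h0 h1 hk)).ge.trans inf_le_right)) hU h2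

theorem SCA.le_of_comm (hA : SCA S A) (h : MC G) {N : Subgroup G}
    (h1 : ∀ m ∈ 𝐍(A), ∀ n ∈ 𝐍(A), ⁅m, n⁆ ∈ N) : S ≤ N := by
  have := Fact.mk Nat.prime_two
  have := h.simple
  obtain ⟨P, rfl⟩ := IsSylowIn.top_iff.1 hA.syl
  have h2 : commutator G = ⊤ := (inferInstance : (commutator G).Normal).eq_bot_or_eq_top.resolve_left
    fun e => h.nonab ⟨⟨fun a b => commutatorElement_eq_one_iff_mul_comm.1
      (mem_bot.1 (e.le (commutator_mem_commutator (mem_top a) (mem_top b))))⟩⟩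
  refine le_trans (by rw [h2, top_inf_eq]) (Fusion.commutator_inf_sylow_le P fun x hx g hg => ?_)
  obtain ⟨m, -, hm, e⟩ := hA.ctl g (mem_top g)
  rw [← e x hx hg]
  exact h1 m hm x (hA.le_norm hx)

/-- `N(A)` has no subgroup of index two. -/
theorem SCA.le_of_two (hA : SCA S A) (h : MC G) {N : Subgroup G}
    (h1 : ∀ m ∈ 𝐍(A), ∀ n ∈ 𝐍(A), m ∉ N → n ∉ N → m * n ∈ N) : 𝐍(A) ≤ N := by
  have key : ∀ m ∈ 𝐍(A), ∀ n ∈ 𝐍(A), (m * n ∈ N ↔ (m ∈ N ↔ n ∈ N)) := fun m hm n hn => by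
    by_cases a : m ∈ N
    · simp [a, mul_mem_cancel_left a]
    · by_cases b : n ∈ N
      · simp [a, b, mul_mem_cancel_right b]
      · simp [a, b, h1 m hm n hn a b]
  have h2 : S ≤ N := hA.le_of_comm h fun m hm n hn => by
    rw [commutatorElement_def, key _ (mul_mem (mul_mem hm hn) (inv_mem hm)) _ (inv_mem hn),
      key _ (mul_mem hm hn) _ (inv_mem hm), key _ hm _ hn, inv_mem_iff, inv_mem_iff]
    tauto
  by_contra h3
  obtain ⟨m, hm, h4⟩ := SetLike.not_le_iff_exists.1 h3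
  have h5 := odd_relIndex_of_sylow hA.syl h2 hA.le_norm le_top
  rw [relIndex, index_eq_two_iff.2 ⟨⟨m, hm⟩, fun b => by
    rw [mem_subgroupOf, mem_subgroupOf, coe_mul, key _ b.2 _ hm]; tauto⟩] at h5
  exact absurd h5 (by decide)

open scoped IsMulCommutative in
theorem hup' (hA : El A) (ho : Odd ((𝐂(A)).relIndex 𝐍(A)))
    (htr : ∀ u ∈ A, ∀ v ∈ A, u ≠ 1 → v ≠ 1 → ∃ n ∈ 𝐍(A), n * u * n⁻¹ = v) {d : G} (hd : d ∈ A)
    (h1 : d ≠ 1) {m : ℕ} (hm : Nat.card A = 2 ^ m) (h0 : 0 < m) {t : G} (ht : t ∈ A) :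
    ∃ f : ℕ → G, ∀ n ∈ 𝐍(A) ⊓ 𝐂[d], ∃ j < m, n * t * n⁻¹ = f j := by
  classical
  have := Fact.mk Nat.prime_two
  have := hA.mulComm
  have : Nontrivial A := ⟨⟨⟨d, hd⟩, 1, fun h => h1 (congrArg Subtype.val h)⟩⟩
  have ho : Odd (Nat.card A.normalizerMonoidHom.range) := by
    rwa [← index_ker, normalizerMonoidHom_ker]
  obtain ⟨F, i1, i2, i3, e, a1, a2, a3⟩ := Suz.huppert_field (r := 2) (V := A)
    (φ := A.normalizerMonoidHom.range.subtype) ho (solvable_of_odd ho)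
    (fun v => Subtype.ext (by change (v : G) ^ 2 = 1; rw [sq]; exact hA v v.2))
    (Nat.coprime_two_right.2 ho) fun a b ha hb => by
      obtain ⟨n, hn, h⟩ := htr a a.2 b b.2 (fun h => ha (Subtype.ext h)) fun h => hb (Subtype.ext h)
      exact ⟨⟨_, ⟨n, hn⟩, rfl⟩, Subtype.ext h⟩
  have e1 : e 1 = 0 := by
    have := a2 1 1
    rw [mul_one] at this
    exact left_eq_add.1 this
  have ed : e ⟨d, hd⟩ ≠ 0 := fun h => h1 (congrArg Subtype.val (a1.1 (h.trans e1.symm)))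
  have hc : Fintype.card F = 2 ^ m := by
    rw [← hm, ← Nat.card_eq_fintype_card, Nat.card_eq_of_bijective e a1]
  have hp : ∀ (x : F) (k : ℕ), x ^ 2 ^ (m * k) = x := fun x k => by
    rw [pow_mul, ← hc, FiniteField.pow_card_pow]
  refine ⟨fun j => ((Function.invFun e ((e ⟨t, ht⟩ / e ⟨d, hd⟩) ^ 2 ^ j * e ⟨d, hd⟩) : A) : G),
    fun n hn => ?_⟩
  obtain ⟨c, j, -, h⟩ := a3 ⟨_, ⟨n, hn.1⟩, rfl⟩
  have h2 : e ⟨d, hd⟩ = c * e ⟨d, hd⟩ ^ 2 ^ j := by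
    rw [← h]; congr 1
    exact Subtype.ext (by
      change d = n * d * n⁻¹
      rw [mem_cent1.1 hn.2, mul_inv_cancel_right])
  have h3 : e ⟨n * t * n⁻¹, conj_mem_of_mem_normalizer hn.1 ht⟩ = c * e ⟨t, ht⟩ ^ 2 ^ j :=
    h ⟨t, ht⟩
  have h4 : e ⟨n * t * n⁻¹, conj_mem_of_mem_normalizer hn.1 ht⟩ / e ⟨d, hd⟩ =
      (e ⟨t, ht⟩ / e ⟨d, hd⟩) ^ 2 ^ j := by
    rw [h3, div_pow, div_eq_div_iff ed (pow_ne_zero _ ed)]
    linear_combination (-e ⟨t, ht⟩ ^ 2 ^ j) * h2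
  refine ⟨j % m, Nat.mod_lt _ h0, ?_⟩
  rw [← Nat.div_add_mod j m, pow_add, pow_mul, hp] at h4
  simp only
  rw [← h4, div_mul_cancel₀ _ ed, Function.leftInverse_invFun a1.1]

theorem trans_of_hyp (hA : El A) (hi : Irr A) {a : G} (ha : a ∈ A) {T : Subgroup G} (hT : T ≤ A)
    (h4 : 4 ≤ Nat.card T) (h1 : a ∉ T) (dec : ∀ x ∈ A, x ∈ T ∨ a * x ∈ T)
    (tr : ∀ t ∈ T, ∀ t' ∈ T, t ≠ 1 → t' ≠ 1 → ∃ n ∈ 𝐍(A) ⊓ 𝐂[a], n * t * n⁻¹ = t') :
    ∀ x ∈ A, x ≠ 1 → ∃ n ∈ 𝐍(A), n * a * n⁻¹ = x := by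
  let O : Set G := {x | ∃ n ∈ 𝐍(A), n * a * n⁻¹ = x}
  have hO : ∀ n ∈ 𝐍(A), ∀ x ∈ O, n * x * n⁻¹ ∈ O := by
    rintro n hn _ ⟨m, hm, rfl⟩
    exact ⟨n * m, mul_mem hn hm, by group⟩
  have a1 : a ≠ 1 := fun e => h1 (e ▸ one_mem T)
  have hT0 : T ≠ ⊥ := fun e => by rw [e, card_bot] at h4; omega
  have c1 : ∀ t ∈ T, t ∈ O → ∀ t' ∈ T, t' ≠ 1 → t' ∈ O := fun t ht h t' ht' t1 => by
    obtain ⟨n, hn, rfl⟩ := tr t ht t' ht' (by
      rintro rfl
      obtain ⟨m, -, e⟩ := h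
      exact a1 (by simpa using e)) t1
    exact hO n hn.1 t h
  have c2 : ∀ t ∈ T, t ≠ 1 → a * t ∈ O → ∀ t' ∈ T, t' ≠ 1 → a * t' ∈ O :=
    fun t ht t1 h t' ht' t2 => by
      obtain ⟨n, hn, rfl⟩ := tr t ht t' ht' t1 t2
      have := hO n hn.1 _ h
      rwa [← _root_.conj_mul, mem_cent1.1 hn.2, mul_inv_cancel_right] at this
  have aa : ∀ x, a * (a * x) = x := fun x => by rw [← mul_assoc, hA a ha, one_mul]
  have aO : a ∈ O := ⟨1, one_mem _, by simp⟩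
  obtain ⟨n, hn, h2⟩ : ∃ n ∈ 𝐍(A), n * a * n⁻¹ ≠ a := by
    by_contra! h2
    rcases hi _ (zpowers_le.2 ha) (norm_zp fun n hn =>
      mem_cent1.2 (mul_inv_eq_iff_eq_mul.1 (h2 n hn))) with e | e
    · exact a1 (zpowers_eq_bot.1 e)
    · have := card_le_of_le (hT.trans e.ge)
      rw [card_zpowers_inv (hA.ord ha a1)] at this
      omega
  have h3 := conj_mem_of_mem_normalizer hn ha
  have h5 : n * a * n⁻¹ ∈ O := ⟨n, hn, rfl⟩
  have h6 : a * (n * a * n⁻¹) ≠ 1 := fun e => h2 (by rw [← aa (n * a * n⁻¹), e, mul_one])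
  have d1 : ∃ t ∈ T, t ∈ O := by
    by_contra! h7
    have h8 := (dec _ h3).resolve_left fun e => h7 _ e h5
    refine (hi T hT fun m hm => mem_normalizer_of_conj_mem fun t ht => ?_).elim hT0
      fun e => h1 (e.ge ha)
    refine (dec _ (conj_mem_of_mem_normalizer hm (hT ht))).resolve_right fun e => h7 t ht ?_
    have h9 : m * t * m⁻¹ ∈ O := by
      by_cases e' : a * (m * t * m⁻¹) = 1
      · rwa [← aa (m * t * m⁻¹), e', mul_one]
      · rw [← aa (m * t * m⁻¹)]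
        exact c2 _ h8 h6 ((aa _).symm ▸ h5) _ e e'
    simpa [mul_assoc] using hO _ (inv_mem hm) _ h9
  have d2 : ∃ t ∈ T, t ≠ 1 ∧ a * t ∈ O := by
    by_contra! h7
    have h8 := (dec _ h3).resolve_right fun e => h7 _ e h6 ((aa _).symm ▸ h5)
    obtain ⟨t, ht, hF⟩ := (hA.mono hT).exists_four h4 h8 (by simpa using a1)
    have h9 := hO _ (inv_mem hn) _ (c1 _ h8 h5 t ht hF.s1)
    have h10 := hO _ (inv_mem hn) _ (c1 _ h8 h5 _ (mul_mem h8 ht) hF.ts1)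
    rw [show n⁻¹ * (n * a * n⁻¹ * t) * n⁻¹⁻¹ = a * (n⁻¹ * t * n⁻¹⁻¹) by group] at h10
    rcases dec _ (conj_mem_of_mem_normalizer (inv_mem hn) (hT ht)) with e | e
    · exact h7 _ e (fun e' => hF.s1 (conj_eq_one_iff.1 e')) h10
    · refine h7 _ e (fun e' => hF.ts1 ?_) ((aa _).symm ▸ h9)
      calc _ = n * (a * (n⁻¹ * t * n⁻¹⁻¹)) * n⁻¹ := by group
        _ = 1 := by rw [e']; group
  intro x hx x1
  obtain ⟨t, ht, e1⟩ := d1
  obtain ⟨s, hs, s1, e2⟩ := d2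
  rcases dec x hx with e | e
  · exact c1 t ht e1 x e x1
  · by_cases e' : a * x = 1
    · rwa [← aa x, e', mul_one]
    · rw [← aa x]; exact c2 s hs s1 e2 _ e e'

theorem MC.false_of_hyp (h : MC G) (hA : SCA S A) (hi : Irr A) {a : G} (ha : a ∈ A)
    {T : Subgroup G} (hT : T ≤ A) (h8 : 8 ≤ Nat.card T) (h1 : a ∉ T)
    (dec : ∀ x ∈ A, x ∈ T ∨ a * x ∈ T)
    (tr : ∀ t ∈ T, ∀ t' ∈ T, t ≠ 1 → t' ≠ 1 → ∃ n ∈ 𝐍(A) ⊓ 𝐂[a], n * t * n⁻¹ = t')
    (two : ∀ s ∈ 𝐍(A) ⊓ 𝐂[a], IsPGroup 2 (zpowers s) → ∀ x ∈ A, ⁅s, x⁆ ∈ zpowers a) : False := by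
  classical
  have hE := hA.el
  have a1 : a ≠ 1 := fun e => h1 (e ▸ one_mem T)
  have h2 := trans_of_hyp hE hi ha hT (by omega) h1 dec tr
  obtain ⟨z, hz, z1, h3⟩ := hA.exists_cent
  obtain ⟨n, hn, rfl⟩ := h2 z hz z1
  have h4 : S ≤ 𝐂(A) := fun s hs => by
    have b1 : n⁻¹ * s * n ∈ 𝐍(A) ⊓ 𝐂[a] := mem_inf.2 ⟨mul_mem (mul_mem (inv_mem hn) (hA.le_norm hs)) hn,
      mem_cent1.2 (by
        calc _ = n⁻¹ * (s * (n * a * n⁻¹)) * n := by group
          _ = _ := by rw [mem_cent.1 h3 s hs]; group)⟩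
    have b2 : IsPGroup 2 (zpowers (n⁻¹ * s * n)) := by
      have := (hA.syl.isPGroup.to_le (zpowers_le.2 hs)).map (MulAut.conj n⁻¹).toMonoidHom
      rwa [cj_zpowers, inv_inv] at this
    set u := n⁻¹ * s * n with hu
    have b3 : (𝐂(zpowers u)).relIndex A ≤ 2 := by
      by_cases e : A ≤ 𝐂[u]
      · rw [cent_zpowers, relIndex_eq_one.2 e]; omega
      obtain ⟨y, hy, y1⟩ := SetLike.not_le_iff_exists.1 e
      rw [cent_zpowers, ← inf_relIndex_left]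
      refine relIndex_le_two hA.ea hy inf_le_left (le_antisymm (sup_le inf_le_left
        (zpowers_le.2 hy)) fun x hx => ?_)
      have cm : ∀ w, ⁅u, w⁆ = 1 → w ∈ 𝐂[u] := fun w e =>
        mem_cent1'.2 (commutatorElement_eq_one_iff_mul_comm.1 e)
      rcases hE.mem_zp ha (two u b1 b2 x hx) with e1 | e1
      · exact mem_sup_left ⟨hx, cm x e1⟩
      have e2 := (hE.mem_zp ha (two u b1 b2 y hy)).resolve_left fun e => y1 (cm y e)
      have : x * y ∈ A ⊓ 𝐂[u] := ⟨mul_mem hx hy, cm _ (by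
        rw [show ⁅u, x * y⁆ = ⁅u, x⁆ * (x * ⁅u, y⁆) * x⁻¹ by
          simp only [commutatorElement_def]; group, e1, e2, hE.comm hx ha, ← mul_assoc, hE a ha]
        group)⟩
      simpa using mul_mem (mem_sup_left this) (inv_mem (mem_sup_right (mem_zpowers y)))
    have b4 := (h.ml hE hA.ne hi (zpowers_le.2 b1.1) fun v hv => mem_cent.2 fun x hx => by
      have v1 := zpowers_le.2 b1 hv
      have := hE.mem_zp ha (two v v1 (b2.to_le (zpowers_le.2 hv)) x hx)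
      rw [commutatorElement_def, mul_inv_eq_one, mul_inv_eq_iff_eq_mul, mul_inv_eq_iff_eq_mul,
        mul_inv_eq_iff_eq_mul] at this
      rcases this with e | e
      · rw [mul_assoc v, e, ← mul_assoc v, e, mul_assoc]
      · rw [mul_assoc v, e, ← mul_assoc v, ← mul_assoc v, mem_cent1.1 v1.2,
          mul_assoc a v, e, ← mul_assoc a, ← mul_assoc a, hE a ha, one_mul, mul_assoc]).trans b3
    have b5 : (𝐂(A)).relIndex (zpowers u) = 1 := by
      have := H1.relIndex_ne_zero' 𝐂(A) (zpowers u)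
      by_contra e
      nlinarith [Nat.pos_of_ne_zero this, Nat.one_lt_iff_ne_zero_and_ne_one.2 ⟨this, e⟩]
    have := conj_mem_of_mem_normalizer (norm_le_norm_cent A hn) (relIndex_eq_one.1 b5 (mem_zpowers u))
    rw [hu] at this
    convert this using 1; group
  obtain ⟨m, hm⟩ := hE.isPGroup.exists_card_eq
  have h5 : 2 * Nat.card T ≤ 2 ^ m := by
    have b1 := card_mul_relIndex hT
    have b2 := H1.relIndex_ne_zero' T A
    have b3 : T.relIndex A ≠ 1 := fun e => h1 (relIndex_eq_one.1 e ha)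
    have : 2 ≤ T.relIndex A := by omega
    nlinarith
  have h6 : 4 ≤ m := (Nat.pow_le_pow_iff_right one_lt_two).1 (by omega)
  have h7 : 2 ^ m ≤ 2 * Nat.card T := hm ▸ Hy.card ⟨hT, a, ha, le_antisymm
    (sup_le hT (zpowers_le.2 ha)) fun x hx => (dec x hx).elim mem_sup_left fun e => by
      simpa using mul_mem (inv_mem (mem_sup_right (mem_zpowers a))) (mem_sup_left e)⟩ hE
  obtain ⟨t, ht, t1⟩ := exists_ne_one_of_card (B := T) (by omega)
  obtain ⟨f, hf⟩ := hup' hE (odd_relIndex_of_sylow hA.syl h4 hA.le_norm le_top)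
    (fun u hu v hv u1 v1 => by
      obtain ⟨p, hp, rfl⟩ := h2 u hu u1
      obtain ⟨q, hq, rfl⟩ := h2 v hv v1
      exact ⟨q * p⁻¹, mul_mem hq (inv_mem hp), by group⟩) ha a1 hm (by omega) (hT ht)
  have h9 : Nat.card T ≤ m + 1 := by
    have : (T : Set G) ⊆ (insert 1 ((Finset.range m).image f) : Finset G) := fun x hx => by
      by_cases e : x = 1
      · simp [e]
      obtain ⟨k, hk, rfl⟩ := tr t ht x hx t1 e
      obtain ⟨j, hj, e'⟩ := hf k hk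
      simp only [Finset.coe_insert, Finset.coe_image, Finset.coe_range, Set.mem_insert_iff]
      exact Or.inr ⟨j, hj, e'.symm⟩
    have := Set.ncard_le_ncard this
    rw [Set.ncard_coe_finset] at this
    exact this.trans ((Finset.card_insert_le _ _).trans
      (Nat.succ_le_succ (Finset.card_image_le.trans (Finset.card_range m).le)))
  have h10 : ∀ k, 2 * (k + 4 + 1) < 2 ^ (k + 4) := fun k => by
    induction k with
    | zero => norm_num
    | succ k ih => rw [add_right_comm, pow_succ]; omega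
  obtain ⟨k, rfl⟩ := Nat.exists_eq_add_of_le' h6
  have := h10 k
  omega

end CfsgLib.GO
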