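import Cfsg.Agent.Lib.Gol.Core1
import Cfsg.Agent.Lib.Wal.Shape

/-!
# Step B1: strongly closed subgroups of rank at least three
-/

set_option autoImplicit false

namespace CfsgLib.GO

open Subgroup Cfsg CfsgLib.FT CfsgLib.FT.BGN CfsgLib.Cop CfsgLib.GW CfsgLib.Wal
open CfsgLib.H1 (AbTwo CharIn layerIn genFitIn dSub)
open CfsgLib.FT.U4 (mem_cent1 mem_cent1' mem_cent mem_cent1_comm cent1_conj
  eq_one_of_mem_inf eq_bot_of_forall conj_mem_conj_iff orderOf_conj norm_le_norm_cent)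
open scoped commutatorElement

universe u

variable {G : Type u} [Group G] [Finite G] {S A X L Q K T : Subgroup G}

theorem le_zp_or (hA : El A) {a : G} (ha : a ∈ A) (h1 : a ≠ 1) :
    A ≤ zpowers a ∨ 4 ≤ Nat.card A := by
  refine or_iff_not_imp_left.2 fun h => ?_
  obtain ⟨d, hd, h2⟩ := SetLike.not_le_iff_exists.1 h
  have hF := hA.four ha hd h1 (fun e => h2 (e ▸ one_mem _)) fun e => h2 (e ▸ mem_zpowers _)
  exact hF.card_V ▸ card_le_of_le (V_le ha hd)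

theorem eq_of_br (hA : El A) (h : A ≤ X) {a b : G} (ha : a ∈ A) (hb : b ∈ A)
    (e : br X a = br X b) : a = b := mul_inv_eq_one.1 (eq_one_of_br (hA _ (mul_mem ha (inv_mem hb)))
  (h (mul_mem ha (inv_mem hb))) (by
    rw [br_mul (h ha) (inv_mem (h hb)), br_inv (h hb), e, mul_inv_cancel]))

theorem Loc.comm_mem (h : Loc X) (hA : SCin A X) (hL : TC X L) (hm : ¬ A ≤ 𝐂(L)) {a : G}
    (hD : A ⊓ 𝐂(L) ≤ zpowers a) (ha : a * a = 1) {s : G} (hs : s ∈ X) (h1 : s ∈ 𝐍(A))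
    (h2 : s ∈ 𝐂[a]) (h3 : IsPGroup 2 (zpowers s)) {x : G} (hx : x ∈ A) : ⁅s, x⁆ ∈ zpowers a := by
  have := Fact.mk Nat.prime_two
  obtain ⟨P, p1, hP⟩ := IsSylowIn.exists_ge (isPGroup_sup' (zpowers_le.2 h1) hA.el.isPGroup h3)
    (sup_le hA.le (zpowers_le.2 hs))
  obtain ⟨K, T, m⟩ := h.exists_mov hA hL hm hP (le_sup_left.trans p1)
  have h4 : s ∈ 𝐍(L) := by
    rcases (hL.cj' (le_normalizer hs)).eq_or hL with e | e
    · exact mem_normalizer_of_map_conj_eq e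
    have h5 := card_le_of_le ((le_inf (cj_le_of_norm m.tA h1) ((map_mono m.tL).trans e)).trans hD)
    have h6 := Nat.le_of_dvd two_pos (orderOf_dvd_of_pow_eq_one ((sq a).trans ha))
    have := m.four
    rw [card_map_conj, Nat.card_zpowers] at h5
    omega
  obtain ⟨n, hn⟩ := h3 ⟨s, mem_zpowers s⟩
  obtain ⟨l, hl, h5, -⟩ := m.toTor.dec (n := n) hs h4 (H1.le_normalizer_inf (zpowers_le.2
    (le_normalizer (p1 (mem_sup_right (mem_zpowers s))))) (zpowers_le.2 h4) (mem_zpowers s))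
    (by rw [show s ^ 2 ^ n = 1 from congrArg Subtype.val hn]; exact one_mem _)
  obtain ⟨t, ht, h6⟩ := m.dec x hx
  have h7 := mem_cent.1 ((cent_zpowers a).ge h2) _ (hD ⟨mul_mem (m.tA ht) hx, h6⟩)
  refine hD ⟨comm_mem_right h1 hx, ?_⟩
  have h8 := commutatorElement_mem_comm (m.cen _ (inv_mem (m.tQ ht))
    (by rw [← mul_inv_rev, hA.el t (m.tA ht)]; simp) l hl)
  suffices e : ⁅s, x⁆ = ⁅l, t⁻¹⁆ from e ▸ h8
  calc ⁅s, x⁆ = l * ((l⁻¹ * s) * t⁻¹) * s⁻¹ * (s * (t * x)) * s⁻¹ * x⁻¹ := by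
        simp only [commutatorElement_def]; group
    _ = _ := by
      rw [← mem_cent.1 h5 _ (inv_mem (m.tL ht)), ← h7]
      simp only [commutatorElement_def]; group

theorem MC.four_le (h : MC G) (hA : SCA S A) (hi : Irr A) {a : G} (ha : a ∈ A) (a1 : a ≠ 1)
    {J : Subgroup (Bar 𝐂[a])} (hJ : TC ⊤ J) (hm : ¬ im 𝐂[a] A ≤ 𝐂(J)) (hs : SzT (Zq J)) :
    4 ≤ Nat.card ↥(A ⊓ pre 𝐂[a] 𝐂(J)) := by
  have hE := hA.el
  have hX := hE.le_cent1 ha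
  have l := h.loc_bar (h.cent1_ne a1)
  have sc := (hA.scin hX).bar
  have hc : ∀ y : Bar 𝐂[a], y ∈ 𝐂[br 𝐂[a] a] := fun y => by
    obtain ⟨x, hx, rfl⟩ := br_surj y
    exact br_mem_cent1 hx (hX ha) hx
  have haD : a ∈ A ⊓ pre 𝐂[a] 𝐂(J) :=
    ⟨ha, mem_pre.2 ⟨hX ha, mem_cent.2 fun y _ => mem_cent1.1 (hc y)⟩⟩
  refine (le_zp_or (hE.mono inf_le_left) haD a1).resolve_left fun hD => ?_
  obtain ⟨Q, K, T, m, s⟩ := l.exists_smov sc hJ hm hs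
  have h1 : im 𝐂[a] (A ⊓ pre 𝐂[a] T) = T := by rw [im_inf_pre, inf_of_le_right m.tA]
  refine h.false_of_hyp hA hi ha (T := A ⊓ pre 𝐂[a] T) inf_le_left ?_ (fun e => ?_)
    (fun x hx => ?_) (fun t ht t' ht' t1 t2 => ?_) fun u hu u2 x hx => ?_
  · rw [← card_im (hE.mono inf_le_left) (inf_le_left.trans hX), h1]
    exact s.eight T m.tQ m.cov
  · exact m.notMem (mem_pre.1 e.2).2 (br_ne_one (hE a ha) (hX ha) a1) (mem_pre.1 haD.2).2
  · obtain ⟨t, ht, h2⟩ := m.dec _ (br_mem_im hx (hX hx))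
    obtain ⟨t, ht', h3, rfl⟩ := mem_im.1 (h1.ge ht)
    rcases hE.mem_zp ha (hD ⟨mul_mem ht'.1 hx, mem_pre.2 ⟨mul_mem h3 (hX hx),
      (br_mul h3 (hX hx)).symm ▸ h2⟩⟩) with e | e
    · exact Or.inl (eq_inv_of_mul_eq_one_right e ▸ inv_mem ht')
    · have h4 : a * x = t := by rw [← e, mul_assoc, hE x hx, mul_one]
      exact Or.inr (h4.symm ▸ ht')
  · obtain ⟨k, hk, e⟩ := m.trt _ (mem_pre.1 ht.2).2 _ (mem_pre.1 ht'.2).2
      (br_ne_one (hE t ht.1) (hX ht.1) t1) (br_ne_one (hE t' ht'.1) (hX ht'.1) t2)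
    obtain ⟨k, h2, h3, rfl⟩ := mem_im.1 ((norm_im hE.isPGroup hX).le (m.kn hk))
    exact ⟨k, ⟨h2.2, h3⟩, eq_of_br hE hX (conj_mem_of_mem_normalizer h2.2 ht.1) ht'.1
      ((br_conj h3 (hX ht.1)).trans e)⟩
  · have h2 := l.comm_mem sc hJ hm (a := br 𝐂[a] a) (fun y hy => by
        obtain ⟨y, h2, h3, rfl⟩ := mem_im.1 hy.1
        rw [← im_zpowers (hX ha)]
        exact br_mem_im (hD ⟨h2, mem_pre.2 ⟨h3, hy.2⟩⟩) h3) (br_sq (hE a ha) (hX ha)) (mem_top _)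
      (im_norm (U := 𝐍(A)) le_rfl (br_mem_im hu.1 hu.2)) (hc _)
      (im_zpowers hu.2 ▸ pgroup_im u2) (br_mem_im hx (hX hx))
    rw [← br_comm hu.2 (hX hx), ← im_zpowers (hX ha)] at h2
    obtain ⟨y, h3, -, h4⟩ := mem_im.1 h2
    exact eq_of_br hE hX (zpowers_le.2 ha h3) (comm_mem_right hu.1 hx) h4 ▸ h3

theorem MC.exists_sig (h : MC G) (hA : SCA S A) (h8 : 8 ≤ Nat.card A)
    (hg : ∀ a ∈ A, a ≠ 1 → Good (im 𝐂[a] A) ⊤) : ∃ W : Subgroup G, Odd (Nat.card W) ∧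
      (∀ a ∈ A, a ≠ 1 → Od 𝐂[a] ≤ W) ∧ ∀ B ≤ A, 4 ≤ Nat.card B → 𝐍(B) ≤ 𝐍(W) := by
  have hE := hA.el
  obtain ⟨W, h1, h2, h3, h4⟩ := sig hE h8 (fun a => Od 𝐂[a]) (fun a _ _ => Od_le _)
    (fun a ha _ => (hE.le_cent1 ha).trans (le_norm_Od _)) (fun a _ _ => odd_Od _)
    fun a ha a1 b hb b1 => by
      have hX := hE.le_cent1 hb
      have h1 := (h.loc_bar (h.cent1_ne b1)).od_cent (hA.scin hX).bar (hg b hb b1)
        (br_mem_im ha (hX ha))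
      rw [top_inf_eq, cent1_br (hE a ha) (hX ha)] at h1
      refine (im_eq_bot inf_le_right).1 (le_bot_iff.1 (le_trans (im_mono ?_) (im_Od_le.trans h1.le)))
      exact le_trans (le_inf inf_le_left (le_inf inf_le_right (inf_le_left.trans (Od_le _))))
        (Od_inf_le inf_le_right)
  refine ⟨W, h1, h3, fun B hB h5 g hg => mem_norm_of_le (cj_le_iff.2 (gen_pt (hE.mono hB) h5 h1
    (hB.trans h2) fun b hb b1 => (h4 b (hB hb) b1).trans (cj_le_iff.1 ?_)))⟩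
  rw [← Od_conj, cj_cent1]
  exact h3 _ (hB (conj_mem_of_mem_normalizer hg hb)) (by simpa using b1)

theorem MC.zd_of_sig (h : MC G) (hA : SCA S A) (h4 : 4 ≤ Nat.card A) {M : Subgroup G}
    (h0 : M ≠ ⊤) (h1 : ∀ a ∈ A, a ≠ 1 → Od 𝐂[a] ≤ M) (h2 : ∀ B ≤ A, 4 ≤ Nat.card B → 𝐍(B) ≤ M)
    (h3 : ∀ a ∈ A, a ≠ 1 → ∀ J : Subgroup (Bar 𝐂[a]), TC ⊤ J → ¬ im 𝐂[a] A ≤ 𝐂(J) →
      4 ≤ Nat.card ↥(A ⊓ pre 𝐂[a] 𝐂(J))) : ZD A M := by
  refine ⟨h0, h2 A le_rfl h4, fun a ha a1 => ?_⟩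
  have hE := hA.el
  have hX := hE.le_cent1 ha
  have h5 := (h.loc_bar (h.cent1_ne a1)).gen (hA.scin hX).bar (M := im 𝐂[a] (𝐂[a] ⊓ M))
    (fun J hJ => by
      have h5 : 4 ≤ Nat.card ↥(A ⊓ pre 𝐂[a] 𝐂(J)) := by
        by_cases e : im 𝐂[a] A ≤ 𝐂(J)
        · rwa [inf_of_le_left ((le_pre hX).2 e)]
        · exact h3 a ha a1 J hJ e
      refine le_trans (le_centralizer_iff.1 ?_) ((cent_im (hE.mono inf_le_left).isPGroup
        (inf_le_left.trans hX)).le.trans (im_mono (inf_le_inf_left _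
          ((cent_le_norm _).trans (h2 _ inf_le_left h5)))))
      rw [im_inf_pre]; exact inf_le_right)
    (inf_le_right.trans ((norm_im hE.isPGroup hX).le.trans
      (im_mono (inf_le_inf_left _ (h2 A le_rfl h4)))))
  rw [← im_self, im_le_im le_rfl inf_le_left] at h5
  exact h5.trans (sup_le (h1 a ha a1) inf_le_right)

theorem MC.sm (h : MC G) (hA : SCA S A) (hi : Irr A) (l : Loc X) (hX : 𝐂(A) ≤ X) (hL : TC X L)
    (hm : ¬ A ≤ 𝐂(L)) (hs : SzT (Zq L)) : ∃ Q K T, SM X A L Q K T := by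
  have hE := hA.el
  obtain ⟨Q, K, T, m, s⟩ := l.exists_smov (hA.scin (hE.le_cent.trans hX)) hL hm hs
  refine ⟨Q, K, T, hE, m, s, hX, ?_⟩
  have h1 : ∀ x ∈ Q, x * x ∈ 𝐂(L) → x ∈ 𝐂(A) := fun x hx xx => by
    obtain ⟨t, ht, h1⟩ := m.cov x hx xx
    have h2 : x * t⁻¹ ∈ 𝐂(A) := mem_cent.2 fun b hb => by
      obtain ⟨u, hu, h2⟩ := m.dec b hb
      have h3 : x * t⁻¹ ∈ 𝐂[u * b] :=
        mem_cent1.2 (mem_cent.1 h2 _ (mul_mem (m.syl.le hx) (inv_mem (m.tL ht))))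
      have h4 : x * t⁻¹ ∈ 𝐂[u] := mem_cent1'.2 (mem_cent.1 h1 u (m.tL hu))
      rw [mem_cent1_comm] at h3 h4
      exact mem_cent1.1 (by simpa using mul_mem (inv_mem h4) h3)
    simpa using mul_mem h2 (hE.le_cent (m.tA ht))
  by_contra h2
  have h3 := s.big 𝐂(A) T (fun y hy h3 => by
    by_contra yy
    refine h2 fun x hx => ?_
    by_cases xx : x * x ∈ 𝐂(L)
    · exact h1 x hx xx
    obtain ⟨k, hk, h4⟩ := s.tr2 y hy x hx yy xx
    have := mul_mem (inv_mem (h1 _ (mul_mem (conj_mem_of_mem_normalizer (m.norm hk) hy)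
      (inv_mem hx)) h4)) (conj_mem_of_mem_normalizer (norm_le_norm_cent A (m.kn hk)) h3)
    simpa [mul_assoc] using this) m.tQ (hE.mono m.tA) m.inf
  have h4 := h.ml hE hA.ne hi m.qn fun u hu => h1 _ (mul_mem hu hu) (s.sq u hu)
  have h5 : (𝐂(L)).relIndex A ≤ Nat.card T := by
    have h5 := hE.card_sup m.tA (inf_le_left (b := 𝐂(L)))
    rw [le_antisymm (sup_le m.tA inf_le_left) fun a ha => (m.dec a ha).elim fun t ht => by
      simpa using mul_mem (inv_mem (mem_sup_left ht.1)) (mem_sup_right (mem_inf.2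
        ⟨mul_mem (m.tA ht.1) ha, ht.2⟩)), ← inf_assoc, inf_of_le_left m.tA, m.inf, card_bot,
      ← card_inf_mul_relIndex 𝐂(L) A, inf_comm, mul_one, mul_comm] at h5
    exact (Nat.eq_of_mul_eq_mul_right Nat.card_pos h5).le
  have h6 := h4.trans ((relIndex_le_of_le_left (centralizer_le m.syl.le)
    (H1.relIndex_ne_zero' _ _)).trans h5)
  nlinarith [m.four]

/-- The components of the groups `C(a)` which are moved by `A`. -/
def Lc (A L : Subgroup G) : Prop := ∃ a ∈ A, a ≠ 1 ∧ TC 𝐂[a] L ∧ ¬ A ≤ 𝐂(L)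

omit [Finite G] in
theorem Lc.cj (h : Lc A L) {n : G} (hn : n ∈ 𝐍(A)) : Lc A (n •ᶜ L) := by
  obtain ⟨a, ha, a1, h1, h2⟩ := h
  refine ⟨_, conj_mem_of_mem_normalizer hn ha, by simpa using a1, cj_cent1 n a ▸ h1.cj n,
    fun e => h2 ?_⟩
  rwa [centralizer_map_conj, ← map_conj_eq_of_mem_normalizer hn, cj_le_cj_iff] at e

theorem MC.lc_comm (h : MC G) (hA : SCA S A) (hi : Irr A) (hO : ∀ a ∈ A, a ≠ 1 → Od 𝐂[a] = ⊥)
    (hg : ∀ a ∈ A, a ≠ 1 → Good A 𝐂[a]) {L L' : Subgroup G} (h1 : Lc A L) (h2 : Lc A L') :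
    L = L' ∨ L ≤ 𝐂(L') := by
  have hE := hA.el
  have sm : ∀ L, Lc A L → ∃ X Q K, SM X A L Q K (A ⊓ L) := fun L ⟨a, ha, a1, b, c⟩ => by
    obtain ⟨Q, K, T, s⟩ := h.sm hA hi (h.loc (h.cent1_ne a1) (hO a ha a1))
      (U4.cent_le_cent1 ha) b c (hg a ha a1 L b c)
    exact ⟨_, Q, K, s.inf_eq ▸ s⟩
  have tc : ∀ L, Lc A L → ∀ d ∈ A, d ≠ 1 → d ∈ 𝐂(L) → TC 𝐂[d] L :=
    fun L ⟨a, ha, a1, b, c⟩ d hd d1 e => (h.loc (h.cent1_ne d1) (hO d hd d1)).lbal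
      (hA.scin (hE.le_cent1 hd)) (hg d hd d1) ha (b.mono (le_inf (fun x hx =>
        mem_cent1.2 (mem_cent.1 e x hx)) b.le) inf_le_right)
  have ne : ∀ L L', Lc A L → A ⊓ L ≤ L' → A ⊓ L ≤ 𝐂(L') → Lc A L' → False := fun L L' a b c d => by
    obtain ⟨_, _, _, s⟩ := sm L a
    obtain ⟨_, _, _, s'⟩ := sm L' d
    obtain ⟨t, ht, t1⟩ := s.m.exists_ne
    exact t1 (eq_one_of_mem_inf s'.zbot (b ht) (c ht))
  have tri : ∀ L L', Lc A L → Lc A L' → A ⊓ L = A ⊓ L' ∨ (A ⊓ L ≤ 𝐂(L') ∧ A ⊓ L' ≤ 𝐂(L)) :=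
    fun L L' a b => by
      obtain ⟨_, _, _, s⟩ := sm L a
      obtain ⟨_, _, _, s'⟩ := sm L' b
      rcases s.dich s' with e | e <;> rcases s'.dich s with e' | e'
      · exact Or.inl (le_antisymm e e')
      · exact (ne L L a inf_le_right (e.trans e') a).elim
      · exact (ne L' L' b inf_le_right (e'.trans e) b).elim
      · exact Or.inr ⟨e, e'⟩
  have cj : ∀ n ∈ 𝐍(A), ∀ L : Subgroup G, A ⊓ n •ᶜ L = n •ᶜ (A ⊓ L) := fun n hn L => by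
    rw [map_conj_inf, map_conj_eq_of_mem_normalizer hn]
  have nn : ¬ 𝐍(A) ≤ 𝐍(A ⊓ L) := fun e => by
    obtain ⟨_, _, _, s⟩ := sm L h1
    obtain ⟨a, ha, a1, b, -⟩ := h1
    rcases hi _ inf_le_left e with e | e
    · obtain ⟨t, ht, t1⟩ := s.m.exists_ne
      exact t1 (mem_bot.1 (e.le ht))
    · exact a1 (eq_one_of_mem_inf s.zbot (e.ge ha).2 (mem_cent_cent1 b.le))
  by_contra h3
  have h4 : ∀ d ∈ A, d ∈ 𝐂(L) → d ∈ 𝐂(L') → d = 1 := fun d hd a b => by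
    by_contra d1
    exact h3 ((tc L h1 d hd d1 a).eq_or (tc L' h2 d hd d1 b))
  have h5 : ∀ J, Lc A J → A ⊓ J = A ⊓ L ∨ A ⊓ J = A ⊓ L' := fun J a => by
    rcases tri J L a h1 with e | e
    · exact Or.inl e
    rcases tri J L' a h2 with e' | e'
    · exact Or.inr e'
    obtain ⟨_, _, _, s⟩ := sm J a
    obtain ⟨t, ht, t1⟩ := s.m.exists_ne
    exact absurd (h4 t ht.1 (e.1 ht) (e'.1 ht)) t1
  refine nn (hA.le_of_two h fun m hm n hn a b => mem_normalizer_of_map_conj_eq ?_)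
  have c := (h5 _ (h1.cj hm)).resolve_left fun e => a (mem_normalizer_of_map_conj_eq
    (cj m hm L ▸ e))
  have d := (h5 _ (h1.cj hn)).resolve_left fun e => b (mem_normalizer_of_map_conj_eq
    (cj n hn L ▸ e))
  rw [cj _ hm] at c
  rw [cj _ hn] at d
  rw [← cj_cj, d, ← cj m hm]
  refine (h5 _ (h2.cj hm)).resolve_right fun e => a (mem_normalizer_of_map_conj_eq ?_)
  rwa [cj _ hm, ← c, cj_inj] at e

theorem MC.zd_of_comm (h : MC G) (hA : SCA S A) (hO : ∀ a ∈ A, a ≠ 1 → Od 𝐂[a] = ⊥)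
    (hc : ∀ L L', Lc A L → Lc A L' → L = L' ∨ L ≤ 𝐂(L')) : ∃ M, ZD A M := by
  have hE := hA.el
  have key : ∀ M, M ≠ ⊤ → 𝐍(A) ≤ M → (∀ L, Lc A L → L ≤ M) → ZD A M := fun M h1 h2 h3 =>
    ⟨h1, h2, fun a ha a1 => (h.loc (h.cent1_ne a1) (hO a ha a1)).gen (hA.scin (hE.le_cent1 ha))
      (fun J hJ => by
        by_cases e : A ≤ 𝐂(J)
        · exact (le_centralizer_iff.1 e).trans ((cent_le_norm A).trans h2)
        · exact h3 J ⟨a, ha, a1, hJ, e⟩) (inf_le_right.trans h2)⟩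
  by_cases e : ∃ L, Lc A L
  swap
  · exact ⟨_, key _ (h.norm_ne hA.ne hE.solv) le_rfl fun L hL => absurd ⟨L, hL⟩ e⟩
  obtain ⟨L, hL⟩ := e
  have := h.simple
  have h1 : sSup {J | Lc A J} ≤ 𝐍(L) := sSup_le fun J hJ => (hc J L hJ hL).elim
    (fun e => e ▸ le_normalizer) fun e => e.trans (cent_le_norm L)
  have h2 : L ≤ sSup {J | Lc A J} := le_sSup hL
  obtain ⟨a, ha, a1, b, c⟩ := hL
  have h0 : L ≠ ⊥ := fun e => b.not_solv (e ▸ inferInstance)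
  refine ⟨_, key 𝐍(sSup {J | Lc A J}) (norm_ne_top (fun e => h0 (le_bot_iff.1 (h2.trans e.le)))
    fun e => norm_ne_top h0 (fun e' => h.cent1_ne a1 (top_le_iff.1 (e'.ge.trans b.le)))
      (top_le_iff.1 (e.ge.trans h1))) (fun n hn => mem_norm_of_le (map_le_iff_le_comap.2
        (sSup_le fun J hJ => map_le_iff_le_comap.1 (le_sSup (hJ.cj hn)))))
    fun J hJ => le_trans (le_sSup (s := {J | Lc A J}) hJ) le_normalizer⟩

theorem MC.norm_odd_ne (h : MC G) {W : Subgroup G} (h0 : W ≠ ⊥) (ho : Odd (Nat.card W)) :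
    𝐍(W) ≠ ⊤ := h.norm_ne h0 (solvable_of_odd ho)

/-- The irreducible case. -/
theorem MC.core (h : MC G) (hA : SCA S A) (h8 : 8 ≤ Nat.card A) (hi : Irr A)
    (hg : ∀ a ∈ A, a ≠ 1 → Good (im 𝐂[a] A) ⊤)
    (hg' : ∀ a ∈ A, a ≠ 1 → Od 𝐂[a] = ⊥ → Good A 𝐂[a]) : ∃ M, ZD A M := by
  obtain ⟨W, h1, h2, h3⟩ := h.exists_sig hA h8 hg
  by_cases e : W = ⊥
  · have hO : ∀ a ∈ A, a ≠ 1 → Od 𝐂[a] = ⊥ := fun a ha a1 => le_bot_iff.1 (e ▸ h2 a ha a1)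
    exact h.zd_of_comm hA hO fun L L' =>
      h.lc_comm hA hi hO fun a ha a1 => hg' a ha a1 (hO a ha a1)
  · exact ⟨_, h.zd_of_sig hA (by omega) (h.norm_odd_ne e h1)
      (fun a ha a1 => (h2 a ha a1).trans le_normalizer) h3
      fun a ha a1 J a2 a3 => h.four_le hA hi ha a1 a2 a3 (hg a ha a1 J a2 a3)⟩

/-- The case where no component is moved. -/
theorem MC.core' (h : MC G) (hA : SCA S A) (h8 : 8 ≤ Nat.card A)
    (hg : ∀ a ∈ A, a ≠ 1 → ∀ J : Subgroup (Bar 𝐂[a]), TC ⊤ J → im 𝐂[a] A ≤ 𝐂(J)) :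
    ∃ M, ZD A M := by
  obtain ⟨W, h1, h2, h3⟩ := h.exists_sig hA h8 fun a ha a1 J a2 a3 => absurd (hg a ha a1 J a2) a3
  by_cases e : W = ⊥
  · refine h.zd_of_comm hA (fun a ha a1 => le_bot_iff.1 (e ▸ h2 a ha a1))
      fun L L' ⟨a, ha, a1, b, c⟩ => absurd (b.cent_of_cm ((le_cm (hA.el.le_cent1 ha)).2
        (hg a ha a1 _ ⟨subnormalIn_top_iff.2 b.cp.1.1, b.cp.1.2⟩))) c
  · exact ⟨_, h.zd_of_sig hA (by omega) (h.norm_odd_ne e h1)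
      (fun a ha a1 => (h2 a ha a1).trans le_normalizer) h3
      fun a ha a1 J a2 a3 => absurd (hg a ha a1 J a2) a3⟩

end CfsgLib.GO
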