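import Cfsg.Agent.Lib.Gol.El0

/-!
# Elementary abelian strongly closed subgroups: 2-elements of the normalizer
-/

set_option autoImplicit false

namespace CfsgLib.GO

open Subgroup Cfsg CfsgLib.FT CfsgLib.FT.BGN CfsgLib.Cop CfsgLib.GW CfsgLib.Wal
open CfsgLib.H1 (AbTwo CharIn layerIn genFitIn dSub)
open CfsgLib.FT.U4 (mem_cent1 mem_cent1' mem_cent mem_cent1_comm cent1_conj
  eq_one_of_mem_inf eq_bot_of_forall conj_mem_conj_iff orderOf_conj norm_le_norm_cent)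
open scoped commutatorElement

universe u

variable {G : Type u} [Group G] [Finite G] {S R T D W : Subgroup G} {k : G}

theorem relIndex_two {C K : Subgroup G} (hn : K ≤ 𝐍(C)) (h : ∀ n ∈ K, n * n ∈ C) :
    ∃ j, C.relIndex K = 2 ^ j := by
  have := Fact.mk Nat.prime_two
  have := normal_subgroupOf_of_le_normalizer hn
  refine (IsPGroup.iff_card (G := K ⧸ C.subgroupOf K)).1 fun q => ⟨1, ?_⟩
  obtain ⟨x, rfl⟩ := QuotientGroup.mk_surjective q
  rw [pow_one, sq, ← QuotientGroup.mk_mul, QuotientGroup.eq_one_iff]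
  exact h x x.2

namespace RP
variable (r : RP R T D W k)
include r

theorem T_le : T ≤ R := le_sup_left.trans r.sup.le

theorem D_le : D ≤ R := le_sup_right.trans r.sup.le

theorem fix {d : G} (hd : d ∈ D) : k * d * k⁻¹ = d := by
  rw [← mem_cent.1 (r.cent r.mem) d hd, mul_inv_cancel_right]

variable (hR : El R)
include hR

theorem dec {x : G} (hx : x ∈ R) : ∃ t ∈ T, ∃ d ∈ D, t * d = x :=
  hR.mem_sup r.T_le r.D_le (r.sup.ge hx)

theorem comm_T {x : G} (hx : x ∈ R) : k * x * k⁻¹ * x⁻¹ ∈ T := by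
  obtain ⟨t, ht, d, hd, rfl⟩ := r.dec hR hx
  rw [← _root_.conj_mul, r.fix hd, mul_inv_rev, mul_assoc, mul_inv_cancel_left]
  exact comm_mem_right r.norm ht

theorem norm_R : k ∈ 𝐍(R) := mem_normalizer_of_conj_mem fun x hx => by
  simpa using mul_mem (r.T_le (r.comm_T hR hx)) hx

theorem card_R : Nat.card R = 4 * Nat.card D := by
  have := hR.card_sup r.T_le r.D_le
  rwa [r.inf, r.sup, r.card, card_bot, mul_one] at this

theorem cent_R {x : G} (h1 : x ∈ 𝐂(T)) (h2 : x ∈ 𝐂(D)) : x ∈ 𝐂(R) := mem_cent.2 fun y hy => by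
  obtain ⟨t, ht, d, hd, rfl⟩ := r.dec hR hy
  rw [mul_assoc, mem_cent.1 h2 d hd, ← mul_assoc, mem_cent.1 h1 t ht, mul_assoc]

theorem four {t : G} (ht : t ∈ T) (t1 : t ≠ 1) : Four t (k * t * k⁻¹) ∧ V t (k * t * k⁻¹) = T ∧
    k * (k * t * k⁻¹) * k⁻¹ = t * (k * t * k⁻¹) :=
  four_of_fpf r.card r.norm r.fpf ht (hR.ord (r.T_le ht) t1)

theorem cube : k ^ 3 ∈ 𝐂(R) := by
  refine r.cent_R hR (mem_cent.2 fun t ht => ?_) (pow_mem (r.cent r.mem) 3)
  by_cases t1 : t = 1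
  · simp [t1]
  obtain ⟨f, -, e⟩ := r.four hR ht t1
  refine (mul_inv_eq_iff_eq_mul.1 ?_).symm
  calc _ = k * (k * (k * t * k⁻¹) * k⁻¹) * k⁻¹ := by rw [pow_three]; group
    _ = t := by rw [e, ← _root_.conj_mul, e, ← mul_assoc, ← f.comm, mul_assoc, f.ss, mul_one]

end RP

/-- The properties of the decompositions `R = T × D` used below. -/
structure RC (R : Subgroup G) : Prop where
  cj : ∀ {T D W : Subgroup G} {k n : G}, RP R T D W k → n ∈ 𝐍(R) →
    RP R (n •ᶜ T) (n •ᶜ D) (n •ᶜ W) (n * k * n⁻¹)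
  cA : ∀ {T D W : Subgroup G} {k d s : G}, RP R T D W k → d ∈ D → d ≠ 1 → s ∈ 𝐍(R) ⊓ 𝐂[d] →
    IsPGroup 2 (zpowers s) → (∀ x ∈ R, ⁅s, x⁆ ∈ D) ∧ R ≤ (R ⊓ 𝐂[s]) ⊔ D
  cB : ∀ {T D W T' D' W' : Subgroup G} {k k' : G}, RP R T D W k → RP R T' D' W' k' →
    D ⊓ D' ≠ ⊥ → D = D' ∨ R ≤ D ⊔ D'
  c16 : 16 ≤ Nat.card R

theorem inf_eq_bot_of_sixteen (hR : El R) (h : Nat.card R = 16) {A B : Subgroup G} (hA : A ≤ R)
    (hB : B ≤ R) (a : Nat.card A = 4) (b : Nat.card B = 4) : A ⊓ B = ⊥ ↔ R ≤ A ⊔ B := by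
  have e := hR.card_sup hA hB
  rw [a, b] at e
  refine ⟨fun e' => (eq_of_le_of_card_ge (sup_le hA hB) ?_).ge, fun e' => card_eq_one.1 ?_⟩
  · rw [e', card_bot] at e; omega
  · rw [le_antisymm (sup_le hA hB) e', h] at e; omega

theorem RC.false (c : RC R) (h : EC S R) (r : RP R T D W k) {s : G} (hs : s ∈ 𝐍(R))
    (h2 : IsPGroup 2 (zpowers s)) (ss : s * s ∈ 𝐂(R)) (h0 : D ⊓ s •ᶜ D = ⊥) : False := by
  have hR := h.sca.el
  have r1 := c.cj r hs
  have c16 := c.c16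
  have h16 : Nat.card R = 16 := by
    have e := hR.card_sup r.D_le r1.D_le
    have := card_le_of_le (sup_le r.D_le r1.D_le)
    have e1 := r.card_R hR
    rw [h0, card_bot, card_map_conj] at e
    nlinarith
  have c4 : ∀ {T D W k}, RP R T D W k → Nat.card D = 4 := fun r => by
    have := r.card_R hR; omega
  have ti := fun {A B} => inf_eq_bot_of_sixteen hR h16 (A := A) (B := B)
  have sx : ∀ x ∈ R, s * (s * x * s⁻¹) * s⁻¹ = x := fun x hx => by
    calc _ = s * s * x * (s * s)⁻¹ := by group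
      _ = x := by rw [← mem_cent.1 ss x hx, mul_inv_cancel_right]
  have sF : ∀ x ∈ R, ⁅s, x⁆ ∈ R ⊓ 𝐂[s] := fun x hx => ⟨comm_mem_right hs hx, mem_cent1'.2
    (mul_inv_eq_iff_eq_mul.1 (by
      have := conj_mem_of_mem_normalizer hs hx
      rw [commutatorElement_def, ← _root_.conj_mul, sx x hx, ← conj_inv, hR.inv this, hR.inv hx,
        hR.comm hx this]))⟩
  have dec : ∀ x ∈ R, ∃ d ∈ D, ∃ e ∈ D, d * ⁅s, e⁆ = x := fun x hx => by
    obtain ⟨d, hd, _, ⟨e, he, rfl⟩, rfl⟩ := hR.mem_sup r.D_le r1.D_le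
      ((ti r.D_le r1.D_le (c4 r) (c4 r1)).1 h0 hx)
    refine ⟨d * e, mul_mem hd he, e, he, ?_⟩
    rw [mul_assoc, hR.comm (r.D_le he) (sF e (r.D_le he)).1]
    simp [commutatorElement_def]
  -- `C_R(s)` meets no member of the family
  have av : ∀ {T D W k}, RP R T D W k → ∀ f ∈ R ⊓ 𝐂[s], f ∈ D → f = 1 := fun {T' D' _ _} r' f hf fD => by
    by_contra f1
    obtain ⟨a, b⟩ := c.cA r' fD f1 ⟨hs, mem_cent1_comm.1 hf.2⟩ h2
    have : T' ≤ D' := r'.T_le.trans (b.trans (sup_le (fun x hx => ?_) le_rfl))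
    · have e := r'.card
      rw [← inf_eq_left.2 this, r'.inf, card_bot] at e
      omega
    obtain ⟨d, hd, e, he, rfl⟩ := dec x hx.1
    have e1 : s * d * s⁻¹ = d := mul_inv_eq_iff_eq_mul.2 (mem_cent1'.1
      ((mul_mem_cancel_right (mem_inf.1 (sF e (r.D_le he))).2).1 hx.2))
    rw [eq_one_of_mem_inf h0 hd (e1 ▸ conj_mem_map_conj hd), one_mul]
    exact a e (r.D_le he)
  have kR := r.norm_R hR
  by_cases h1 : s •ᶜ D ⊓ T = ⊥
  · have tF : ∀ x ∈ R, x ∉ T → ∃ T D W k, RP R T D W k ∧ x ∈ D := fun x hx x1 => by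
      obtain ⟨t, ht, d, hd, rfl⟩ := r.dec hR hx
      by_cases t1 : t = 1
      · exact ⟨_, _, _, _, r, by simpa [t1] using hd⟩
      obtain ⟨e, he, u, hu, e1⟩ := hR.mem_sup r1.D_le r.T_le
        ((ti r1.D_le r.T_le (c4 r1) r.card).1 h1 (r.D_le hd))
      have e2 : e = u * d := by
        rw [← e1, hR.comm (r.T_le hu) (mul_mem (r1.D_le he) (r.T_le hu)), mul_assoc,
          hR u (r.T_le hu), mul_one]
      have u1 : u ≠ 1 := fun e3 => x1 (by
        rw [e3, one_mul] at e2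
        rw [eq_one_of_mem_inf h0 hd (e2 ▸ he), mul_one]
        exact ht)
      obtain ⟨f, hV, e3⟩ := r.four hR hu u1
      have r2 := c.cj r1 kR
      have m2 := conj_mem_map_conj (g := k) he
      rw [e2, ← _root_.conj_mul, r.fix hd] at m2
      have m3 := conj_mem_map_conj (g := k) m2
      rw [← _root_.conj_mul, r.fix hd, e3] at m3
      rcases f.mem_V.1 (hV.ge ht) with e | rfl | rfl | rfl
      · exact absurd e t1
      · exact ⟨_, _, _, _, r1, e2 ▸ he⟩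
      · exact ⟨_, _, _, _, r2, m2⟩
      · exact ⟨_, _, _, _, c.cj r2 kR, m3⟩
    have FT : R ⊓ 𝐂[s] ≤ T := fun f hf => by
      by_contra f1
      obtain ⟨_, _, _, _, r', e⟩ := tF f hf.1 f1
      exact f1 (av r' f hf e ▸ one_mem _)
    have TF : T ≤ R ⊓ 𝐂[s] := fun t ht => by
      obtain ⟨d, hd, e, he, rfl⟩ := dec t (r.T_le ht)
      rw [eq_one_of_mem_inf r.inf ((mul_mem_cancel_right (FT (sF e (r.D_le he)))).1 ht) hd, one_mul]
      exact sF e (r.D_le he)
    have nT : 𝐍(R) ≤ 𝐍(T) := fun n hn => mem_normalizer_of_conj_mem fun t ht => by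
      by_contra f1
      obtain ⟨_, _, _, _, r', e⟩ := tF _ (conj_mem_of_mem_normalizer hn (r.T_le ht)) f1
      have := conj_mem_map_conj (g := n⁻¹) e
      rw [show n⁻¹ * (n * t * n⁻¹) * n⁻¹⁻¹ = t by group] at this
      exact f1 (by simp [av (c.cj r' (inv_mem hn)) t (TF ht) this])
    let K : Subgroup G :=
      { carrier := {n | n ∈ 𝐍(R) ⊓ 𝐂(T) ∧ ∀ x ∈ R, ⁅n, x⁆ ∈ T}
        one_mem' := ⟨one_mem _, fun x _ => by simp⟩
        mul_mem' := fun {a b} ha hb => ⟨mul_mem ha.1 hb.1, fun x hx => by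
          convert mul_mem (conj_mem_of_mem_normalizer (nT ha.1.1) (hb.2 x hx)) (ha.2 x hx) using 1
          simp only [commutatorElement_def]; group⟩
        inv_mem' := fun {a} ha => ⟨inv_mem ha.1, fun x hx => by
          convert inv_mem (conj_mem_of_mem_normalizer (inv_mem (nT (mem_inf.1 ha.1).1)) (ha.2 x hx)) using 1
          simp only [commutatorElement_def]; group⟩ }
    have K1 : K ≤ 𝐍(R) := fun n hn => hn.1.1
    obtain ⟨j, hj⟩ := relIndex_two (K1.trans (norm_le_norm_cent R)) fun n hn =>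
      mem_cent.2 fun x hx => (mul_inv_eq_iff_eq_mul.1 (by
        have e := mem_cent.1 hn.1.2 _ (hn.2 x hx)
        calc _ = n * ⁅n, x⁆ * n⁻¹ * ⁅n, x⁆ * x := by simp only [commutatorElement_def]; group
          _ = x := by rw [← e, mul_inv_cancel_right, hR _ (r.T_le (hn.2 x hx)), one_mul])).symm
    have sC := h.red K K1 (fun n hn => mem_normalizer_of_conj_mem fun a ha =>
      ⟨mem_inf.2 ⟨mul_mem (mul_mem hn ha.1.1) (inv_mem hn), conj_mem_of_mem_normalizer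
        (norm_le_norm_cent T (nT hn)) ha.1.2⟩, fun x hx => by
          convert conj_mem_of_mem_normalizer (nT hn) (ha.2 _ (conj_mem_of_mem_normalizer
            (inv_mem hn) hx)) using 1
          simp only [commutatorElement_def]; group⟩) j hj (x := s) ⟨⟨hs, mem_cent.2 fun t ht =>
        mem_cent1.1 (TF ht).2⟩, fun x hx => FT (sF x hx)⟩
    have := c4 r
    rw [map_conj_eq_of_mem_normalizer (cent_le_norm D (centralizer_le r.D_le sC)), inf_idem] at h0
    rw [h0, card_bot] at this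
    omega
  obtain ⟨t, ht, t1⟩ := U4.exists_ne_one h1
  obtain ⟨f, hV, e3⟩ := r.four hR ht.2 t1
  have r2 := c.cj r1 kR
  have e1 : s •ᶜ D = k •ᶜ (s •ᶜ D) := by
    have : s •ᶜ D ⊓ k •ᶜ (s •ᶜ D) ≠ ⊥ := fun e => h1 ((ti r1.D_le r.T_le (c4 r1) r.card).2
      (((ti r1.D_le r2.D_le (c4 r1) (c4 r2)).1 e).trans (sup_le le_sup_left (by
        rintro _ ⟨x, hx, rfl⟩
        simpa using mul_mem (mem_sup_right (r.comm_T hR (r1.D_le hx))) (mem_sup_left hx)))))
    exact (c.cB r1 r2 this).resolve_right fun e => this ((ti r1.D_le r2.D_le (c4 r1) (c4 r2)).2 e)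
  have e2 : T = s •ᶜ D := eq_of_le_of_card_ge (hV.ge.trans (V_le ht.1
    (e1 ▸ conj_mem_map_conj ht.1))) (by rw [c4 r1, r.card])
  have e4 : s •ᶜ T = D := by
    rw [e2, cj_cj, map_conj_eq_of_mem_normalizer (cent_le_norm D (centralizer_le r.D_le ss))]
  set m := s * k * s⁻¹ with hm
  have mT : m ∈ 𝐂(T) := e2 ▸ r1.cent r1.mem
  have mD : m ∈ 𝐍(D) := e4 ▸ r1.norm
  have kD := r.cent r.mem
  have mR := norm_le_norm_cent R (r1.norm_R hR)
  have kR' := norm_le_norm_cent R kR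
  have kT := norm_le_norm_cent T r.norm
  have mD' := inv_mem (norm_le_norm_cent D mD)
  have cn := fun {H : Subgroup G} {n x} (a : n ∈ 𝐍(H)) (b : x ∈ H) =>
    conj_mem_of_mem_normalizer a b
  have := h.mc.s3f.mem_of_inv (C := 𝐂(R)) (d := k * m⁻¹) (t := s) (k := 1)
    (mul_mem kR' (inv_mem mR)) (norm_le_norm_cent R hs) (r.cent_R hR ?_ ?_) ?_
  · refine f.t1 (eq_one_of_mem_inf r.fpf ht.2 (mem_cent1.2 (mem_cent.1 ?_ t ht.2)))
    simpa using mul_mem (centralizer_le r.T_le this) mT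
  · convert mul_mem (cn kT (mul_mem (inv_mem mT) (cn kT (mul_mem (inv_mem mT)
      (cn kT (inv_mem mT)))))) (centralizer_le r.T_le (r.cube hR)) using 1
    rw [pow_one, pow_three, pow_three]; group
  · convert mul_mem (mul_mem kD (cn mD' (mul_mem kD (cn mD' kD))))
      (inv_mem (centralizer_le r.D_le (r1.cube hR))) using 1
    rw [pow_one, pow_three, pow_three]; group
  · convert cn mR (mul_mem ss (cn (inv_mem kR') (inv_mem ss))) using 1
    rw [hm]; group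

theorem RC.comm_mem (c : RC R) (h : EC S R) (r : RP R T D W k) {s : G} (hs : s ∈ 𝐍(R))
    (h2 : IsPGroup 2 (zpowers s)) : ∀ x ∈ R, ⁅s, x⁆ ∈ D := by
  obtain ⟨n, hn⟩ := h2 ⟨s, mem_zpowers s⟩
  replace hn : s ^ 2 ^ n = 1 := congrArg Subtype.val hn
  induction n generalizing s T D W k with
  | zero => intro x _; rw [pow_zero, pow_one] at hn; simp [hn]
  | succ n ih =>
  have ih' := fun {T D W k} (r : RP R T D W k) => ih r (mul_mem hs hs)
    (h2.to_le (zpowers_le.2 (mul_mem (mem_zpowers s) (mem_zpowers s))))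
    (by rw [← sq, ← pow_mul, ← pow_succ', hn])
  have r1 := c.cj r hs
  by_cases h0 : D ⊓ s •ᶜ D = ⊥
  · exact (c.false h r hs h2 (mem_cent.2 fun x hx => (commutatorElement_eq_one_iff_mul_comm.1
      (eq_one_of_mem_inf h0 (ih' r x hx) (ih' r1 x hx))).symm) h0).elim
  obtain ⟨d, hd, d1, e⟩ := exists_cent_of_two (h.sca.el.isPGroup.to_le (inf_le_left.trans r.D_le))
    h0 h2 (zpowers_le.2 (mem_normalizer_of_conj_mem fun x hx => ⟨by
      obtain ⟨y, hy, rfl⟩ := hx.2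
      convert mul_mem (ih' r y (r.D_le hy)) hy using 1
      simp [commutatorElement_def, mul_assoc], conj_mem_map_conj hx.1⟩))
  exact (c.cA r hd.1 d1 ⟨hs, mem_cent1.2 (mem_cent.1 e s (mem_zpowers s))⟩ h2).1

end CfsgLib.GO
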