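import Cfsg.Agent.Lib.Gol.Small
import Cfsg.Agent.Lib.Gol.T3

/-!
# Components of type `L₂(3ⁿ)`; passing to larger controlling subgroups
-/

set_option autoImplicit false

namespace CfsgLib.GO

open Subgroup Cfsg CfsgLib.FT CfsgLib.FT.BGN CfsgLib.Cop CfsgLib.GW CfsgLib.Wal
open CfsgLib.H1 (AbTwo CharIn layerIn genFitIn dSub)
open CfsgLib.FT.U4 (mem_cent1 mem_cent1' mem_cent mem_cent1_comm cent1_conj
  eq_one_of_mem_inf eq_bot_of_forall conj_mem_conj_iff orderOf_conj norm_le_norm_cent)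
open scoped commutatorElement

universe u

variable {G : Type u} [Group G] [Finite G] {S A X : Subgroup G}

variable {G : Type u} [Group G] [Finite G] {S A X L P R : Subgroup G}

theorem SzT.eight_dvd {K : Type*} [Group K] [Finite K] (h : SzT K) : 8 ∣ Nat.card K := by
  have := Fact.mk Nat.prime_two
  obtain ⟨Q, hQ⟩ := IsSylowIn.exists_in (p := 2) (⊤ : Subgroup K)
  obtain ⟨d, hd⟩ := h.sd hQ
  obtain ⟨T, h1, h2, -⟩ := hd.card
  obtain ⟨k, hk⟩ := (hQ.isPGroup.to_le fun x hx => ((h1 x).1 hx).1).exists_card_eq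
  refine dvd_trans ?_ (card_subgroup_dvd_card T)
  rw [hk] at h2 ⊢
  exact pow_dvd_pow 2 ((Nat.pow_le_pow_iff_right one_lt_two).1 (show 2 ^ 3 ≤ 2 ^ k from h2))

omit [Finite G] in
theorem cent_subgroupOf (L : Subgroup G) : (𝐂(L)).subgroupOf L = center L := by
  ext x
  rw [mem_subgroupOf, mem_cent, mem_center_iff]
  exact ⟨fun h y => Subtype.ext (h y y.2), fun h y hy => congrArg Subtype.val (h ⟨y, hy⟩)⟩

omit [Finite G] in
theorem card_zq_congr {Y : Type*} [Group Y] {L' : Subgroup Y} (e : L ≃* L') :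
    Nat.card (Zq L) = Nat.card (Zq L') := by
  change ((𝐂(L)).subgroupOf L).index = ((𝐂(L')).subgroupOf L').index
  rw [cent_subgroupOf, cent_subgroupOf, ← index_comap_of_surjective (f := (e : L →* L')) _
    e.surjective]
  congr 1
  ext x
  simp only [mem_comap, mem_center_iff, MonoidHom.coe_coe]
  exact ⟨fun h y => by obtain ⟨y, rfl⟩ := e.surjective y; rw [← map_mul, h, map_mul],
    fun h y => e.injective (by rw [map_mul, h, map_mul])⟩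

theorem _root_.CfsgLib.Wal.TC.bar (h : TC X L) : TC ⊤ (im X L) :=
  have h1 := h.im_eq ▸ h.cp.comp
  ⟨subnormalIn_top_iff.2 h1.1, h1.2⟩

theorem Loc.good_of_bar (h : Loc X) (hA : A ≤ X) (hg : Good (im X A) ⊤) : Good A X :=
  fun L hL hm => (h.cases hL).resolve_right fun e => by
    obtain ⟨f⟩ := nonempty_equiv_im h.od hL.le
    refine e.not_eight_dvd (card_zq_congr f ▸ (hg _ hL.bar fun h1 => hm ?_).eight_dvd)
    rwa [im_le_cent hA hL.le, h.od, le_bot_iff, comm_eq_bot_iff] at h1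

theorem MC.core2 (h : MC G) (hA : SCA S A) (h8 : 8 ≤ Nat.card A) (hi : Irr A)
    (hg : ∀ a ∈ A, a ≠ 1 → Good (im 𝐂[a] A) ⊤) : ∃ M, ZD A M :=
  h.core hA h8 hi hg fun a ha a1 e =>
    (h.loc (h.cent1_ne a1) e).good_of_bar (hA.el.le_cent1 ha) (hg a ha a1)

/-- `2`-elements normalize the components of type `L₂(3ⁿ)`. -/
theorem Loc.two_norm (h : Loc X) (hL : TC X L) (h3 : L3T (Zq L)) (n : ℕ) :
    ∀ s ∈ X, s ^ 2 ^ n = 1 → s ∈ 𝐍(L) := by
  have := Fact.mk Nat.prime_two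
  have := Fact.mk Nat.prime_three
  induction n with
  | zero => intro s _ e; rw [pow_zero, pow_one] at e; exact e ▸ one_mem _
  | succ n ih =>
  intro s hs e
  have e2 : (s * s) ^ 2 ^ n = 1 := by rw [← sq, ← pow_mul, ← pow_succ', e]
  rcases (hL.cj' (le_normalizer hs)).eq_or hL with h1 | h1
  · exact mem_normalizer_of_map_conj_eq h1
  obtain ⟨Q, hQ⟩ := IsSylowIn.exists_in (p := 2) L
  obtain ⟨K, hK⟩ := h.exists_tor hL hQ
  obtain ⟨l, hl, h2⟩ := hK.inn _ (mul_mem hs hs) (ih _ (mul_mem hs hs) e2) n (e2 ▸ one_mem _)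
  have := zq_simple hL.2
  obtain ⟨⟨x, hx⟩, ox⟩ := exists_prime_orderOf_dvd_card' 3
    ((three_dvd_of_not_eight hL.zq_nonab h3.not_eight_dvd).trans (card_quotient_dvd_card _))
  have x3 : x ^ 3 = 1 := congrArg Subtype.val (ox ▸ pow_orderOf_eq_one _ : (⟨x, hx⟩ : L) ^ 3 = 1)
  have c1 : ∀ y ∈ L, s * y * s⁻¹ ∈ 𝐂(L) := fun y hy => h1 (conj_mem_map_conj hy)
  have c2 := mem_cent.1 (c1 x hx)
  have e3 : l⁻¹ * s * x * (l⁻¹ * s)⁻¹ = s * x * s⁻¹ := by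
    rw [show l⁻¹ * s * x * (l⁻¹ * s)⁻¹ = l⁻¹ * (s * x * s⁻¹) * l by group, c2 _ (inv_mem hl)]; group
  have e4 : l⁻¹ * s * (s * x * s⁻¹) * (l⁻¹ * s)⁻¹ = x := by
    rw [show l⁻¹ * s * (s * x * s⁻¹) * (l⁻¹ * s)⁻¹ = l⁻¹ * (s * s) * x * (l⁻¹ * (s * s))⁻¹ by group,
      ← mem_cent.1 h2 x hx, mul_inv_cancel_right]
  have h4 := (h.s3.eq_one (d := ⟨x * (s * x * s⁻¹)⁻¹, mul_mem (hL.le hx)
    (inv_mem (mul_mem (mul_mem hs (hL.le hx)) (inv_mem hs)))⟩)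
    (t := ⟨l⁻¹ * s, mul_mem (inv_mem (hL.le hl)) hs⟩) (k := 1) (Subtype.ext (by
      change (x * (s * x * s⁻¹)⁻¹) ^ 3 ^ 1 = 1
      rw [pow_one, (Commute.inv_right (c2 x hx)).mul_pow, inv_pow, conj_pow, x3]; simp))
    (Subtype.ext (by
      change l⁻¹ * s * (x * (s * x * s⁻¹)⁻¹) * (l⁻¹ * s)⁻¹ = (x * (s * x * s⁻¹)⁻¹)⁻¹
      rw [← _root_.conj_mul, ← conj_inv, e3, e4]; group)))
  have h5 : x = s * x * s⁻¹ := mul_inv_eq_one.1 (congrArg Subtype.val h4)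
  obtain ⟨k, hk⟩ := hL.two_center h.od ⟨x, hx, h5 ▸ c1 x hx⟩
  have h6 : orderOf x ∣ 2 ^ k := orderOf_dvd_of_pow_eq_one (congrArg Subtype.val hk)
  rw [← orderOf_coe] at ox
  exact absurd (Nat.prime_three.dvd_of_dvd_pow (ox ▸ h6)) (by decide)

theorem Loc.two_norm' (h : Loc X) (hL : TC X L) (h3 : L3T (Zq L)) (hP : IsPGroup 2 P)
    (h1 : P ≤ X) : P ≤ 𝐍(L) := fun s hs =>
  let ⟨n, hn⟩ := hP ⟨s, hs⟩; h.two_norm hL h3 n s (h1 hs) (congrArg Subtype.val hn)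

/-- Squares of `2`-elements centralize the components of type `L₂(3ⁿ)`. -/
theorem Loc.sq_mem (h : Loc X) (hL : TC X L) (h3 : L3T (Zq L)) {s : G} (hs : s ∈ X)
    (h2 : IsPGroup 2 (zpowers s)) : s * s ∈ 𝐂(L) := by
  have := Fact.mk Nat.prime_two
  obtain ⟨P, h1, hP⟩ := IsSylowIn.exists_ge h2 (zpowers_le.2 hs)
  obtain ⟨K, hK, e⟩ := exists_tor_of_not_eight hL h.od h.s3 (hL.sylow hP) h3.not_eight_dvd
  obtain ⟨n, hn⟩ := h2 ⟨s, mem_zpowers s⟩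
  have h4 := h.two_norm' hL h3 hP.isPGroup hP.le
  obtain ⟨l, hl, h5, -⟩ := hK.dec hs (h4 (h1 (mem_zpowers s))) (H1.le_normalizer_inf le_normalizer
    h4 (h1 (mem_zpowers s))) (n := n)
    (by rw [show s ^ 2 ^ n = 1 from congrArg Subtype.val hn]; exact one_mem _)
  have := mul_mem (e l hl) (mul_mem h5 h5)
  convert this using 1
  calc s * s = l * (l⁻¹ * s * l) * (l⁻¹ * s) := by group
    _ = _ := by rw [← mem_cent.1 h5 l hl.2]; group

/-- The subgroup generated by the squares. -/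
def Sq (R : Subgroup G) : Subgroup G := closure {y | ∃ x ∈ R, x * x = y}

theorem norm_le_norm_Sq (R : Subgroup G) : 𝐍(R) ≤ 𝐍(Sq R) :=
  le_normalizer_closure_iff.2 fun g hg _ ⟨x, hx, e⟩ => subset_closure
    ⟨g * x * g⁻¹, conj_mem_of_mem_normalizer hg hx, by rw [← e]; group⟩

theorem MC.good_of_sq (h : MC G) (hX : X ≠ ⊤) (hR : IsPGroup 2 R) (h1 : R ≤ X) (h2 : A ≤ Sq R) :
    Good (im X A) ⊤ := fun L hL hm => ((h.loc_bar hX).cases hL).resolve_right fun e => hm <| by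
  refine (le_pre (h2.trans ((closure_le _).2 ?_))).1 (h2.trans ((closure_le _).2 ?_))
  · rintro _ ⟨x, hx, rfl⟩; exact h1 (mul_mem hx hx)
  rintro _ ⟨x, hx, rfl⟩
  refine mem_pre.2 ⟨h1 (mul_mem hx hx), ?_⟩
  rw [br_mul (h1 hx) (h1 hx)]
  exact (h.loc_bar hX).sq_mem hL e (mem_top _)
    (im_zpowers (h1 hx) ▸ pgroup_im (hR.to_le (zpowers_le.2 hx)))

theorem ctl_up (hS : IsSylowIn 2 S ⊤) (hE : El R) (h1 : R ≤ S) (h2 : S ⊓ 𝐂(R) ≤ R)
    (hc : Ctl ⊤ S 𝐍(R)) {K : Subgroup G} (h3 : K ≤ 𝐍(R)) (h4 : 𝐍(R) ≤ 𝐍(K)) (h5 : 𝐂(R) ≤ K) {k : ℕ}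
    (h6 : (𝐂(R)).relIndex K = 2 ^ k) : Ctl ⊤ S 𝐍(S ⊓ K) := by
  have := Fact.mk Nat.prime_two
  have sn := hc.le_normalizer h1 le_top
  have hR' := hS.inf_of_le_normalizer le_top (sn.trans h4)
  have hC : IsSylowIn 2 R 𝐂(R) := by
    have := hS.inf_of_le_normalizer le_top (sn.trans (norm_le_norm_cent R))
    rwa [le_antisymm h2 (le_inf h1 hE.le_cent)] at this
  have two : ∀ {P : Subgroup G}, IsPGroup 2 P → P ≤ 𝐂(R) → P ≤ R := fun hP hP' =>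
    le_sylow_of_norm hC hP hP' (hP'.trans (cent_le_norm R))
  refine hc.trans fun g hg => ?_
  set U := S ⊓ g⁻¹ •ᶜ S with hU
  have un : U ≤ 𝐍(K) := inf_le_left.trans (sn.trans h4)
  have hg' := hR'.map_conj_of_mem_normalizer (h4 (inv_mem hg.2))
  have key : ∀ {R₁ S₁ : Subgroup G}, IsSylowIn 2 R₁ K → IsPGroup 2 S₁ → R₁ ≤ S₁ → U ≤ S₁ →
      ∃ T, IsSylowIn 2 T (K ⊔ U) ∧ U ≤ T ∧ T ⊓ K = R₁ := fun a b c d => by
    obtain ⟨T, t1, t2⟩ := IsSylowIn.exists_ge (b.to_le (sup_le c d)) (sup_le_sup_right a.le U)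
    exact ⟨T, t2, le_sup_right.trans t1, a.eq_of_le t2.isPGroup.to_inf_left
      (le_inf (le_sup_left.trans t1) a.le) inf_le_right⟩
  obtain ⟨T, t1, t2, t3⟩ := key hR' hS.isPGroup inf_le_left inf_le_left
  obtain ⟨T', s1, s2, s3⟩ := key hg' (hS.isPGroup.map _) (map_mono inf_le_left) inf_le_right
  obtain ⟨y, hy, e⟩ := s1.exists_conj_eq t1
  have tn : T ≤ 𝐍(R) := t1.le.trans (sup_le h3 (inf_le_left.trans sn))
  have h7 : K ⊔ U ≤ 𝐂(R) ⊔ T := sup_le ((hR'.sup_eq_of_relIndex_eq_pow h5 h6).ge.trans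
    (sup_le_sup_left (t3.ge.trans inf_le_left) _)) (t2.trans le_sup_right)
  obtain ⟨c, hc', t, ht, rfl⟩ := mem_sup_norm (tn.trans (norm_le_norm_cent R)) (h7 hy)
  obtain ⟨u, hu, v, hv, rfl, uv, ⟨j, hj⟩, ov⟩ := exists_p_part Nat.prime_two c
  have hv' := zpowers_le.2 hc' hv
  have hu' : u ∈ T := (t3.ge (le_inf h1 (hE.le_cent.trans h5) (two (H1.isPGroup_zpowers_of_pow
    (hj ▸ pow_orderOf_eq_one u)) (zpowers_le.2 (zpowers_le.2 hc' hu)) (mem_zpowers u)))).1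
  have e1 : v •ᶜ T = T' := by
    rw [← e, uv.eq, mul_assoc, ← cj_cj, cj_eq_of_mem (mul_mem hu' ht)]
  refine ⟨g * v, ⟨trivial, mul_mem hg.2 (cent_le_norm R hv')⟩, mem_normalizer_of_map_conj_eq ?_,
    fun b hb hb' => ?_⟩
  · rw [← cj_cj, ← t3, map_conj_inf, e1, cj_eq_of_mem (h5 hv'), s3, t3, map_conj_map_conj_inv]
  have hbU : b ∈ U := ⟨hb, mem_map_conj_iff.2 (by simpa using hb')⟩
  have h8 : v * b * v⁻¹ * b⁻¹ ∈ R := two (s1.isPGroup.to_inf_left) inf_le_right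
    (mem_inf.2 ⟨mul_mem (e1 ▸ conj_mem_map_conj (t2 hbU)) (inv_mem (s2 hbU)),
      comm_mem_left hv' (norm_le_norm_cent R (sn hb))⟩)
  have h9 : b ∈ 𝐂[v] := mem_cent1_of_sq (Nat.coprime_two_right.1 ov) (mem_cent1.2 (by
    have h10 := mem_cent.1 hv' _ h8
    have h11 := hE _ h8
    calc b * (v * v) = (v * b * v⁻¹ * b⁻¹) * (v * b * v⁻¹ * b⁻¹) * b * (v * v) := by
          rw [h11, one_mul]
      _ = (v * b * v⁻¹ * b⁻¹) * v * (b * v) := by group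
      _ = v * v * b := by rw [h10]; group))
  rw [show g * v * b * (g * v)⁻¹ = g * (v * b) * v⁻¹ * g⁻¹ by group, ← mem_cent1.1 h9]; group

end CfsgLib.GO
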