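import Cfsg.Agent.Lib.Gol.El0
import Cfsg.Agent.Lib.Gol.NS

/-!
# Elementary abelian strongly closed subgroups: the end
-/

set_option autoImplicit false

namespace CfsgLib.GO

open Subgroup Cfsg CfsgLib.FT CfsgLib.FT.BGN CfsgLib.Cop CfsgLib.GW CfsgLib.Wal
open scoped commutatorElement

universe u

variable {G : Type u} [Group G] [Finite G] {S R : Subgroup G}

theorem EC.exists_zd_of (h : EC S R) (h16 : 16 ≤ Nat.card R)
    (h1 : ∀ X, X ≠ ⊤ → R ≤ X → ∀ J : Subgroup (Bar X), TC ⊤ J → L3T (Zq J) → ¬ im X R ≤ 𝐂(J) →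
      ∃ T W k, RP R T (R ⊓ pre X 𝐂(J)) W k)
    (h2 : ∀ T D W k, RP R T D W k → ∀ s ∈ 𝐍(R), IsPGroup 2 (zpowers s) → ∀ x ∈ R, ⁅s, x⁆ ∈ D) :
    ∃ A M, SCA S A ∧ ZD A M := by
  set B := Subgroup.closure {y | ∃ s ∈ 𝐍(R), IsPGroup 2 (zpowers s) ∧ ∃ x ∈ R, ⁅s, x⁆ = y} with hB
  have h3 : B ≤ R := (closure_le _).2 (by
    rintro _ ⟨s, hs, -, x, hx, rfl⟩
    exact mul_mem (conj_mem_of_mem_normalizer hs hx) (inv_mem hx))
  obtain ⟨A, h4, hA, hi⟩ := (h.sca.of_le h3 (fun e => h.ne fun s hs => U4.mem_cent.2 fun x hx =>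
      (commutatorElement_eq_one_iff_mul_comm.1 (mem_bot.1 (e.le (subset_closure ⟨s, h.sca.le_norm hs,
        h.sca.syl.isPGroup.to_le (zpowers_le.2 hs), x, hx, rfl⟩)))).symm)
    (le_normalizer_closure_iff.2 fun g hg _ ⟨s, hs, h4, x, hx, e⟩ => subset_closure
      ⟨g * s * g⁻¹, mul_mem (mul_mem hg hs) (inv_mem hg), U4.zpowers_conj g s ▸ h4.map _,
        g * x * g⁻¹, conj_mem_of_mem_normalizer hg hx, by
          rw [← conjugate_commutatorElement, e]⟩)).exists_irr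
  have hR := h4.trans h3
  have hg : ∀ x ∈ R, x ≠ 1 → Gb A 𝐂[x] := fun x hx x1 J hJ hm => by
    have hX := h.mc.cent1_ne x1
    have h5 := h.sca.el.le_cent1 hx
    refine ((h.mc.loc_bar hX).cases hJ).resolve_right fun e => hm ?_
    obtain ⟨T, W, k, r⟩ := h1 _ hX h5 J hJ e fun e' => hm ((im_mono hR).trans e')
    refine (le_pre (hR.trans h5)).1 (h4.trans ((closure_le _).2 ?_))
    rintro _ ⟨s, hs, h6, y, hy, rfl⟩
    exact (h2 _ _ _ _ r s hs h6 y hy).2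
  refine ⟨A, ?_⟩
  simp only [hA, true_and]
  by_cases h5 : Nat.card A = 4
  · obtain ⟨u, hu, h6⟩ := SetLike.not_le_iff_exists.1 fun e : R ≤ A => by
      have := card_le_of_le e
      omega
    exact R1.exists_zd ⟨h.mc, hA, h5, hi⟩ (h.sca.el.le_cent' le_rfl hR hu) (h.sca.el u hu) h6
      (fun a ha => hg a (hR ha)) fun a ha => hg _ (mul_mem hu (hR ha)) fun e =>
        h6 (eq_inv_of_mul_eq_one_left e ▸ inv_mem ha)
  · exact h.mc.core2 hA (eight_le hA.el (hA.four_le h.mc) h5) hi fun a ha => hg a (hR ha)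

end CfsgLib.GO
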