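import Cfsg.Agent.Lib.Gol.El0
import Cfsg.Agent.Lib.GW.LocalE1

/-!
# Elementary abelian strongly closed subgroups: the order
-/

set_option autoImplicit false

namespace CfsgLib.GO

open Subgroup Cfsg CfsgLib.FT CfsgLib.FT.BGN CfsgLib.Cop CfsgLib.GW CfsgLib.Wal
open scoped commutatorElement

universe u

variable {G : Type u} [Group G] [Finite G] {S R : Subgroup G}

theorem EC.sixteen (h : EC S R) : 16 ≤ Nat.card R := by
  have hE := h.sca.el
  obtain ⟨x, hx, h1⟩ := SetLike.not_le_iff_exists.1 h.ne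
  obtain ⟨k, h2, h3⟩ := PGrp.exists_pow_not_mem_pow_prime_mem' h.sca.syl.isPGroup _ hx h1
  have h4 := h.sca.le_norm (pow_mem hx (2 ^ k))
  generalize x ^ 2 ^ k = s at h2 h3 h4
  have h5 := ml_of_red (h.mc.s3f.subgroup _) (h.mc.kg _ (h.mc.norm_ne h.sca.ne hE.solv)) hE h.red
    (zpowers_le.2 h4) (by
      rintro _ ⟨i, rfl⟩
      rw [← (Commute.refl s).mul_zpow, ← sq]
      exact zpow_mem h3 i)
  have h6 : 2 ≤ (𝐂(R)).relIndex (zpowers s) := by
    have := H1.relIndex_ne_zero' 𝐂(R) (zpowers s)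
    have := mt relIndex_eq_one.1 fun e : zpowers s ≤ 𝐂(R) => h2 (e (mem_zpowers s))
    omega
  have h7 := relIndex_cent_le (y := s) (T := 𝐂[s] ⊓ R) (P := R) fun g hg => by
    have a := conj_mem_of_mem_normalizer h4 (inv_mem hg)
    have e : ⁅g, s⁆ = g * (s * g⁻¹ * s⁻¹) := by simp only [commutatorElement_def, mul_assoc]
    refine e ▸ ⟨U4.mem_cent1_comm.1 (U4.mem_cent1_of_conj_eq ?_), mul_mem hg a⟩
    rw [hE.comm hg a, ← _root_.conj_mul, hE.inv hg, show s * (s * g * s⁻¹) * s⁻¹ =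
      s ^ 2 * g * (s ^ 2)⁻¹ by rw [sq]; group, ← U4.mem_cent.1 h3 g hg, mul_inv_cancel_right,
      hE.comm hg (conj_mem_of_mem_normalizer h4 hg)]
  rw [U4.cent_zpowers] at h5
  rw [← card_mul_relIndex (inf_le_right (a := 𝐂[s])), inf_relIndex_right]
  have h8 := (Nat.pow_le_pow_left h6 2).trans h5
  exact Nat.mul_le_mul (h8.trans h7) h8

end CfsgLib.GO
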