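import Cfsg.Agent.Lib.Gol.El1
import Cfsg.Agent.Lib.Gol.El3
import Cfsg.Agent.Lib.Gol.El4
import Cfsg.Agent.Lib.Gol.El5

/-!
# Elementary abelian self-centralizing strongly closed subgroups
-/

set_option autoImplicit false

namespace CfsgLib.GO

open Subgroup Cfsg CfsgLib.FT CfsgLib.FT.BGN CfsgLib.Cop CfsgLib.GW CfsgLib.Wal
open CfsgLib.H1 (AbTwo CharIn layerIn genFitIn dSub)
open CfsgLib.FT.U4 (mem_cent1 mem_cent1' mem_cent mem_cent1_comm cent1_conj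
  eq_one_of_mem_inf eq_bot_of_forall conj_mem_conj_iff orderOf_conj norm_le_norm_cent)
open scoped commutatorElement

universe u

variable {G : Type u} [Group G] [Finite G] {S R T D W X : Subgroup G} {k : G}

namespace EC
variable (h : EC S R)
include h

theorem claimA (r : RP R T D W k) {d : G} (hd : d ∈ D) (d1 : d ≠ 1) {s : G}
    (hs : s ∈ 𝐍(R) ⊓ 𝐂[d]) (h2 : IsPGroup 2 (zpowers s)) :
    (∀ x ∈ R, ⁅s, x⁆ ∈ D) ∧ R ≤ (R ⊓ 𝐂[s]) ⊔ D := by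
  obtain ⟨J, hJ, h3, e, h4, -, h5⟩ := h.exists_comp r hd d1
  have hE := h.sca.el
  have hR : R ≤ 𝐂[d] := hE.le_cent1 (r.DR hd)
  have l := h.mc.loc_bar (h.mc.cent1_ne d1)
  obtain ⟨n, hn⟩ := h2 ⟨s, mem_zpowers s⟩
  have hn' : br 𝐂[d] s ^ 2 ^ n = 1 := by
    rw [← br_pow hs.2, show s ^ 2 ^ n = 1 from congrArg Subtype.val hn, br_one]
  have h6 := l.two_norm hJ h3 n _ (mem_top _) hn'
  have h7 : zpowers s ≤ 𝐍(R ⊓ pre 𝐂[d] J) :=
    H1.le_normalizer_inf (zpowers_le.2 hs.1) (zpowers_le.2 (mem_norm_pre hs.2 h6))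
  obtain ⟨K, hK⟩ := l.exists_tor hJ h5
  obtain ⟨y, hy, h8, -⟩ := hK.dec (mem_top _) h6 (im_norm h7 (br_mem_im (mem_zpowers s) hs.2))
    (n := n) (hn' ▸ one_mem _)
  have h9 : br 𝐂[d] s ∈ 𝐂(im 𝐂[d] (R ⊓ pre 𝐂[d] J)) := (mul_mem_cancel_left
    (inv_mem ((hE.mono inf_le_left).im.le_cent hy))).1 (centralizer_le h5.le h8)
  have h10 : s ∈ 𝐍(D) := e ▸ H1.le_normalizer_inf (zpowers_le.2 hs.1)
    (zpowers_le.2 (mem_norm_pre hs.2 (norm_le_norm_cent J h6))) (mem_zpowers s)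
  have h11 : R ⊓ pre 𝐂[d] J ≤ R ⊓ 𝐂[s] := fun t ht => ⟨ht.1, mem_cent1.2
    (commutatorElement_eq_one_iff_mul_comm.1 (eq_one_of_br (hE _ (comm_mem_left ht.1 hs.1))
      (hR (comm_mem_left ht.1 hs.1)) (by
        rw [br_comm (hR ht.1) hs.2, commutatorElement_eq_one_iff_mul_comm]
        exact mem_cent.1 h9 _ (br_mem_im ht (hR ht.1)))))⟩
  refine ⟨fun x hx => ?_, h4.trans (sup_le_sup_right h11 D)⟩
  obtain ⟨t, ht, c, hc, rfl⟩ := hE.mem_sup inf_le_left r.DR (h4 hx)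
  have e : t * ⁅s, c⁆ * t⁻¹ = ⁅s, t * c⁆ :=
    calc _ = t * s * c * s⁻¹ * (t * c)⁻¹ := by rw [commutatorElement_def]; group
      _ = _ := by rw [mem_cent1.1 (h11 ht).2, commutatorElement_def]; group
  exact e ▸ conj_mem_of_mem_normalizer (hE.le_norm r.DR ht.1) (comm_mem_right h10 hc)

theorem claimB (r : RP R T D W k) {T' D' W' : Subgroup G} {k' : G} (r' : RP R T' D' W' k')
    (h0 : D ⊓ D' ≠ ⊥) : D = D' ∨ R ≤ D ⊔ D' := by
  obtain ⟨d, hd, d1⟩ := exists_mem_ne_one h0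
  obtain ⟨J, hJ, -, e, h1, -⟩ := h.exists_comp r hd.1 d1
  obtain ⟨J', hJ', -, e', -⟩ := h.exists_comp r' hd.2 d1
  exact (hJ.eq_or hJ').imp (fun a => by rw [e, e', a]) fun a => h1.trans
    (sup_le (le_sup_of_le_right (e' ▸ inf_le_inf_left R (pre_mono a))) le_sup_left)

theorem comm_mem (r : RP R T D W k) {s : G} (hs : s ∈ 𝐍(R)) (h2 : IsPGroup 2 (zpowers s)) :
    ∀ x ∈ R, ⁅s, x⁆ ∈ D :=
  RC.comm_mem ⟨fun r a => r.cj a, fun r a b c d => h.claimA r a b c d, fun r r' a => h.claimB r r' a,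
    h.sixteen⟩ h r hs h2

theorem exists_zd : ∃ A M, SCA S A ∧ ZD A M :=
  h.exists_zd_of h.sixteen (fun _ a b _ c d e => h.exists_rp a b c d e)
    fun _ _ _ _ r _ a b => h.comm_mem r a b

end EC

end CfsgLib.GO
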