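import Cfsg.Agent.Lib.Gol.R2b

/-!
# Elementary abelian strongly closed subgroups: definitions
-/

set_option autoImplicit false

namespace CfsgLib.GO

open Subgroup Cfsg CfsgLib.FT CfsgLib.FT.BGN CfsgLib.Cop CfsgLib.GW CfsgLib.Wal
open CfsgLib.H1 (AbTwo CharIn layerIn genFitIn dSub)
open CfsgLib.FT.U4 (mem_cent1 mem_cent1' mem_cent mem_cent1_comm cent1_conj
  eq_one_of_mem_inf eq_bot_of_forall conj_mem_conj_iff orderOf_conj norm_le_norm_cent)
open scoped commutatorElement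

universe u

variable {G : Type u} [Group G] [Finite G] {S R T D W X : Subgroup G} {k : G}

/-- `R` is strongly closed, not central in `S`, and `O₂(N(R) / C(R)) = 1`. -/
structure EC (S R : Subgroup G) : Prop where
  mc : MC G
  sca : SCA S R
  ne : ¬ S ≤ 𝐂(R)
  red : ∀ K ≤ 𝐍(R), 𝐍(R) ≤ 𝐍(K) → ∀ k, (𝐂(R)).relIndex K = 2 ^ k → K ≤ 𝐂(R)

/-- The decomposition `R = T × D` defined by a component of type `L₂(3ⁿ)`. -/
structure RP (R T D W : Subgroup G) (k : G) : Prop where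
  card : Nat.card T = 4
  inf : T ⊓ D = ⊥
  sup : T ⊔ D = R
  cent : W ≤ 𝐂(D)
  gen : conjClosure T W = W
  perf : ⁅W, W⁆ = W
  mem : k ∈ W
  norm : k ∈ 𝐍(T)
  fpf : T ⊓ 𝐂[k] = ⊥
  three : ∃ j, k ^ 3 ^ j = 1

end CfsgLib.GO
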