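import Cfsg.Agent.Lib.Gol.El0

/-!
# Elementary abelian strongly closed subgroups: the decompositions `R = T × D`
-/

set_option autoImplicit false

namespace CfsgLib.GO

open Subgroup Cfsg CfsgLib.FT CfsgLib.FT.BGN CfsgLib.Cop CfsgLib.GW CfsgLib.Wal
open CfsgLib.H1 (AbTwo CharIn layerIn genFitIn dSub)
open CfsgLib.FT.U4 (mem_cent1 mem_cent1' mem_cent mem_cent1_comm cent1_conj
  eq_one_of_mem_inf eq_bot_of_forall conj_mem_conj_iff orderOf_conj norm_le_norm_cent)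
open scoped commutatorElement

universe u

variable {G : Type u} [Group G] [Finite G] {S R T D W X : Subgroup G} {k : G}

theorem RP.cj (h : RP R T D W k) {n : G} (hn : n ∈ 𝐍(R)) :
    RP R (n •ᶜ T) (n •ᶜ D) (n •ᶜ W) (n * k * n⁻¹) := by
  obtain ⟨j, hj⟩ := h.three
  refine ⟨by rw [card_map_conj, h.card], by rw [← map_conj_inf, h.inf, Subgroup.map_bot],
    by rw [← Subgroup.map_sup, h.sup, map_conj_eq_of_mem_normalizer hn],
    by rw [centralizer_map_conj]; exact map_mono h.cent,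
    by rw [← H1.map_conjClosure, h.gen], by rw [← map_commutator, h.perf],
    conj_mem_map_conj h.mem, by rw [normalizer_map_conj]; exact conj_mem_map_conj h.norm,
    by rw [← cj_cent1, ← map_conj_inf, h.fpf, Subgroup.map_bot], j, by rw [conj_pow, hj]; group⟩

theorem zq_equiv {L : Subgroup G} (zb : L ⊓ 𝐂(L) = ⊥) : Nonempty (Zq L ≃* L) :=
  ⟨(QuotientGroup.quotientMulEquivOfEq (M := ⊥) (by
    rw [eq_comm, subgroupOf_eq_bot, disjoint_iff, inf_comm, zb])).symm.trans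
    QuotientGroup.quotientBot⟩

theorem Loc.l3mov {A L : Subgroup G} (l : Loc X) (sc : SCin A X) (hL : TC X L) (h3 : L3T (Zq L))
    (hm : ¬ A ≤ 𝐂(L)) : ∃ K, Mov X A L (A ⊓ L) K (A ⊓ L) ∧ L ⊓ 𝐂(L) = ⊥ ∧
      Nat.card ↥(A ⊓ L) = 4 := by
  have := Fact.mk Nat.prime_two
  obtain ⟨P, h1, hP⟩ := IsSylowIn.exists_ge sc.el.isPGroup sc.le
  obtain ⟨K, hK, sq⟩ := exists_tor_of_not_eight hL l.od l.s3 (hL.sylow hP) h3.not_eight_dvd
  obtain ⟨T, m⟩ := hK.exists_mov sc hP.isPGroup h1 hP.le (l.norm_tc sc hL) hm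
  have eT := sc.el.mono m.tA
  have c1 : P ⊓ L ≤ 𝐂(T) := fun x hx => by
    obtain ⟨t, ht, e⟩ := m.cov x hx (sq x hx)
    simpa using mul_mem (centralizer_le m.tL e) (eT.le_cent ht)
  have zb : L ⊓ 𝐂(L) = ⊥ := eq_bot_of_forall fun z hz => mem_bot.1 ((comm_eq_bot_iff.2 fun x hx => by
    obtain ⟨t, ht, e⟩ := m.cov x hx (sq x hx)
    simpa using mul_mem (centralizer_le inf_le_right e) (le_centralizer_iff.1 c1 ht)).le
    (center_le_comm m.syl hL.perfect (m.zle hz) hz.2))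
  have e : P ⊓ L = T := le_antisymm (fun x hx => by
    obtain ⟨t, ht, e⟩ := m.cov x hx (sq x hx)
    rwa [mul_inv_eq_one.1 (eq_one_of_mem_inf zb (mul_mem hx.2 (inv_mem (m.tL ht))) e)]) m.tQ
  have e' : T = A ⊓ L := le_antisymm (le_inf m.tA m.tL) (e ▸ inf_le_inf_right _ h1)
  rw [e] at m
  subst e'
  refine ⟨K, m, zb, by_contra fun h4 => h3.not_eight_dvd ?_⟩
  obtain ⟨f⟩ := zq_equiv zb
  obtain ⟨n, hn⟩ := eT.isPGroup.exists_card_eq
  have h8 := eight_le eT m.four h4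
  rw [Nat.card_congr f.toEquiv]
  refine dvd_trans ?_ (card_dvd_of_le (inf_le_right (a := A)))
  rw [hn] at h8 ⊢
  exact pow_dvd_pow 2 ((Nat.pow_le_pow_iff_right one_lt_two).1 (show 2 ^ 3 ≤ 2 ^ n from h8))

theorem fpf_of_odd {E : Subgroup G} (hE : El E) (h4 : Nat.card E = 4) {ρ : G} (hn : ρ ∈ 𝐍(E))
    (ho : Odd (orderOf ρ)) (hc : ρ ∉ 𝐂(E)) : E ⊓ 𝐂[ρ] = ⊥ := eq_bot_of_forall fun u hu => by
  by_contra u1
  obtain ⟨v, hv, hF⟩ := hE.exists_four h4.ge hu.1 u1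
  have hV : V u v = E := eq_of_le_of_card_ge (V_le hu.1 hv) (by rw [h4, hF.card_V])
  have e : ρ * u * ρ⁻¹ = u := mul_inv_eq_iff_eq_mul.2 (mem_cent1'.1 hu.2)
  refine hc (mem_of_pow_odd (n := 1) ?_ ho (by rw [pow_orderOf_eq_one]; exact one_mem _))
  rw [← hV, cent_V, pow_one]
  refine mem_inf.2 ⟨pow_mem (mem_cent1_comm.1 hu.2) _, mem_cent1.2 (mul_inv_eq_iff_eq_mul.1 ?_)⟩
  have e2 : ρ ^ 2 * v * (ρ ^ 2)⁻¹ = ρ * (ρ * v * ρ⁻¹) * ρ⁻¹ := by rw [sq]; group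
  rw [e2]
  rcases mem_four hE h4 hu.1 hv u1 hF.s1 hF.ne (conj_mem_of_mem_normalizer hn hv)
    (U4.conj_ne_one_iff.2 hF.s1) with h | h | h
  · rw [← e] at h
    exact absurd (by simpa using h.symm) hF.ne
  · rw [h, h]
  · rw [h, ← _root_.conj_mul, e, h, ← mul_assoc, hF.tt, one_mul]

theorem exists_three_part {E : Subgroup G} (hE : El E) (h4 : Nat.card E = 4) {ρ : G}
    (h1 : ρ ∈ 𝐍(E)) (h2 : E ⊓ 𝐂[ρ] = ⊥) : ∃ m, (∃ j, (ρ ^ m) ^ 3 ^ j = 1) ∧ E ⊓ 𝐂[ρ ^ m] = ⊥ := by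
  obtain ⟨k, m, hm, e⟩ := Nat.exists_eq_pow_mul_and_not_dvd (orderOf_pos ρ).ne' 3 (by norm_num)
  refine ⟨m, ⟨k, by rw [← pow_mul, mul_comm, ← e, pow_orderOf_eq_one]⟩,
    eq_bot_of_forall fun x hx => ?_⟩
  by_contra x1
  obtain ⟨a, -, b⟩ := four_of_fpf h4 h1 h2 hx.1 (hE.ord hx.1 x1)
  have c : ρ ^ 3 ∈ 𝐂[x] := mem_cent1.2 (mul_inv_eq_iff_eq_mul.1 (by
    calc _ = ρ * (ρ * (ρ * x * ρ⁻¹) * ρ⁻¹) * ρ⁻¹ := by rw [pow_succ, sq]; group
      _ = x := by
        rw [b, ← _root_.conj_mul, b, ← mul_assoc, ← a.comm, mul_assoc x, a.ss, mul_one]))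
  refine x1 (eq_one_of_mem_inf h2 hx.1 (mem_cent1_comm.1 ?_))
  have h3 := Nat.gcd_eq_gcd_ab 3 m
  rw [(Nat.prime_three.coprime_iff_not_dvd).2 hm] at h3
  have := mul_mem (zpow_mem c (Nat.gcdA 3 m)) (zpow_mem (mem_cent1_comm.1 hx.2) (Nat.gcdB 3 m))
  rwa [← zpow_natCast, ← zpow_natCast, ← zpow_mul, ← zpow_mul, ← zpow_add, ← h3, Nat.cast_one,
    zpow_one] at this

namespace RP
variable (r : RP R T D W k)
include r

omit [Finite G] in
theorem TR : T ≤ R := r.sup ▸ le_sup_left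

omit [Finite G] in
theorem DR : D ≤ R := r.sup ▸ le_sup_right

omit [Finite G] in
theorem TW : T ≤ W := r.gen ▸ H1.le_conjClosure T W

omit [Finite G] in
theorem kR : k ∈ 𝐍(R) := r.sup ▸ H1.le_normalizer_sup (zpowers_le.2 r.norm)
  (zpowers_le.2 (cent_le_norm D (r.cent r.mem))) (mem_zpowers k)

theorem card_eq (hR : El R) : Nat.card R = 4 * Nat.card D := by
  have := hR.card_sup r.TR r.DR
  rwa [r.sup, r.inf, card_bot, mul_one, r.card] at this

end RP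

namespace EC
variable (h : EC S R)
include h

theorem exists_rp' (hX : X ≠ ⊤) (hR : R ≤ X) {J : Subgroup (Bar X)} (hJ : TC ⊤ J)
    (h3 : L3T (Zq J)) (hm : ¬ im X R ≤ 𝐂(J)) :
    (∃ W k, RP R (R ⊓ pre X J) (R ⊓ pre X 𝐂(J)) W k) ∧ J ⊓ 𝐂(J) = ⊥ ∧
      IsSylowIn 2 (im X (R ⊓ pre X J)) J := by
  have := Fact.mk Nat.prime_two
  have eR := h.sca.el
  obtain ⟨K, m, zb, c4⟩ := (h.mc.loc_bar hX).l3mov (h.sca.scin hR).bar hJ h3 hm
  rw [← im_inf_pre] at m c4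
  refine ⟨?_, zb, m.syl⟩
  set T := R ⊓ pre X J with hT
  set D := R ⊓ pre X 𝐂(J) with hD
  have TX : T ≤ X := inf_le_left.trans hR
  have DX : D ≤ X := inf_le_left.trans hR
  have eT : El T := eR.mono inf_le_left
  have eD : El D := eR.mono inf_le_left
  have T4 : Nat.card T = 4 := (card_im eT TX).symm.trans c4
  obtain ⟨f⟩ := zq_equiv zb
  have sJ : IsSimpleGroup J := (haveI := zq_simple hJ.2; f.symm.isSimpleGroup)
  obtain ⟨W, w0, ⟨w1, w2⟩, wm⟩ := exists_minimal_le_of_wellFoundedLT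
    (fun W : Subgroup G => T ≤ W ∧ im X W = J) (X ⊓ 𝐂(D) ⊓ pre X J)
    ⟨le_inf (le_inf TX (eR.le_cent' inf_le_left inf_le_left)) inf_le_right, by
      rw [im_inf_pre, ← cent_im eD.isPGroup DX, inf_eq_right, le_centralizer_iff, hD, im_inf_pre]
      exact inf_le_right⟩
  have WX : W ≤ X := w0.trans (inf_le_left.trans inf_le_left)
  obtain ⟨t, ht, t1⟩ := m.exists_ne
  obtain ⟨t', ht', tF⟩ := eT.im.exists_four c4.ge ht t1
  obtain ⟨κ, hκ, e⟩ := m.trt t ht t' ht' t1 tF.s1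
  have fp := fpf_of_odd eT.im c4 (m.kt hκ) (odd_orderOf_of_mem m.odd hκ) fun e' => tF.ne (by
    rw [← e, ← mem_cent.1 e' t ht, mul_inv_cancel_right])
  obtain ⟨w, hw, hw', rfl⟩ := mem_im.1 (w2.ge (m.le hκ))
  have sT : IsSylowIn 2 T (W ⊓ (Od X ⊔ T)) := (sylow_of_sup (TX.trans (le_norm_Od X)) rfl
    (odd_Od X).not_two_dvd_nat ⟨le_rfl, eT.isPGroup, by simp⟩).mono (le_inf w1 le_sup_right)
    inf_le_right
  obtain ⟨y, hy, e2⟩ := sT.exists_conj_le (Q := w •ᶜ T) (eT.isPGroup.map _) (le_inf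
    (cj_le_of_norm w1 (le_normalizer hw)) ((im_le_im (cj_le_of_norm TX (le_normalizer hw')) TX).1
      (by rw [im_cj hw', map_conj_eq_of_mem_normalizer (m.kt hκ)])))
  rw [cj_cj] at e2
  have n1 : y * w ∈ 𝐍(T) := mem_normalizer_of_map_conj_eq
    (eq_of_le_of_card_ge e2 (card_map_conj _ _).ge)
  have yX := WX hy.1
  have f1 : T ⊓ 𝐂[y * w] = ⊥ := eq_bot_of_forall fun u hu => by
    have a1 := br_mem_im hu.1 (TX hu.1)
    have a2 := br_mem_cent1 (TX hu.1) (mul_mem yX hw') hu.2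
    have a3 : br X y ∈ im X T := (im_le_im (zpowers_le.2 yX) TX).2 (zpowers_le.2 hy.2)
      (br_mem_im (mem_zpowers y) yX)
    rw [br_mul yX hw', mem_cent1_comm] at a2
    refine eq_one_of_br (eT u hu.1) (TX hu.1) (eq_one_of_mem_inf fp a1 (mem_cent1_comm.1 ?_))
    simpa using mul_mem (inv_mem (eT.im.le_cent1 a1 a3)) a2
  obtain ⟨n, a, b⟩ := exists_three_part eT T4 n1 f1
  refine ⟨W, (y * w) ^ n, T4, eq_bot_of_forall fun x hx => eq_one_of_br (eT x hx.1) (TX hx.1)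
    (eq_one_of_mem_inf zb (mem_pre.1 hx.1.2).2 (mem_pre.1 hx.2.2).2),
    le_antisymm (sup_le inf_le_left inf_le_left) fun x hx => ?_,
    w0.trans (inf_le_left.trans inf_le_right), ?_, ?_, pow_mem (mul_mem hy.1 hw) n, pow_mem n1 n,
    b, a⟩
  · obtain ⟨s, hs, e⟩ := m.dec _ (br_mem_im hx (hR hx))
    obtain ⟨s, h1, h2, rfl⟩ := mem_im.1 hs
    have : s * x ∈ D := mem_inf.2 ⟨mul_mem h1.1 hx, mem_pre.2 ⟨mul_mem h2 (hR hx),
      by rwa [br_mul h2 (hR hx)]⟩⟩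
    simpa using mul_mem (inv_mem (mem_sup_left (T := D) h1)) (mem_sup_right this)
  · have a1 := H1.conjClosure_le_of_le w1
    refine le_antisymm a1 (wm ⟨H1.le_conjClosure T W, (eq_bot_or_eq_of_simple sJ
      (w2 ▸ im_mono a1) (w2 ▸ im_norm (H1.le_normalizer_conjClosure T W))).resolve_left
        fun e => t1 (mem_bot.1 (e.le (im_mono (H1.le_conjClosure T W) ht)))⟩ a1)
  · have a1 : ⁅W, W⁆ ≤ W := commutator_le_left_of_le_normalizer le_normalizer
    have a2 : im X ⁅W, W⁆ = J := by rw [im_comm WX WX, w2, hJ.perfect]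
    refine le_antisymm a1 (wm ⟨fun u hu => ?_, a2⟩ a1)
    obtain ⟨v, hv, hv', e⟩ := mem_im.1 (a2.ge (m.tL (br_mem_im hu (TX hu))))
    have o : v⁻¹ * u ∈ Od X := (br_eq_one (mul_mem (inv_mem hv') (TX hu))).1 (by
      rw [br_mul (inv_mem hv') (TX hu), br_inv hv', e, inv_mul_cancel])
    have : v⁻¹ * u ∈ ⁅W, W⁆ := mem_of_pow_odd (n := 1) (by
      have := mul_mem (inv_mem hv) (conj_mem_of_mem_normalizer
        (normalizer_commutator_ge_left W W (w1 hu)) (inv_mem hv))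
      convert this using 1
      rw [pow_one, sq, eT.inv hu]; group) (odd_of_mem_Od o)
      (by rw [pow_orderOf_eq_one]; exact one_mem _)
    simpa using mul_mem hv this

theorem exists_rp (hX : X ≠ ⊤) (hR : R ≤ X) {J : Subgroup (Bar X)} (hJ : TC ⊤ J)
    (h3 : L3T (Zq J)) (hm : ¬ im X R ≤ 𝐂(J)) : ∃ T W k, RP R T (R ⊓ pre X 𝐂(J)) W k :=
  ⟨_, (h.exists_rp' hX hR hJ h3 hm).1⟩

theorem exists_comp (r : RP R T D W k) {d : G} (hd : d ∈ D) (d1 : d ≠ 1) :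
    ∃ J : Subgroup (Bar 𝐂[d]), TC ⊤ J ∧ L3T (Zq J) ∧ D = R ⊓ pre 𝐂[d] 𝐂(J) ∧
      R ≤ (R ⊓ pre 𝐂[d] J) ⊔ D ∧ (J ⊓ 𝐂(J) = ⊥) ∧ IsSylowIn 2 (im 𝐂[d] (R ⊓ pre 𝐂[d] J)) J := by
  have := Fact.mk Nat.prime_two
  have eR := h.sca.el
  have eT := eR.mono r.TR
  have hX := h.mc.cent1_ne d1
  have hR := eR.le_cent1 (r.DR hd)
  have WX : W ≤ 𝐂[d] := r.cent.trans (cent_le_cent1 hd)
  generalize 𝐂[d] = X at *
  have l := h.mc.loc_bar hX
  have sc := (h.sca.scin hR).bar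
  have TX := r.TR.trans hR
  have kX := WX r.mem
  have cl : ∀ N : Subgroup (Bar X), (⊤ : Subgroup (Bar X)) ≤ 𝐍(N) → im X T ≤ N → im X W ≤ N :=
    fun N h1 h2 => (le_pre WX).1 (r.gen ▸ H1.conjClosure_le ((le_pre TX).2 h2)
      (le_norm_pre WX (le_top.trans h1)))
  obtain ⟨L, hL, hm⟩ : ∃ L, TC ⊤ L ∧ ¬ im X T ≤ 𝐂(L) := by
    by_contra! hc
    have h1 := solv_of_im WX (solvable_of_isPGroup ((H1.pCoreOf_isPGroup (p := 2) ⊤).to_le
      (cl _ (H1.le_normalizer_pCoreOf ⊤) fun b hb =>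
        l.mem_pc sc (im_mono r.TR hb) fun J hJ => hc J hJ hb)))
    have h2 : W = ⊥ := by
      by_contra e
      have := (nontrivial_iff_ne_bot W).2 e
      refine (Group.IsSolvable.commutator_lt_top_of_nontrivial W).ne
        (map_injective W.subtype_injective ?_)
      rw [map_subtype_commutator, r.perf, ← MonoidHom.range_eq_map, range_subtype]
    have := r.card
    rw [le_bot_iff.1 (r.TW.trans h2.le), card_bot] at this
    omega
  have hm' : ¬ im X R ≤ 𝐂(L) := fun e => hm ((im_mono r.TR).trans e)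
  have wL : im X W ≤ L ⊔ 𝐂(L) := (cl _ (H1.le_normalizer_sup (le_normalizer.trans
    (H1.normalizer_le_normalizer_layerIn ⊤)) (H1.le_normalizer_pCoreOf ⊤))
    ((im_mono r.TR).trans (l.le_genFit sc))).trans (sup_le (H1.layerIn_le_iff.2 fun J a b => by
      rcases TC.eq_or ⟨a, b⟩ hL with rfl | e
      · exact le_sup_left
      · exact e.trans le_sup_right) ((hL.pc_le 2).trans le_sup_right))
  have kL : br X k ∈ 𝐍(𝐂(L)) := ((sup_le le_normalizer (cent_le_norm L)).trans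
    (norm_le_norm_cent L)) (wL (br_mem_im r.mem kX))
  set D' := R ⊓ pre X 𝐂(L) with hD'
  have kD : k ∈ 𝐍(D') := inf_normalizer_le_normalizer_inf ⟨r.kR, mem_norm_pre kX kL⟩
  have TD : T ⊓ D' = ⊥ := eq_bot_of_forall fun u hu => by
    by_contra u1
    obtain ⟨-, a, -⟩ := four_of_fpf r.card r.norm r.fpf hu.1 (eT.ord hu.1 u1)
    exact hm ((le_pre TX).1 ((a.ge.trans (V_le hu.2 (conj_mem_of_mem_normalizer kD hu.2))).trans
      inf_le_right))
  have fx : ∀ u ∈ T, ⁅k, u⁆ ∈ D' → u = 1 := fun u hu e => eq_one_of_mem_inf r.fpf hu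
    (mem_cent1'.2 (commutatorElement_eq_one_iff_mul_comm.1
      (eq_one_of_mem_inf TD (comm_mem_right r.norm hu) e)))
  rcases l.cases hL with h3 | h3
  · exfalso
    obtain ⟨Q, K, T', m, s⟩ := l.exists_smov sc hL hm' h3
    obtain ⟨x, hx, c, hc, e⟩ := mem_sup_norm (le_centralizer_iff.1 le_rfl |>.trans (cent_le_norm _))
      (sup_comm L 𝐂(L) ▸ wL (br_mem_im r.mem kX))
    have DD : D ≤ D' := fun z hz => by
      have zX := hR (r.DR hz)
      refine mem_inf.2 ⟨r.DR hz, mem_pre.2 ⟨zX, ?_⟩⟩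
      obtain ⟨t, ht, e1⟩ := m.dec _ (br_mem_im (r.DR hz) zX)
      by_contra z1
      have t1 : t ∉ 𝐂(L) := fun e => z1 (by simpa using mul_mem (inv_mem e) e1)
      have e2 : br X k * br X z * (br X k)⁻¹ = br X z := by
        rw [← br_conj kX zX, ← mem_cent.1 (r.cent r.mem) z hz, mul_inv_cancel_right]
      have e3 := mul_mem (conj_mem_of_mem_normalizer kL e1) (inv_mem e1)
      rw [← _root_.conj_mul, e2, ← e] at e3
      have e4 : c ∈ Q := s.cent t (m.tQ ht) t1 c hc (commutatorElement_mem_comm (by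
        have a := mem_cent.1 hx _ (mul_mem (mul_mem hc (m.tL ht)) (inv_mem hc))
        convert e3 using 1
        calc ⁅c, t⁆ = c * t * c⁻¹ * x * x⁻¹ * t⁻¹ := by rw [commutatorElement_def]; group
          _ = _ := by rw [a]; group))
      obtain ⟨n, hn⟩ := m.syl.isPGroup ⟨c, e4⟩
      obtain ⟨j, hj⟩ := r.three
      have e5 : br X k ∈ 𝐂(L) := mem_of_pow_odd (n := n) (k := 3 ^ j) (by
        rw [← e, (show Commute x c from (mem_cent.1 hx c hc).symm).mul_pow,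
          show c ^ 2 ^ n = 1 from congrArg Subtype.val hn, mul_one]
        exact pow_mem hx _) (Odd.pow (by decide)) (by
          rw [← br_pow kX, hj, br_one]; exact one_mem _)
      obtain ⟨u, hu, u1⟩ := exists_ne_one_of_card (B := T) (by rw [r.card]; norm_num)
      refine u1 (fx u hu (mem_inf.2 ⟨r.TR (comm_mem_right r.norm hu), mem_pre.2
        ⟨TX (comm_mem_right r.norm hu), ?_⟩⟩))
      rw [br_comm kX (TX hu)]
      exact comm_mem_left e5 (norm_le_norm_cent L (l.norm_tc sc hL (br_mem_im (r.TR hu) (TX hu))))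
    have a1 := sc.el.card_sup m.tA (inf_le_left (b := 𝐂(L)))
    have a2 := card_le_of_le (sup_le m.tA (inf_le_left (b := 𝐂(L))))
    have a3 := s.eight T' m.tQ m.cov
    have a4 := card_le_of_le DD
    rw [le_bot_iff.1 ((inf_le_inf_left T' inf_le_right).trans m.inf.le), card_bot, mul_one] at a1
    rw [a1, card_im eR hR, r.card_eq eR, ← im_inf_pre,
      card_im (eR.mono inf_le_left) (inf_le_left.trans hR)] at a2
    have a5 : 0 < Nat.card D := Nat.card_pos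
    nlinarith
  obtain ⟨⟨W', k', r'⟩, zb, sy⟩ := h.exists_rp' hX hR hL h3 hm'
  have a1 := eR.card_sup r.TR r'.DR
  rw [TD, card_bot, mul_one, r.card, ← r'.card_eq eR] at a1
  have a2 : T ⊔ D' = R := eq_of_le_of_card_ge (sup_le r.TR r'.DR) a1.ge
  have DD : D ≤ D' := fun z hz => by
    obtain ⟨u, hu, y, hy, rfl⟩ := eR.mem_sup r.TR r'.DR (a2.ge (r.DR hz))
    rw [fx u hu (by
      have := mul_mem (conj_mem_of_mem_normalizer (eR.le_norm r'.DR (r.TR hu)) hy)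
        (conj_mem_of_mem_normalizer (eR.le_norm r'.DR (r.TR hu))
          (inv_mem (conj_mem_of_mem_normalizer kD hy)))
      convert this using 1
      calc ⁅k, u⁆ = k * (u * y) * k⁻¹ * (k * y * k⁻¹)⁻¹ * u⁻¹ := by rw [commutatorElement_def]; group
        _ = _ := by rw [← mem_cent.1 (r.cent r.mem) _ hz]; group), one_mul]
    exact hy
  have e : D = D' := eq_of_le_of_card_ge DD (by
    have : 4 * Nat.card D = 4 * Nat.card D' := (r.card_eq eR).symm.trans (r'.card_eq eR)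
    omega)
  exact ⟨L, hL, h3, e, e ▸ r'.sup.ge, zb, sy⟩

end EC

end CfsgLib.GO
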