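import Cfsg.Agent.Lib.Gol.Tor

/-!
# Step B1: components with Sylow `2`-subgroups of order four
-/

set_option autoImplicit false

namespace CfsgLib.GO

open Subgroup Cfsg CfsgLib.FT CfsgLib.FT.BGN CfsgLib.Cop CfsgLib.GW CfsgLib.Wal
open CfsgLib.H1 (AbTwo CharIn layerIn genFitIn dSub)
open CfsgLib.FT.U4 (mem_cent1 mem_cent1' mem_cent mem_cent1_comm cent1_conj
  eq_one_of_mem_inf eq_bot_of_forall conj_mem_conj_iff orderOf_conj norm_le_norm_cent)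
open scoped commutatorElement

universe u

variable {Y : Type u} [Group Y] [Finite Y]

/-- A group of order four with a fixed point free automorphism of odd order. -/
theorem four_of_fpf {E : Subgroup Y} (h4 : Nat.card E = 4) {ρ : Y} (hn : ρ ∈ 𝐍(E))
    (hf : E ⊓ 𝐂[ρ] = ⊥) {a : Y} (ha : a ∈ E) (h2 : orderOf a = 2) :
    Four a (ρ * a * ρ⁻¹) ∧ V a (ρ * a * ρ⁻¹) = E ∧
      ρ * (ρ * a * ρ⁻¹) * ρ⁻¹ = a * (ρ * a * ρ⁻¹) := by
  have key : ∀ x ∈ E, ρ * x * ρ⁻¹ = x → x = 1 := fun x hx e =>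
    eq_one_of_mem_inf hf hx (mem_cent1'.2 (mul_inv_eq_iff_eq_mul.1 e))
  have hb := conj_mem_of_mem_normalizer hn ha
  have := IsPGroup.isMulCommutative_of_card_eq_prime_sq (p := 2) (G := E) h4
  have hF : Four a (ρ * a * ρ⁻¹) := ⟨h2, by rwa [orderOf_conj],
    congrArg Subtype.val (this.is_comm.comm (⟨a, ha⟩ : E) ⟨_, hb⟩),
    fun e => ne_one_of_inv h2 (key a ha e.symm)⟩
  have hV : V a (ρ * a * ρ⁻¹) = E := eq_of_le_of_card_ge (V_le ha hb) (by rw [h4, hF.card_V])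
  refine ⟨hF, hV, ?_⟩
  rcases hF.mem_V.1 (hV.ge (conj_mem_of_mem_normalizer hn hb)) with e | e | e | e
  · exact absurd (by simpa using e) hF.s1
  · refine absurd (key _ (mul_mem ha hb) ?_) hF.ts1
    rw [← _root_.conj_mul, e, hF.comm]
  · exact absurd (key _ hb e) hF.s1
  · exact e

theorem not_hnpc_of_simple {K : Type*} [Group K] [Finite K] [IsSimpleGroup K]
    (hn : ¬ IsMulCommutative K) : ¬ HasNormalPComplement 2 K := fun h => by
  have := Fact.mk Nat.prime_two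
  obtain ⟨N, hN, h1, k, h2⟩ := PCompl.hnpc_exists_normal h
  refine hn ⟨⟨IsSimpleGroup.comm_iff_isSolvable.2 ?_⟩⟩
  rcases hN.eq_bot_or_eq_top with rfl | rfl
  · rw [index_bot] at h2
    have := (IsPGroup.of_card h2).isNilpotent
    infer_instance
  · have := solvable_of_odd (Nat.coprime_two_right.1 h1)
    exact solvable_of_surjective (f := (⊤ : Subgroup K).subtype) fun x => ⟨⟨x, trivial⟩, rfl⟩

theorem td_of_not_eight [IsSimpleGroup Y] (hn : ¬ IsMulCommutative Y) (h8 : ¬ 8 ∣ Nat.card Y)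
    {Q : Subgroup Y} (hQ : IsSylowIn 2 Q ⊤) : ∃ d, TD Q d ∧ El Q := by
  have := topEquiv (G := Y).isSimpleGroup
  obtain ⟨h4, ρ, h1, ⟨k, h2⟩, h3⟩ := exists_three_of_not_eight (K := ⊤) (by rwa [card_top])
    (not_hnpc_of_simple fun hc => hn ⟨⟨fun a b => congrArg Subtype.val
      (hc.is_comm.comm ⟨a, trivial⟩ ⟨b, trivial⟩)⟩⟩) hQ
  obtain ⟨a, ha, h5⟩ := exists_inv_of_not_odd (H := Q) (by rw [h4]; decide)
  obtain ⟨hF, hV, e⟩ := four_of_fpf h4 h1 h3 ha h5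
  have hE : El Q := hV ▸ Four.el hF
  have key : ∀ x ∈ Q, x ≠ 1 → ∃ j ∈ zpowers ρ, j * a * j⁻¹ = x := fun x hx x1 => by
    rcases hF.mem_V.1 (hV.ge hx) with rfl | rfl | rfl | rfl
    · exact absurd rfl x1
    · exact ⟨1, one_mem _, by simp⟩
    · exact ⟨ρ, mem_zpowers ρ, rfl⟩
    · exact ⟨ρ * ρ, mul_mem (mem_zpowers ρ) (mem_zpowers ρ), by rw [← e]; group⟩
  refine ⟨ρ, ⟨fun x hx _ y hy => hE.comm hx hy, h1,
    (Odd.pow (by decide)).of_dvd_nat (orderOf_dvd_of_pow_eq_one h2),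
    fun x hx y hy x1 y1 _ _ => ?_, a, ha, _, conj_mem_of_mem_normalizer h1 ha, hF.t1, hF.s1,
    hF.ne, hF.tt, hF.ss⟩, hE⟩
  obtain ⟨i, hi, rfl⟩ := key x hx x1
  obtain ⟨j, hj, rfl⟩ := key y hy y1
  exact ⟨j * i⁻¹, mul_mem hj (inv_mem hi), by group⟩

theorem mem_of_pow_odd {H : Subgroup Y} {s : Y} {n k : ℕ} (hs : s ^ 2 ^ n ∈ H) (hk : Odd k)
    (h : s ^ k ∈ H) : s ∈ H := by
  have h1 := Nat.gcd_eq_gcd_ab (2 ^ n) k
  rw [(Nat.coprime_two_left.2 hk).pow_left n] at h1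
  have := mul_mem (zpow_mem hs (Nat.gcdA (2 ^ n) k)) (zpow_mem h (Nat.gcdB (2 ^ n) k))
  rwa [← zpow_natCast, ← zpow_natCast, ← zpow_mul, ← zpow_mul, ← zpow_add, ← h1, Nat.cast_one,
    zpow_one] at this

theorem mem_of_not_eight (h3 : S3F Y) {K : Subgroup Y} [hK : K.Normal] [IsSimpleGroup K]
    (hn : ¬ IsMulCommutative K) (h8 : ¬ 8 ∣ Nat.card K) (hc : 𝐂(K) = ⊥) {s : Y}
    (ht : K ⊔ zpowers s = ⊤) {n : ℕ} (hs : s ^ 2 ^ n = 1) : s ∈ K := by
  have := Fact.mk Nat.prime_two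
  have hnK : ∀ g, g ∈ 𝐍(K) := fun g => by rw [normalizer_eq_top]; trivial
  obtain ⟨P, h1, hP⟩ := IsSylowIn.exists_ge (H := ⊤) (H1.isPGroup_zpowers_of_pow hs) le_top
  have hsP := h1 (mem_zpowers s)
  have hV := hP.inf_of_le_normalizer (K := K) le_top fun g _ => hnK g
  obtain ⟨h4, ρ, r1, ⟨k, r2⟩, r3⟩ := exists_three_of_not_eight h8 (not_hnpc_of_simple hn) hV
  have hPV : P ≤ 𝐍(P ⊓ K) := H1.le_normalizer_inf le_normalizer fun g _ => hnK g
  obtain ⟨a, ha, a2⟩ := exists_inv_of_not_odd (H := (P ⊓ K) ⊓ 𝐂(P)) fun ho =>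
    inf_centralizer_ne_bot_of_isNilpotent hP.isPGroup.isNilpotent inf_le_left hPV
      (fun e => by rw [e, card_bot] at h4; omega)
      (eq_bot_of_odd_of_two ho hP.isPGroup (inf_le_left.trans inf_le_left))
  obtain ⟨hF, hE, e⟩ := four_of_fpf h4 r1 r3 ha.1 a2
  set b := ρ * a * ρ⁻¹ with hb
  have hbV : b ∈ P ⊓ K := hE.le (s_mem_V _ _)
  have h5 : P ≤ 𝐂(P ⊓ K) := fun x hx => by
    have xa : ∀ y ∈ P, y * a * y⁻¹ = a := fun y hy => by
      rw [mem_cent.1 ha.2 y hy, mul_inv_cancel_right]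
    by_contra h6
    have xb : x * b * x⁻¹ = a * b := by
      rcases hF.mem_V.1 (hE.ge (conj_mem_of_mem_normalizer (hPV hx) hbV)) with e | e | e | e
      · exact absurd (by simpa using e) hF.s1
      · rw [← xa x hx] at e
        exact absurd (by simpa using e.symm) hF.ne
      · refine absurd ?_ h6
        rw [← hE, cent_V]
        exact ⟨mem_cent1.2 (mul_inv_eq_iff_eq_mul.1 (xa x hx)),
          mem_cent1.2 (mul_inv_eq_iff_eq_mul.1 e)⟩
      · exact e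
    have xab : x * (a * b) * x⁻¹ = b := by rw [← _root_.conj_mul, xa x hx, xb, ← mul_assoc, hF.tt, one_mul]
    have rab : ρ * (a * b) * ρ⁻¹ = a := by
      rw [← _root_.conj_mul, e, ← hb, ← mul_assoc, ← hF.comm, mul_assoc, hF.ss, mul_one]
    have h7 := h3.mem_of_inv (C := 𝐂(P ⊓ K)) (d := ρ) (t := x) (k := k) (norm_le_norm_cent _ r1)
      (norm_le_norm_cent _ (hPV hx)) (r2 ▸ one_mem _) (by
        rw [← hE, cent_V]
        refine ⟨mem_cent1.2 (mul_inv_eq_iff_eq_mul.1 ?_), mem_cent1.2 (mul_inv_eq_iff_eq_mul.1 ?_)⟩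
        · calc _ = x * (ρ * (x⁻¹ * (ρ * a * ρ⁻¹) * x) * ρ⁻¹) * x⁻¹ := by group
            _ = a := by
              rw [← hb, ← xab, show x⁻¹ * (x * (a * b) * x⁻¹) * x = a * b by group, rab, xa x hx]
        · calc _ = x * (ρ * (x⁻¹ * (ρ * b * ρ⁻¹) * x) * ρ⁻¹) * x⁻¹ := by group
            _ = b := by
              rw [e, ← xb, show x⁻¹ * (x * b * x⁻¹) * x = b by group, e, xab])
    exact hF.t1 (eq_one_of_mem_inf r3 ha.1 (mem_cent1.2 (mem_cent.1 h7 a ha.1)))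
  have dec : ∀ g : Y, ∃ l ∈ K, ∃ z ∈ zpowers s, l * z = g := fun g =>
    mem_sup_norm (fun g _ => hnK g) (ht ▸ mem_top g)
  have h6 : P ≤ 𝐂(P) := fun x hx => mem_cent.2 fun y hy => by
    obtain ⟨l, hl, z, hz, rfl⟩ := dec y
    have h7 : l ∈ P ⊓ K := ⟨by simpa using mul_mem hy (inv_mem (h1 hz)), hl⟩
    obtain ⟨l', hl', z', hz', rfl⟩ := dec x
    have h9 : l' ∈ P ⊓ K := ⟨by simpa using mul_mem hx (inv_mem (h1 hz')), hl'⟩
    obtain ⟨i, rfl⟩ := hz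
    obtain ⟨j, rfl⟩ := hz'
    exact Commute.mul_left (mem_cent.1 (h5 hx) l h7) (Commute.mul_right
      (mem_cent.1 (h5 (zpow_mem hsP i)) l' h9).symm (Commute.zpow_zpow_self s i j))
  obtain ⟨j, hj, c, hcV, h7⟩ := exists_avg h6 le_rfl (odd_relIndex_of_sylow hP h6 le_normalizer
    le_top) (B := P ⊓ K) inf_le_left hsP fun g hg => by
      refine mem_inf.2 ⟨mul_mem (conj_mem_of_mem_normalizer hg hsP) (inv_mem hsP), ?_⟩
      obtain ⟨l, hl, z, hz, rfl⟩ := dec g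
      rw [show l * z * s * (l * z)⁻¹ * s⁻¹ = l * (s * l⁻¹ * s⁻¹) by
        rw [mul_assoc l z, mem_cent1.1 (U4.zpowers_le_cent1 s hz)]; group]
      exact mul_mem hl (hK.conj_mem _ (inv_mem hl) s)
  have h9 := mul_mem (pow_mem hsP j) hcV.1
  by_cases h10 : s ^ j * c = 1
  · exact mem_of_pow_odd (hs ▸ one_mem K) hj (eq_inv_of_mul_eq_one_left h10 ▸ inv_mem hcV.2)
  obtain ⟨z, hz, z2⟩ := exists_inv_of_not_odd (H := zpowers (s ^ j * c)) fun ho =>
    h10 (zpowers_eq_bot.1 (eq_bot_of_odd_of_two ho hP.isPGroup (zpowers_le.2 h9)))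
  have h11 := Blk.glauberman_zstar Y z z2 (isIsolated_of_normalizer hP
    (by rw [sq, mul_self_of_inv z2]) (zpowers_le.2 h9 hz) h6 fun g hg =>
      mem_cent1.2 (mem_cent.1 (zpowers_le.2 h7 hz) g hg))
  refine absurd (mem_bot.1 (hc.le (mem_cent.2 fun l hl => ?_))) (ne_one_of_inv z2)
  have h12 : l * z * l⁻¹ * z⁻¹ ∈ Od K := Od_inf_le (M := ⊤) le_top ⟨by
    rw [Od, H1.piCoreOf_top, ← pPrimeCore_eq_piCore]; exact h11 l, by
    rw [mul_assoc l, mul_assoc l]; exact mul_mem hl (hK.conj_mem _ (inv_mem hl) z)⟩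
  rwa [Od_of_simple inferInstance hn, mem_bot, mul_inv_eq_one, mul_inv_eq_iff_eq_mul] at h12

theorem inner_of_not_eight [IsSimpleGroup Y] (hn : ¬ IsMulCommutative Y) (h8 : ¬ 8 ∣ Nat.card Y)
    {Γ : Subgroup (MulAut Y)} (h3 : S3F Γ) (h1 : MulAut.conj.range ≤ Γ) {τ : MulAut Y}
    (hτ : τ ∈ Γ) {n : ℕ} (h : τ ^ 2 ^ n = 1) : ∃ y, τ = MulAut.conj y := by
  have hZ : ∀ y : Y, MulAut.conj y = 1 → y = 1 := fun y e => by
    rcases (inferInstance : (center Y).Normal).eq_bot_or_eq_top with h | h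
    · exact mem_bot.1 (h.le (mem_center_iff.2 fun g =>
        (mul_inv_eq_iff_eq_mul.1 (DFunLike.congr_fun e g)).symm))
    · exact absurd ⟨⟨fun a b => mem_center_iff.1 (h.ge (mem_top b)) a⟩⟩ hn
  have hi := (injective_iff_map_eq_one (MulAut.conj (G := Y))).2 hZ
  have hc : ∀ (σ : MulAut Y) (y : Y), σ * MulAut.conj y * σ⁻¹ = MulAut.conj (σ y) :=
    fun σ y => by ext; simp
  set H := (MulAut.conj (G := Y)).range ⊔ zpowers τ
  have e : (MulAut.conj (G := Y)).range.subgroupOf H ≃* Y :=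
    (subgroupOfEquivOfLe le_sup_left).trans (MonoidHom.ofInjective hi).symm
  have := e.isSimpleGroup
  have : (MulAut.conj (G := Y)).range.Normal := ⟨by
    rintro _ ⟨y, rfl⟩ σ
    exact ⟨_, (hc σ y).symm⟩⟩
  obtain ⟨y, hy⟩ := mem_of_not_eight (h3.of_le (K := H) (sup_le h1 (zpowers_le.2 hτ)))
    (K := (MulAut.conj (G := Y)).range.subgroupOf H) (s := ⟨τ, mem_sup_right (mem_zpowers τ)⟩)
    (n := n) (fun hc => hn ⟨⟨fun a b => e.symm.injective (by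
      rw [map_mul, map_mul, hc.is_comm.comm])⟩⟩) (by rwa [Nat.card_congr e.toEquiv])
    (eq_bot_of_forall fun σ hσ => Subtype.ext (MulEquiv.ext fun y => hi (by
      have := congrArg Subtype.val (mem_cent.1 hσ ⟨MulAut.conj y, mem_sup_left ⟨y, rfl⟩⟩ ⟨y, rfl⟩)
      rw [← hc]
      exact mul_inv_eq_iff_eq_mul.2 this.symm)))
    (by
      apply map_injective H.subtype_injective
      rw [Subgroup.map_sup, subgroupOf_map_subtype, inf_of_le_left le_sup_left,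
        MonoidHom.map_zpowers, ← MonoidHom.range_eq_map, range_subtype]; rfl)
    (Subtype.ext h)
  exact ⟨y, hy.symm⟩

theorem exists_tor_of_not_eight {X L Q : Subgroup Y} (h : TC X L) (hO : Od X = ⊥) (h3 : S3F X)
    (hQ : IsSylowIn 2 Q L) (h8 : ¬ 8 ∣ Nat.card (Zq L)) :
    ∃ K, Tor X L Q K ∧ ∀ x ∈ Q, x * x ∈ 𝐂(L) := by
  have := zq_simple h.2
  obtain ⟨d, hd, hE⟩ := td_of_not_eight h.zq_nonab h8 (sylow_iz hQ)
  let f : ↥(X ⊓ 𝐍(L)) →* MulAut (Zq L) := (az L).comp (inclusion inf_le_right)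
  obtain ⟨K, hK, -⟩ := tor_of_td h hO hQ hd fun g hX hg n hn => by
    obtain ⟨y, hy⟩ := inner_of_not_eight h.zq_nonab h8 (Γ := f.range)
      ((h3.of_le inf_le_left).of_surjective _ f.rangeRestrict_surjective) (by
        rintro _ ⟨y, rfl⟩
        obtain ⟨l, hl, rfl⟩ := bz_surj y
        exact ⟨⟨l, h.le hl, le_normalizer hl⟩, az_of_mem hl⟩) (τ := az L ⟨g, hg⟩) (n := n)
      ⟨⟨g, hX, hg⟩, rfl⟩ (by rw [← map_pow]; exact (h.az_eq_one (pow_mem hg _)).2 hn)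
    obtain ⟨l, hl, rfl⟩ := bz_surj y
    refine ⟨l, hl, (h.az_eq_one (mul_mem (inv_mem (le_normalizer hl)) hg)).1 ?_⟩
    rw [← az_of_mem hl, ← inv_mul_eq_one, ← map_inv, ← map_mul] at hy
    rw [← inv_eq_one, ← map_inv, ← hy]
    congr 1
    exact Subtype.ext (by simp)
  exact ⟨K, hK, fun x hx => (bz_sq (hQ.le hx)).1 (hE _ (bz_mem hQ.le hx))⟩

end CfsgLib.GO
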