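import Cfsg.Agent.Lib.Gol.NS

/-!
# Strongly closed four-groups: basic facts
-/

set_option autoImplicit false

namespace CfsgLib.GO

open Subgroup Cfsg CfsgLib.FT CfsgLib.FT.BGN CfsgLib.Cop CfsgLib.GW CfsgLib.Wal
open CfsgLib.H1 (AbTwo CharIn layerIn genFitIn dSub)
open CfsgLib.FT.U4 (mem_cent1 mem_cent1' mem_cent mem_cent1_comm cent1_conj
  eq_one_of_mem_inf eq_bot_of_forall conj_mem_conj_iff orderOf_conj norm_le_norm_cent)
open scoped commutatorElement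

universe u

variable {G : Type u} [Group G] [Finite G] {S A X : Subgroup G}

theorem fix_of_fpf (h3 : S3F G) {E : Subgroup G} (h4 : Nat.card E = 4) (hE : El E) {ρ : G}
    (r1 : ρ ∈ 𝐍(E)) {k : ℕ} (r2 : ρ ^ 3 ^ k = 1) (r3 : E ⊓ 𝐂[ρ] = ⊥) {a x : G} (ha : a ∈ E)
    (a1 : a ≠ 1) (hx : x ∈ 𝐍(E)) (hc : x ∈ 𝐂[a]) : x ∈ 𝐂(E) := by
  obtain ⟨hF, hV, e⟩ := four_of_fpf h4 r1 r3 ha (hE.ord ha a1)
  set b := ρ * a * ρ⁻¹ with hb
  have xa : x * a * x⁻¹ = a := mul_inv_eq_iff_eq_mul.2 (mem_cent1.1 hc)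
  by_contra h6
  have xb : x * b * x⁻¹ = a * b := by
    rcases hF.mem_V.1 (hV.ge (conj_mem_of_mem_normalizer hx (hV.le (s_mem_V _ _))))
      with e | e | e | e
    · exact absurd (by simpa using e) hF.s1
    · rw [← xa] at e
      exact absurd (by simpa using e.symm) hF.ne
    · refine absurd ?_ h6
      rw [← hV, cent_V]
      exact ⟨hc, mem_cent1.2 (mul_inv_eq_iff_eq_mul.1 e)⟩
    · exact e
  have xab : x * (a * b) * x⁻¹ = b := by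
    rw [← _root_.conj_mul, xa, xb, ← mul_assoc, hF.tt, one_mul]
  have rab : ρ * (a * b) * ρ⁻¹ = a := by
    rw [← _root_.conj_mul, e, ← hb, ← mul_assoc, ← hF.comm, mul_assoc, hF.ss, mul_one]
  have h7 := h3.mem_of_inv (C := 𝐂(E)) (d := ρ) (t := x) (k := k) (norm_le_norm_cent _ r1)
    (norm_le_norm_cent _ hx) (r2 ▸ one_mem _) (by
      rw [← hV, cent_V]
      refine ⟨mem_cent1.2 (mul_inv_eq_iff_eq_mul.1 ?_), mem_cent1.2 (mul_inv_eq_iff_eq_mul.1 ?_)⟩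
      · calc _ = x * (ρ * (x⁻¹ * (ρ * a * ρ⁻¹) * x) * ρ⁻¹) * x⁻¹ := by group
          _ = a := by
            rw [← hb, ← xab, show x⁻¹ * (x * (a * b) * x⁻¹) * x = a * b by group, rab, xa]
      · calc _ = x * (ρ * (x⁻¹ * (ρ * b * ρ⁻¹) * x) * ρ⁻¹) * x⁻¹ := by group
          _ = b := by
            rw [e, ← xb, show x⁻¹ * (x * b * x⁻¹) * x = b by group, e, xab])
  exact hF.t1 (eq_one_of_mem_inf r3 ha (mem_cent1.2 (mem_cent.1 h7 a ha)))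

theorem exists_cent_of_two {P : Subgroup G} (hA : IsPGroup 2 A) (h0 : A ≠ ⊥) (hP : IsPGroup 2 P)
    (hn : P ≤ 𝐍(A)) : ∃ a ∈ A, a ≠ 1 ∧ a ∈ 𝐂(P) := by
  have := Fact.mk Nat.prime_two
  obtain ⟨a, ha, a1⟩ := U4.exists_ne_one (inf_centralizer_ne_bot_of_isNilpotent
    (isPGroup_sup' hn hA hP).isNilpotent le_sup_left (sup_le le_normalizer hn) h0)
  exact ⟨a, ha.1, a1, centralizer_le (le_sup_right (a := A)) ha.2⟩

/-- `X` is good: no component of `X / O(X)` of type `L₂(3ⁿ)` is moved by `A`. -/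
abbrev Gb (A X : Subgroup G) : Prop := Good (im X A) ⊤

/-- A strongly closed four-group. -/
structure R1 (S A : Subgroup G) : Prop where
  mc : MC G
  sca : SCA S A
  card : Nat.card A = 4
  irr : Irr A

/-- The component of a bad subgroup. -/
structure BJ (A X : Subgroup G) (J : Subgroup (Bar X)) : Prop where
  tc : TC ⊤ J
  l3 : L3T J
  zb : J ⊓ 𝐂(J) = ⊥
  syl : IsSylowIn 2 (im X A) J
  nrm : ∀ g, g ∈ 𝐍(J)
  inn : ∀ g ∈ 𝐂(im X A), ∀ n : ℕ, g ^ 2 ^ n = 1 → ∃ l ∈ im X A, l⁻¹ * g ∈ 𝐂(J)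
  psl : PslIn J
  tr : ∀ u ∈ im X A, ∀ v ∈ im X A, u ≠ 1 → v ≠ 1 → ∃ k ∈ J ⊓ 𝐍(im X A), k * u * k⁻¹ = v

theorem BJ.simple {J : Subgroup (Bar X)} (h : BJ A X J) : IsSimpleGroup J :=
  have := zq_simple h.tc.2
  ((QuotientGroup.quotientMulEquivOfEq (M := ⊥) (by
    rw [eq_comm, subgroupOf_eq_bot, disjoint_iff, inf_comm, h.zb])).symm.trans
    QuotientGroup.quotientBot).symm.isSimpleGroup

theorem BJ.zq {J : Subgroup (Bar X)} (h : BJ A X J) : L3T (Zq J) :=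
  let ⟨F, a, b, f, c, d, ⟨φ⟩⟩ := h.l3
  ⟨F, a, b, f, c, d, ⟨((QuotientGroup.quotientMulEquivOfEq (M := ⊥) (by
    rw [eq_comm, subgroupOf_eq_bot, disjoint_iff, inf_comm, h.zb])).symm.trans
    QuotientGroup.quotientBot).trans φ⟩⟩

/-- The configuration to be excluded. -/
structure R2 (S A : Subgroup G) : Prop extends R1 S A where
  gd : ∀ X, X ≠ ⊤ → S ≤ X → Gb A X
  nab : ¬ S ≤ 𝐂(S)
  nzd : ∀ M, ¬ ZD A M

/-- `K_a = [O(C(a)), A]`. -/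
def Kk (A : Subgroup G) (a : G) : Subgroup G := ⁅Od 𝐂[a], A⁆

namespace R1
variable (h : R1 S A)
include h

theorem el : El A := h.sca.el

theorem simple : IsSimpleGroup G := h.mc.simple

theorem four {a b : G} (ha : a ∈ A) (hb : b ∈ A) (a1 : a ≠ 1) (b1 : b ≠ 1) (e : a ≠ b) :
    Four a b := h.el.four ha hb a1 b1 e

theorem V_eq {a b : G} (h4 : Four a b) (ha : a ∈ A) (hb : b ∈ A) : V a b = A :=
  eq_of_le_of_card_ge (V_le ha hb) (by rw [h.card, h4.card_V])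

theorem exists_four {a : G} (ha : a ∈ A) (a1 : a ≠ 1) : ∃ b ∈ A, Four a b :=
  h.el.exists_four h.card.ge ha a1

theorem trans {u v : G} (hu : u ∈ A) (hv : v ∈ A) (u1 : u ≠ 1) (v1 : v ≠ 1) :
    ∃ n ∈ 𝐍(A), n * u * n⁻¹ = v := h.irr.trans4 h.el h.card hu hv u1 v1

/-- `N(A) / C(A)` has order three. -/
theorem fix {a n : G} (ha : a ∈ A) (a1 : a ≠ 1) (hn : n ∈ 𝐍(A)) (hc : n ∈ 𝐂[a]) : n ∈ 𝐂(A) :=
  let ⟨_, r1, ⟨_, r2⟩, r3⟩ := h.irr.exists_fpf h.el h.card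
  fix_of_fpf h.mc.s3f h.card h.el r1 r2 r3 ha a1 hn hc

theorem two_le_cent {P : Subgroup G} (hP : IsPGroup 2 P) (hn : P ≤ 𝐍(A)) : P ≤ 𝐂(A) :=
  let ⟨_, ha, a1, e⟩ := exists_cent_of_two h.el.isPGroup h.sca.ne hP hn
  fun x hx => h.fix ha a1 (hn hx) (mem_cent1.2 (mem_cent.1 e x hx))

theorem two_le_cent' {P : Subgroup G} (hP : IsPGroup 2 P) (hn : A ≤ 𝐍(P)) : P ≤ 𝐂(A) :=
  h.two_le_cent hP ((h.sca.scin le_top).le_norm' hP hn le_top)

theorem le_cent : S ≤ 𝐂(A) := h.two_le_cent h.sca.syl.isPGroup h.sca.le_norm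

theorem fpf {n : G} (hn : n ∈ 𝐍(A)) (h1 : n ∉ 𝐂(A)) : A ⊓ 𝐂[n] = ⊥ :=
  eq_bot_of_forall fun _ ha => by_contra fun a1 => h1 (h.fix ha.1 a1 hn (mem_cent1_comm.1 ha.2))

theorem cube {n : G} (hn : n ∈ 𝐍(A)) : n ^ 3 ∈ 𝐂(A) := by
  by_cases h1 : n ∈ 𝐂(A)
  · exact pow_mem h1 3
  obtain ⟨x, hx, x1, -⟩ := h.sca.exists_cent
  obtain ⟨a, -, b⟩ := four_of_fpf h.card hn (h.fpf hn h1) hx (h.el.ord hx x1)
  refine h.fix hx x1 (pow_mem hn 3) (mem_cent1.2 (mul_inv_eq_iff_eq_mul.1 ?_))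
  calc _ = n * (n * (n * x * n⁻¹) * n⁻¹) * n⁻¹ := by rw [pow_succ, sq]; group
    _ = x := by rw [b, ← _root_.conj_mul, b, ← mul_assoc, ← a.comm, mul_assoc x, a.ss, mul_one]

/-- A `3`-element normalizing `S` and permuting the involutions of `A`. -/
theorem exists_rho : ∃ ρ ∈ 𝐍(A) ⊓ 𝐍(S), (∃ k, ρ ^ 3 ^ k = 1) ∧ A ⊓ 𝐂[ρ] = ⊥ := by
  have := Fact.mk Nat.prime_two
  obtain ⟨ρ, r1, -, r3⟩ := h.irr.exists_fpf h.el h.card
  obtain ⟨c, hc, e⟩ := (h.sca.syl.mono h.le_cent le_top).frattini_elem (norm_le_norm_cent _ r1)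
  have h1 : c * ρ ∈ 𝐍(A) ⊓ 𝐍(S) := ⟨mul_mem (cent_le_norm _ hc) r1, e⟩
  obtain ⟨u, hu, v, hv, e1, -, ⟨j, hj⟩, ov⟩ := exists_p_part Nat.prime_three (c * ρ)
  have h2 := zpowers_le.2 h1 hu
  refine ⟨u, h2, ⟨j, hj ▸ pow_orderOf_eq_one u⟩, h.fpf h2.1 fun h3 => h.sca.ne ?_⟩
  have h4 : v ∈ 𝐂(A) := zpowers_le.2 (h.cube (zpowers_le.2 h1 hv).1)
    (mem_zpowers_pow_iff.2 ov.symm)
  have h5 : ρ ∈ 𝐂(A) := by simpa using mul_mem (inv_mem hc) (e1.symm ▸ mul_mem h3 h4 : c * ρ ∈ _)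
  exact r3 ▸ (inf_of_le_left (le_cent1_iff.2 h5)).symm

theorem conj_eq (hA : A ≤ X) {g : G} (hg : g •ᶜ A ≤ X) : ∃ x ∈ X, x * g ∈ 𝐍(A) := by
  have := Fact.mk Nat.prime_two
  obtain ⟨P, h1, hP⟩ := IsSylowIn.exists_ge h.el.isPGroup hA
  obtain ⟨x, hx, e⟩ := hP.exists_conj_le (h.el.cj g).isPGroup hg
  exact ⟨x, hx, mem_normalizer_of_conj_mem fun a ha => (h.sca.scin le_top).sc P hP.isPGroup h1
    le_top _ trivial a ha (e (cj_cj x g A ▸ conj_mem_map_conj ha))⟩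

theorem conj_mem (hA : A ≤ X) {a g : G} (ha : a ∈ A) (hg : g * a * g⁻¹ ∈ X) :
    ∃ x ∈ X, x * (g * a * g⁻¹) * x⁻¹ ∈ A := by
  have := Fact.mk Nat.prime_two
  obtain ⟨P, h1, hP⟩ := IsSylowIn.exists_ge h.el.isPGroup hA
  obtain ⟨x, hx, e⟩ := hP.exists_conj_le
    (el_zpowers (Invol.conj_mul_self (h.el a ha) g)).isPGroup (zpowers_le.2 hg)
  have e1 : x * (g * a * g⁻¹) * x⁻¹ = x * g * a * (x * g)⁻¹ := by group
  exact ⟨x, hx, e1 ▸ (h.sca.scin le_top).sc P hP.isPGroup h1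
    le_top _ trivial a ha (e1 ▸ e (conj_mem_map_conj (mem_zpowers _)))⟩

/-- `N(A)` controls fusion in `C(A)`. -/
theorem fusion {x g : G} (hx : x ∈ 𝐂(A)) (hg : g * x * g⁻¹ ∈ 𝐂(A)) :
    ∃ n ∈ 𝐍(A), n * x * n⁻¹ = g * x * g⁻¹ := by
  obtain ⟨c, hc, e⟩ := h.conj_eq (le_cent1_iff.2 hg) (g := g)
    (cj_cent1 g x ▸ map_mono (le_cent1_iff.2 hx))
  refine ⟨_, e, ?_⟩
  rw [show c * g * x * (c * g)⁻¹ = c * (g * x * g⁻¹) * c⁻¹ by group, mem_cent1.1 hc,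
    mul_inv_cancel_right]

theorem exists_norm_cj {H : Subgroup G} (hA : A ≤ H) {g : G} (hg : A ≤ g •ᶜ H) :
    ∃ n ∈ 𝐍(A), g •ᶜ H = n •ᶜ H := by
  obtain ⟨x, hx, e⟩ := h.conj_eq hA (le_cj_iff.1 hg)
  exact ⟨_, inv_mem e, by rw [mul_inv_rev, inv_inv, ← cj_cj, cj_eq_of_mem (inv_mem hx)]⟩

theorem five_le {p : ℕ} (hp : p.Prime) (h2 : p ≠ 2) {P : Subgroup G} (hP : IsPGroup p P) {t : G}
    (ht : t * t = 1) (hn : t ∈ 𝐍(P)) (hc : ¬ P ≤ 𝐂[t]) : 5 ≤ p := by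
  obtain ⟨i, hi, i1, e⟩ := exists_inverted ht (odd_card_of_isPGroup hp h2 hP) hn hc
  refine hp.five_le_of_ne_two_of_ne_three h2 ?_
  rintro rfl
  obtain ⟨k, hk⟩ := hP ⟨i, hi⟩
  exact i1 (h.mc.s3f.eq_one (congrArg Subtype.val hk) e)

variable (hX : X ≠ ⊤) (hA : A ≤ X)
include hX hA

theorem gb_norm (hg : Gb A X) (g : Bar X) : g ∈ 𝐍(im X A) := by
  have l := h.mc.loc_bar hX
  have sc := (h.sca.scin hA).bar
  refine sc.norm (H1.pCoreOf_isPGroup ⊤) (fun b hb => l.mem_pc sc hb fun J hJ => ?_) le_top trivial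
    (H1.le_normalizer_pCoreOf ⊤ trivial)
  by_contra e
  obtain ⟨Q, K, T, m, s⟩ := l.exists_smov sc hJ (fun e' => e (e' hb)) (hg J hJ fun e' => e (e' hb))
  have := (s.eight T m.tQ m.cov).trans (card_le_of_le m.tA)
  rw [card_im h.el hA, h.card] at this
  omega

theorem gb_le (hg : Gb A X) : X ≤ Od X ⊔ X ⊓ 𝐍(A) := by
  rw [← im_le_im le_rfl inf_le_left, ← norm_im h.el.isPGroup hA]
  exact fun g _ => h.gb_norm hX hA hg g

theorem gb_comm (hg : Gb A X) {U : Subgroup G} (hU : U ≤ X) (ho : Odd (Nat.card U))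
    (hn : A ≤ 𝐍(U)) : ⁅U, A⁆ ≤ Od X := by
  rw [← im_le_cent hU hA]
  exact LD.le_cent_of_comm le_rfl (im_norm hn) le_rfl (fun g _ => h.gb_norm hX hA hg g)
    (eq_bot_of_odd_of_two (odd_card_of_le (odd_im ho) inf_le_left) h.el.im.isPGroup inf_le_right)

theorem exists_bj (hg : ¬ Gb A X) : ∃ J, BJ A X J := by
  have := Fact.mk Nat.prime_two
  have l := h.mc.loc_bar hX
  have sc := (h.sca.scin hA).bar
  simp only [Good, not_forall] at hg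
  obtain ⟨J, hJ, hm, hs⟩ := hg
  have h3 := (l.cases hJ).resolve_left hs
  obtain ⟨P, h1, hP⟩ := IsSylowIn.exists_ge h.el.isPGroup hA
  have hP' : IsSylowIn 2 (im X P) ⊤ := by
    have := (hP.subgroupOf le_rfl).map (pr X)
    rwa [show (X.subgroupOf X).map (pr X) = ⊤ from im_self] at this
  have pc := im_cent (X := X) (h.two_le_cent' hP.isPGroup (h1.trans le_normalizer))
  obtain ⟨K, hK, sq⟩ := exists_tor_of_not_eight hJ l.od l.s3 (hJ.sylow hP') h3.not_eight_dvd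
  obtain ⟨T, m⟩ := hK.exists_mov sc hP'.isPGroup (im_mono h1) le_top (l.norm_tc sc hJ) hm
  obtain rfl : T = im X A :=
    eq_of_le_of_card_ge m.tA (by rw [card_im h.el hA, h.card]; exact m.four)
  have zb : J ⊓ 𝐂(J) = ⊥ := eq_bot_of_forall fun z hz => mem_bot.1 ((comm_eq_bot_iff.2 fun x hx => by
    obtain ⟨t, ht, e⟩ := m.cov x hx (sq x hx)
    simpa using mul_mem (centralizer_le inf_le_right e)
      (le_centralizer_iff.1 (inf_le_left.trans pc) ht)).le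
    (center_le_comm m.syl hJ.perfect (m.zle hz) hz.2))
  have e : im X P ⊓ J = im X A := le_antisymm (fun x hx => by
    obtain ⟨t, ht, e⟩ := m.cov x hx (sq x hx)
    rwa [mul_inv_eq_one.1 (eq_one_of_mem_inf zb (mul_mem hx.2 (inv_mem (m.tL ht))) e)]) m.tQ
  have nrm : ∀ g, g ∈ 𝐍(J) := fun g => by
    obtain ⟨t, ht, t1⟩ := m.exists_ne
    rcases (hJ.cj' (g := g) (le_normalizer (mem_top g))).eq_or hJ with e | e
    · exact mem_normalizer_of_map_conj_eq e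
    have h4 := (map_mono m.tL).trans e
    have h5 := sc.sc _ (sc.el.sup (sc.el.cj g) (h4.trans (centralizer_le m.tL))).isPGroup
      le_sup_left le_top g trivial t ht (mem_sup_right (conj_mem_map_conj ht))
    exact absurd (eq_one_of_mem_inf zb (m.tL h5) (h4 (conj_mem_map_conj ht))) (by simpa using t1)
  have l3 : L3T J := by
    obtain ⟨F, a, b, f, c, d, ⟨φ⟩⟩ := h3
    exact ⟨F, a, b, f, c, d, ⟨((QuotientGroup.quotientMulEquivOfEq (M := ⊥) (by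
      rw [eq_comm, subgroupOf_eq_bot, disjoint_iff, inf_comm, zb])).symm.trans
      QuotientGroup.quotientBot).symm.trans φ⟩⟩
  refine ⟨J, hJ, l3, zb, e ▸ m.syl, nrm, fun g hg n hn => ?_, ?_, fun u hu v hv u1 v1 => ?_⟩
  · obtain ⟨x, hx, h4, -⟩ := m.toTor.dec (mem_top g) (nrm g) (e ▸ cent_le_norm _ hg) (n := n)
      (hn ▸ one_mem _)
    exact ⟨x, e ▸ hx, h4⟩
  · have := l3.pslIn.map J.subtype J.subtype_injective
    rwa [← MonoidHom.range_eq_map, range_subtype] at this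
  · obtain ⟨k, hk, e⟩ := m.trt u hu v hv u1 v1
    exact ⟨k, ⟨m.le hk, m.kn hk⟩, e⟩

variable (hg : ¬ Gb A X)
include hg

theorem bad_sq {x : G} (hx : x ∈ X ⊓ 𝐂(A)) (h2 : IsPGroup 2 (zpowers x)) (e : x * x ∈ A) :
    x * x = 1 := by
  obtain ⟨J, b⟩ := h.exists_bj hX hA hg
  have h1 := (h.mc.loc_bar hX).sq_mem b.tc b.zq (mem_top (br X x))
    (im_zpowers hx.1 ▸ pgroup_im h2)
  rw [← br_mul hx.1 hx.1] at h1
  exact eq_one_of_br (h.el _ e) (hA e) (eq_one_of_mem_inf b.zb (b.syl.le (br_mem_im e (hA e))) h1)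

theorem bad_trans {u v : G} (hu : u ∈ A) (hv : v ∈ A) (u1 : u ≠ 1) (v1 : v ≠ 1) :
    ∃ n ∈ X ⊓ 𝐍(A), n * u * n⁻¹ = v := by
  obtain ⟨J, b⟩ := h.exists_bj hX hA hg
  obtain ⟨k, hk, e⟩ := b.tr _ (br_mem_im hu (hA hu)) _ (br_mem_im hv (hA hv))
    (br_ne_one (h.el u hu) (hA hu) u1) (br_ne_one (h.el v hv) (hA hv) v1)
  obtain ⟨k, h2, h3, rfl⟩ := mem_im.1 ((norm_im h.el.isPGroup hA).le hk.2)
  exact ⟨k, h2, eq_of_br h.el hA (conj_mem_of_mem_normalizer h2.2 hu) hv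
    ((br_conj h3 (hA hu)).trans e)⟩

theorem bad_two {N : Subgroup G} (h1 : N ≤ X) (h2 : X ≤ 𝐍(N)) {a : G} (ha : a ∈ A) (a1 : a ≠ 1)
    (h3 : ⁅X, zpowers a⁆ ≤ N) : A ≤ N := by
  have := Fact.mk Nat.prime_two
  obtain ⟨J, b⟩ := h.exists_bj hX hA hg
  have aJ := b.syl.le (br_mem_im ha (hA ha))
  have h4 : J ≤ im X N := by
    refine inf_eq_left.1 ((eq_bot_or_eq_of_simple b.simple inf_le_left (H1.le_normalizer_inf
      le_normalizer (le_top.trans (im_self.ge.trans (im_norm h2))))).resolve_left fun e => ?_)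
    refine br_ne_one (h.el a ha) (hA ha) a1 (eq_one_of_mem_inf b.zb aJ (mem_cent.2 fun y hy =>
      commutatorElement_eq_one_iff_mul_comm.1 (eq_one_of_mem_inf e
        (comm_mem_left hy (b.nrm _)) ?_)))
    obtain ⟨z, hz, rfl⟩ := br_surj y
    rw [← br_comm hz (hA ha)]
    have := h3 (commutator_mem_commutator hz (mem_zpowers a))
    exact br_mem_im this (h1 this)
  have h5 := (im_le_im hA h1).1 (b.syl.le.trans h4)
  obtain ⟨P, p1, p2⟩ := IsSylowIn.exists_ge h.el.isPGroup h5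
  have h6 := p2.inf_of_le_normalizer le_sup_right (p2.le.trans ((sup_le (Od_le X) h1).trans h2))
  refine p1.trans ((IsSylowIn.eq_of_le (S := P ⊓ N) (H := Od X ⊔ N) ⟨h6.le.trans le_sup_right,
    h6.isPGroup, ?_⟩ p2.isPGroup inf_le_left p2.le).le.trans inf_le_right)
  rw [← relIndex_mul_relIndex _ _ _ inf_le_right le_sup_right, Nat.prime_two.dvd_mul, not_or,
    relIndex_sup_of_le_normalizer ((Od_le X).trans h2)]
  exact ⟨h6.not_dvd, fun e => (odd_Od X).not_two_dvd_nat (e.trans (relIndex_dvd_card _ _))⟩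

theorem bad_cyc {a b : G} (h4 : Four a b) (ha : a ∈ A) (hb : b ∈ A) {U : Subgroup G}
    (hU : U ≤ X ⊓ 𝐂[a]) (ho : Odd (Nat.card U)) (hi : Inverts b U) (h0 : U ⊓ Od X = ⊥) :
    IsCyclic U := by
  obtain ⟨J, j⟩ := h.exists_bj hX hA hg
  have bJ := j.syl.le (br_mem_im hb (hA hb))
  obtain ⟨k, hk⟩ := j.psl _ (j.syl.le (br_mem_im ha (hA ha))) _ bJ (Four.br h4 (hA ha) (hA hb))
  have hU' := hU.trans inf_le_left
  have h1 : im X U ≤ zpowers k := im_le_iff.2 fun x hx hx' => by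
    have o := odd_orderOf_of_mem (odd_im (X := X) ho) (br_mem_im hx hx')
    exact (hk.mem _).2 ⟨mem_of_inverted o (by rw [← br_conj (hA hb) hx', hi x hx, br_inv hx']) bJ
      (j.nrm _), mem_cent1.1 (br_mem_cent1 hx' (hA ha) (hU hx).2), o⟩
  have := isCyclic_of_le h1
  refine isCyclic_of_injective (((pr X).comp (inclusion hU')).codRestrict (im X U) fun x =>
    (br_of_mem (hU' x.2)) ▸ br_mem_im x.2 (hU' x.2)) ((injective_iff_map_eq_one _).2 fun x hx => ?_)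
  exact Subtype.ext (eq_one_of_mem_inf h0 x.2 ((br_eq_one (hU' x.2)).1
    ((br_of_mem _).trans (congrArg Subtype.val hx))))

theorem bad_ex {a b : G} (h4 : Four a b) (ha : a ∈ A) (hb : b ∈ A) :
    ∃ x ∈ X ⊓ 𝐂[a], x ≠ 1 ∧ Odd (orderOf x) ∧ b * x * b⁻¹ = x⁻¹ := by
  have := Fact.mk Nat.prime_two
  obtain ⟨J, j⟩ := h.exists_bj hX hA hg
  have aJ := j.syl.le (br_mem_im ha (hA ha))
  obtain ⟨k, hk⟩ := j.psl _ aJ _ (j.syl.le (br_mem_im hb (hA hb))) (Four.br h4 (hA ha) (hA hb))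
  have k0 := (hk.mem k).1 (mem_zpowers k)
  have k1 : k ≠ 1 := by
    rintro rfl
    obtain ⟨ε, h1, h2⟩ := hk.index
    obtain ⟨f, h3, h5⟩ := j.l3.card
    have h6 := j.syl.card_le (Q := 𝐂[br X a] ⊓ J) (H5.isPGroup_of_forall_coprime fun x hx e => by
      simpa using (hk.mem x).2 ⟨hx.2, mem_cent1.1 hx.1, Nat.coprime_two_right.1 e⟩) inf_le_right
    have h7 := card_inf_mul_relIndex 𝐂[br X a] J
    rw [card_im h.el hA, h.card] at h6
    have h8 : (𝐂[br X a]).relIndex J ≤ 15 := by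
      rw [orderOf_one] at h2
      rcases h1 with rfl | rfl <;> omega
    have h9 : 3 ^ 3 ≤ 3 ^ (2 * f + 1) := Nat.pow_le_pow_right (by norm_num) (by omega)
    have h10 := Nat.mul_le_mul h9 (Nat.sub_le_sub_right (Nat.pow_le_pow_left h9 2) 1)
    have h11 := Nat.mul_le_mul h6 h8
    omega
  have o : Odd (Nat.card (pre X (zpowers k))) := by
    rw [H5.JB.card_pre, Nat.card_zpowers]; exact k0.2.2.mul (odd_Od X)
  obtain ⟨x, h1, h2, rfl⟩ := mem_im.1 ((cent1_br h4.tt (hA ha)).le (mem_cent1.2 k0.2.1))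
  obtain ⟨i, hi, i1, e⟩ := exists_inverted (X := pre X (zpowers (br X x)) ⊓ 𝐂[a]) h4.ss
    (odd_card_of_le o inf_le_left) (inf_normalizer_le_normalizer_inf ⟨mem_norm_pre (hA hb)
      (inverts_zpowers hk.inv).mem_norm, le_normalizer h4.s_cent⟩) fun e =>
      k1 (eq_one_of_inv_of_comm k0.2.2 hk.inv (mem_cent1.1 (br_mem_cent1 h2 (hA hb)
        (e ⟨mem_pre.2 ⟨h2, mem_zpowers _⟩, h1.2⟩))))
  exact ⟨i, ⟨pre_le _ hi.1, hi.2⟩, i1, odd_orderOf_of_mem o hi.1, e⟩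

end R1

theorem Kk_le (hA : El A) {a : G} (ha : a ∈ A) : Kk A a ≤ Od 𝐂[a] :=
  commutator_le_left_of_le_normalizer ((hA.le_cent1 ha).trans (le_norm_Od _))

theorem Kk_cj {n : G} (hn : n ∈ 𝐍(A)) (a : G) : Kk A (n * a * n⁻¹) = n •ᶜ Kk A a := by
  rw [Kk, Kk, map_commutator, ← Od_conj, cj_cent1, map_conj_eq_of_mem_normalizer hn]

namespace R2
variable (h : R2 S A) {a : G} (ha : a ∈ A) (a1 : a ≠ 1)
include h ha

theorem le_cent1 : S ≤ 𝐂[a] := h.le_cent.trans (cent_le_cent1 ha)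

theorem odd_K : Odd (Nat.card (Kk A a)) := odd_card_of_le (odd_Od _) (Kk_le h.el ha)

theorem K_le : Kk A a ≤ 𝐂[a] := (Kk_le h.el ha).trans (Od_le _)

theorem Od_inf : Od 𝐂[a] ⊓ 𝐂(A) ≤ Od 𝐂(A) := Od_inf_le (cent_le_cent1 ha)

include a1

theorem gdc : Gb A 𝐂[a] := h.gd _ (h.mc.cent1_ne a1) (h.le_cent1 ha)

/-- A proper subgroup containing `C(a)` does not move the involutions of `A`. -/
theorem top_norm {H : Subgroup G} (hH : H ≠ ⊤) (hc : 𝐂[a] ≤ H) : H ⊓ 𝐍(A) ≤ 𝐂(A) := fun n hn => by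
  by_contra h1
  obtain ⟨h4, hV, e⟩ := four_of_fpf h.card hn.2 (h.fpf hn.2 h1) ha (h.el.ord ha a1)
  have key : ∀ x ∈ A, x ≠ 1 → ∃ j ∈ H, j * a * j⁻¹ = x := fun x hx x1 => by
    rcases h4.mem_V.1 (hV.ge hx) with rfl | rfl | rfl | rfl
    · exact absurd rfl x1
    · exact ⟨1, one_mem _, by simp⟩
    · exact ⟨n, hn.1, rfl⟩
    · exact ⟨n * n, mul_mem hn.1 hn.1, by rw [← e]; group⟩
  refine h.nzd H ⟨hH, fun m hm => ?_, fun b hb b1 => ?_⟩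
  · obtain ⟨j, hj, e⟩ := key _ (conj_mem_of_mem_normalizer hm ha) (by simpa using a1)
    have : j⁻¹ * m ∈ 𝐂[a] := mem_cent1.2 (by
      rw [show j⁻¹ * m * a = j⁻¹ * (m * a * m⁻¹) * m by group, ← e]; group)
    simpa using mul_mem hj (hc this)
  · obtain ⟨j, hj, rfl⟩ := key b hb b1
    exact cj_cent1 j a ▸ cj_le_of_norm hc (le_normalizer hj)

theorem top_le {H : Subgroup G} (hH : H ≠ ⊤) (hc : 𝐂[a] ≤ H) : H ≤ Od H ⊔ 𝐂(A) :=
  have h1 := (h.el.le_cent1 ha).trans hc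
  (h.gb_le hH h1 (h.gd H hH ((h.le_cent1 ha).trans hc))).trans
    (sup_le_sup_left (h.top_norm ha a1 hH hc) _)

theorem cj_eq {H : Subgroup G} (hH : IsCoatom H) (hc : 𝐂[a] ≤ H) {n m : G} (hn : n ∈ 𝐍(A))
    (hm : m ∈ 𝐍(A)) (e : n •ᶜ H = m •ᶜ H) : n * a * n⁻¹ = m * a * m⁻¹ := by
  have := h.simple
  have h1 := h.top_norm ha a1 hH.1 hc (mem_inf.2 ⟨norm_le_of_coatom hH (fun e => a1 (mem_bot.1 (e.le (hc
    (U4.self_mem_cent1 a))))) le_rfl le_normalizer (mem_normalizer_of_map_conj_eq (g := m⁻¹ * n)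
      (by rw [← cj_cj, e, map_conj_inv_map_conj])), mul_mem (inv_mem hm) hn⟩)
  rw [show n * a * n⁻¹ = m * (m⁻¹ * n * a) * n⁻¹ by group, ← mem_cent.1 h1 a ha]; group

theorem theta_le {H : Subgroup G} (hH : H ≠ ⊤) (hc : 𝐂[a] ≤ H) : Od 𝐂(A) ≤ Od H := by
  have h1 := (cent_le_cent1 ha).trans hc
  have h2 := (Od_le _).trans h1
  refine le_sup_right.trans (le_Od (sup_le (Od_le H) h2) ((h.top_le ha a1 hH hc).trans (sup_le
    (le_sup_left.trans le_normalizer) (H1.le_normalizer_sup (h1.trans (le_norm_Od H))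
      (le_norm_Od _)))) (LD.odd_sup (h2.trans (le_norm_Od H)) (odd_Od _) (odd_Od H)))

theorem cent1_eq : 𝐂[a] = Kk A a ⊔ 𝐂(A) :=
  le_antisymm ((h.top_le ha a1 (h.mc.cent1_ne a1) le_rfl).trans (sup_le ((comm_sup_cent h.el
    (odd_Od _) ((h.el.le_cent1 ha).trans (le_norm_Od _))).ge.trans
      (sup_le_sup_left inf_le_right _)) le_sup_right)) (sup_le (h.K_le ha) (cent_le_cent1 ha))

theorem norm_K : 𝐂[a] ≤ 𝐍(Kk A a) :=
  (h.cent1_eq ha a1).le.trans (sup_le le_normalizer (le_normalizer_commutator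
    ((cent_le_cent1 ha).trans (le_norm_Od _)) (cent_le_norm A)))

theorem K_ne : Kk A a ≠ ⊥ := fun e =>
  h.nzd 𝐍(A) ⟨h.mc.norm_ne h.sca.ne h.el.solv, le_rfl, fun b hb b1 => by
    obtain ⟨n, hn, rfl⟩ := h.trans ha hb a1 b1
    rw [h.cent1_eq hb b1, Kk_cj hn, e, Subgroup.map_bot, bot_sup_eq]
    exact cent_le_norm A⟩

theorem comm_le_K {U : Subgroup G} (hU : U ≤ 𝐂[a]) (ho : Odd (Nat.card U)) (hn : A ≤ 𝐍(U)) :
    ⁅U, A⁆ ≤ Kk A a := by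
  rw [← comm_comm h.el ho hn]
  exact commutator_mono (h.gb_comm (h.mc.cent1_ne a1) (h.el.le_cent1 ha) (h.gdc ha a1) hU ho hn)
    le_rfl

end R2

end CfsgLib.GO
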