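import Cfsg.Agent.Lib.Gol.R2a

/-!
# Strongly closed four-groups: involutions outside `A`
-/

set_option autoImplicit false

namespace CfsgLib.GO

open Subgroup Cfsg CfsgLib.FT CfsgLib.FT.BGN CfsgLib.Cop CfsgLib.GW CfsgLib.Wal
open CfsgLib.H1 (AbTwo CharIn layerIn genFitIn dSub)
open CfsgLib.FT.U4 (mem_cent1 mem_cent1' mem_cent mem_cent1_comm cent1_conj
  eq_one_of_mem_inf eq_bot_of_forall conj_mem_conj_iff orderOf_conj norm_le_norm_cent)
open scoped commutatorElement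

universe u

variable {G : Type u} [Group G] [Finite G] {S A X : Subgroup G}

theorem R1.theta (h : R1 S A) (hg : ∀ a ∈ A, a ≠ 1 → Gb A 𝐂[a]) (V : Subgroup G) :
    Odd (Nat.card V) → A ≤ 𝐍(V) → ⁅V, A⁆ = V → V ⊓ 𝐂(A) ≤ Od 𝐂(A) := by
  induction V using WellFoundedLT.induction with | ind V ih =>
  intro ho hn hV
  by_cases h0 : V = ⊥
  · exact inf_le_left.trans (h0.le.trans bot_le)
  obtain ⟨x, hx, x1, e⟩ : ∃ x ∈ A, x ≠ 1 ∧ ⁅V, zpowers x⁆ ≠ V := by
    by_contra! e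
    exact (der_lt_of_solvable (solvable_of_odd ho) h0).not_ge (gen_pt h.el h.card.ge ho hn
      fun x hx x1 => cent_zpowers x ▸ inf_centralizer_le_commutator_of_eq
        ((zpowers_le.2 hx).trans hn) ((h.el.mono (zpowers_le.2 hx)).coprime ho) (e x hx x1))
  have x2 := zpowers_le.2 hx
  have eX := h.el.mono x2
  have u1 := commutator_le_left_of_le_normalizer (x2.trans hn)
  have u2 : A ≤ 𝐍(⁅V, zpowers x⁆) := le_normalizer_commutator hn (h.el.le_norm x2)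
  have u3 : V ≤ 𝐍(⁅V, zpowers x⁆) := normalizer_commutator_ge_left _ _
  have c1 : A ≤ 𝐍(V ⊓ 𝐂[x]) := H1.le_normalizer_inf hn ((h.el.le_cent1 hx).trans le_normalizer)
  have y1 := (commutator_le_left_of_le_normalizer c1).trans inf_le_left
  have h1 : V ≤ ⁅V, zpowers x⁆ ⊔ ⁅V ⊓ 𝐂[x], A⁆ := hV.ge.trans (commutator_le.2 fun v hv a ha => by
    obtain ⟨u, hu, c, hc, rfl⟩ := mem_sup_norm (inf_le_left.trans u3)
      ((comm_sup_cent eX ho (x2.trans hn)).ge hv)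
    rw [show ⁅u * c, a⁆ = u * ⁅c, a⁆ * (a * u⁻¹ * a⁻¹) by
      simp only [commutatorElement_def]; group]
    exact mul_mem (mul_mem (mem_sup_left hu) (mem_sup_right (commutator_mem_commutator
      (cent_zpowers x ▸ hc) ha))) (mem_sup_left (conj_mem_of_mem_normalizer (u2 ha) (inv_mem hu))))
  refine (inf_le_inf_right _ h1).trans ((cent_sup_of_cop u2 (normalizer_commutator_ge_right _ _)
    (y1.trans u3) (h.el.coprime (odd_card_of_le ho (inf_le_left.trans u1)))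
    (Or.inl h.el.solv)).le.trans (sup_le (ih _ (lt_of_le_of_ne u1 e) (odd_card_of_le ho u1) u2
      (le_antisymm (commutator_le_left_of_le_normalizer u2) ((comm_comm eX ho
        (x2.trans hn)).ge.trans (commutator_mono le_rfl x2)))) ?_))
  exact (inf_le_inf_right _ (h.gb_comm (h.mc.cent1_ne x1) (h.el.le_cent1 hx) (hg x hx x1)
    inf_le_right (odd_card_of_le ho inf_le_left) c1)).trans (Od_inf_le (cent_le_cent1 hx))

theorem R1.exists_zd (h : R1 S A) {u : G} (hu : u ∈ 𝐂(A)) (u2 : u * u = 1) (h1 : u ∉ A)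
    (hg : ∀ a ∈ A, a ≠ 1 → Gb A 𝐂[a]) (hg' : ∀ a ∈ A, Gb A 𝐂[u * a]) : ∃ M, ZD A M := by
  have hE := h.el.sup (el_zpowers u2) (zpowers_le.2 hu)
  have hc : A ⊔ zpowers u ≤ 𝐂(A) := hE.le_cent' le_rfl le_sup_left
  have h8 : 8 ≤ Nat.card ↥(A ⊔ zpowers u) := eight_le hE (h.card ▸ card_le_of_le le_sup_left)
    fun e => h1 ((eq_of_le_of_card_ge le_sup_left (e.trans h.card.symm).le).ge
      (mem_sup_right (mem_zpowers u)))
  have g : ∀ e ∈ A ⊔ zpowers u, e ≠ 1 → Gb A 𝐂[e] := fun e he e1 => by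
    obtain ⟨a, ha, z, hz, rfl⟩ := hE.mem_sup le_sup_left le_sup_right he
    rcases hE.mem_zp (mem_sup_right (mem_zpowers u)) hz with rfl | rfl
    · exact hg _ (by simpa using ha) e1
    · exact mem_cent.1 hu a ha ▸ hg' a ha
  have n1 : ∀ e ∈ A ⊔ zpowers u, A ⊔ zpowers u ≤ 𝐍(Od 𝐂[e]) := fun e he =>
    (hE.le_cent1 he).trans (le_norm_Od _)
  have k1 : ∀ e ∈ A ⊔ zpowers u, Kk A e ≤ Od 𝐂[e] := fun e he =>
    commutator_le_left_of_le_normalizer (le_sup_left.trans (n1 e he))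
  have k2 : ∀ e, 𝐂(A) ⊓ 𝐂[e] ≤ 𝐍(Kk A e) := fun e => le_normalizer_commutator
    (inf_le_right.trans (le_norm_Od _)) (inf_le_left.trans (cent_le_norm A))
  have k3 : ∀ e, 𝐂(A) ⊓ 𝐂[e] ≤ 𝐍(Od 𝐂(A) ⊓ 𝐂[e]) := fun e => H1.le_normalizer_inf
    (inf_le_left.trans (le_norm_Od _)) (inf_le_right.trans le_normalizer)
  have k4 : ∀ e, Od 𝐂(A) ⊓ 𝐂[e] ≤ 𝐍(Kk A e) := fun e => (inf_le_inf_right _ (Od_le _)).trans (k2 e)
  have n2 : ∀ e ∈ A ⊔ zpowers u, A ⊔ zpowers u ≤ 𝐍(Kk A e ⊔ Od 𝐂(A) ⊓ 𝐂[e]) := fun e he =>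
    (le_inf hc (hE.le_cent1 he)).trans (H1.le_normalizer_sup (k2 e) (k3 e))
  have o : ∀ e ∈ A ⊔ zpowers u, Odd (Nat.card ↥(Kk A e ⊔ Od 𝐂(A) ⊓ 𝐂[e])) := fun e he =>
    LD.odd_sup (k4 e) (odd_card_of_le (odd_Od _) inf_le_left) (odd_card_of_le (odd_Od _) (k1 e he))
  obtain ⟨W, w1, w2, w3, w4⟩ := sig hE h8 (fun e => Kk A e ⊔ Od 𝐂(A) ⊓ 𝐂[e])
    (fun e he _ => sup_le ((k1 e he).trans (Od_le _)) inf_le_right) (fun e he _ => n2 e he)
    (fun e he _ => o e he) fun e he e1 f hf f1 => by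
      have fA := le_sup_left.trans (hE.le_cent1 hf)
      have eA := le_inf h.el.le_cent (le_sup_left.trans (hE.le_cent1 he))
      have a1 := H1.le_normalizer_inf (le_sup_left.trans (n2 e he)) (fA.trans le_normalizer)
      have a2 := odd_card_of_le (o e he) (inf_le_left (b := 𝐂[f]))
      refine (comm_sup_cent h.el a2 a1).ge.trans (sup_le_sup ((comm_comm h.el a2 a1).ge.trans
        (commutator_mono (h.gb_comm (h.mc.cent1_ne f1) fA (g f hf f1) inf_le_right a2 a1) le_rfl))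
        (le_inf ((inf_le_inf_right _ inf_le_left).trans ((cent_sup_of_cop (eA.trans (k2 e))
          (eA.trans (k3 e)) (k4 e) (h.el.coprime (odd_card_of_le (odd_Od _)
            (inf_le_left.trans (k1 e he)))) (Or.inl h.el.solv)).le.trans (sup_le ?_
          (inf_le_left.trans inf_le_left)))) (inf_le_left.trans inf_le_right)))
      exact h.theta hg _ (odd_card_of_le (odd_Od _) (k1 e he)) (eA.trans (k2 e))
        (comm_comm h.el (odd_Od _) (le_sup_left.trans (n1 e he)))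
  have key : ∀ M, M ≠ ⊤ → 𝐍(A) ≤ M → W ≤ M → ZD A M := fun M a b c => ⟨a, b, fun x hx x1 =>
    (h.gb_le (h.mc.cent1_ne x1) (h.el.le_cent1 hx) (hg x hx x1)).trans (sup_le
      ((comm_sup_cent h.el (odd_Od _) (le_sup_left.trans (n1 x (mem_sup_left hx)))).ge.trans
        ((sup_le_sup_left (le_inf (Od_inf_le (cent_le_cent1 hx)) (inf_le_left.trans (Od_le _)))
          _).trans ((w3 x (mem_sup_left hx) x1).trans c))) (inf_le_right.trans b))⟩
  by_cases h0 : W = ⊥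
  · exact ⟨_, key _ (h.mc.norm_ne h.sca.ne h.el.solv) le_rfl (h0.le.trans bot_le)⟩
  refine ⟨_, key _ (h.mc.norm_odd_ne h0 w1) (fun n hn => mem_norm_of_le (cj_le_iff.2
    (gen_pt h.el h.card.ge w1 (le_sup_left.trans w2) fun b hb b1 =>
      (w4 b (mem_sup_left hb) b1).trans (cj_le_iff.1 ?_)))) le_normalizer⟩
  have h2 := conj_mem_of_mem_normalizer hn hb
  refine le_trans ?_ (w3 _ (mem_sup_left h2) (by simpa using b1))
  rw [Subgroup.map_sup, Kk_cj hn, map_conj_inf, cj_cent1,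
    map_conj_eq_of_mem_normalizer (norm_le_norm_Od _ (norm_le_norm_cent _ hn))]

namespace R2
variable (h : R2 S A)
include h

theorem exists_bad {u : G} (hu : u ∈ 𝐂(A)) (u2 : u * u = 1) (h1 : u ∉ A) :
    ∃ a ∈ A, ¬ Gb A 𝐂[u * a] := by
  by_contra! e
  obtain ⟨M, hM⟩ := h.exists_zd hu u2 h1 (fun a ha a1 => h.gdc ha a1) e
  exact h.nzd M hM

/-- `Ω₁(Z(S)) = A`. -/
theorem omega {z : G} (hz : z ∈ S) (hc : z ∈ 𝐂(S)) (z2 : z * z = 1) : z ∈ A := by
  by_contra h1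
  obtain ⟨a, ha, e⟩ := h.exists_bad (h.le_cent hz) z2 h1
  exact e (h.gd _ (h.mc.cent1_ne fun e => h1 (eq_inv_of_mul_eq_one_left e ▸ inv_mem ha))
    (le_cent1_iff.2 (mul_mem hc (le_centralizer_iff.1 h.le_cent ha))))

theorem star {u x : G} (hu : u ∈ 𝐂(A)) (u2 : u * u = 1) (h1 : u ∉ A) (hx : x ∈ 𝐂(A) ⊓ 𝐂[u])
    (h2 : IsPGroup 2 (zpowers x)) (e : x * x ∈ A) : x * x = 1 := by
  obtain ⟨a, ha, g⟩ := h.exists_bad hu u2 h1
  exact h.bad_sq (h.mc.cent1_ne fun e : u * a = 1 => h1 (eq_inv_of_mul_eq_one_left e ▸ inv_mem ha))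
    (le_cent1_iff.2 (mul_mem hu (h.el.le_cent ha))) g ⟨mem_cent1_comm.1 (mul_mem
      (mem_cent1_comm.1 hx.2) (mem_cent1_comm.1 (cent_le_cent1 ha hx.1))), hx.1⟩ h2 e

/-- An `S`-invariant subgroup of even order contains an involution of `A`. -/
theorem exists_mem {N : Subgroup G} (hn : S ≤ 𝐍(N)) (he : ¬ Odd (Nat.card N)) :
    ∃ d ∈ A ⊓ N, d ≠ 1 := by
  have := Fact.mk Nat.prime_two
  obtain ⟨P, p1, p2⟩ := IsSylowIn.exists_ge h.sca.syl.isPGroup (le_sup_right (a := N))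
  obtain rfl := h.sca.syl.eq_of_le p2.isPGroup p1 le_top
  have p3 := p2.inf_of_le_normalizer le_sup_left hn
  obtain ⟨z, hz, z2⟩ := exists_inv_of_not_odd (H := (P ⊓ N) ⊓ 𝐂(P)) fun ho =>
    inf_centralizer_ne_bot_of_isNilpotent p2.isPGroup.isNilpotent inf_le_left
      (H1.le_normalizer_inf le_normalizer hn)
      (p3.ne_bot (even_iff_two_dvd.1 (Nat.not_odd_iff_even.1 he)))
      (eq_bot_of_odd_of_two ho p2.isPGroup (inf_le_left.trans inf_le_left))
  exact ⟨z, ⟨h.omega hz.1.1 hz.2 (mul_self_of_inv z2), hz.1.2⟩, ne_one_of_inv z2⟩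

theorem le_der : A ≤ ⁅𝐂(A), 𝐂(A)⁆ := by
  have n := norm_le_norm_cent A
  have h1 := commutator_mono h.le_cent h.le_cent
  obtain ⟨d, hd, d1⟩ := h.exists_mem (le_normalizer_commutator le_normalizer le_normalizer)
    fun ho => h.nab (comm_eq_bot_iff.1 (eq_bot_of_odd_of_two ho h.sca.syl.isPGroup
      (commutator_le_left_of_le_normalizer le_normalizer)))
  exact inf_eq_left.1 ((h.irr _ inf_le_left (H1.le_normalizer_inf le_rfl
    (le_normalizer_commutator n n))).resolve_left fun e => d1 (eq_one_of_mem_inf e hd.1 (h1 hd.2)))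

end R2

end CfsgLib.GO
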