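import Cfsg.Agent.Lib.Gol.R2b

/-!
# Strongly closed four-groups: `S`-invariant subgroups of odd order
-/

set_option autoImplicit false

namespace CfsgLib.GO

open Subgroup Cfsg CfsgLib.FT CfsgLib.FT.BGN CfsgLib.Cop CfsgLib.GW CfsgLib.Wal
open CfsgLib.H1 (AbTwo CharIn layerIn genFitIn dSub)
open CfsgLib.FT.U4 (mem_cent1 mem_cent1' mem_cent mem_cent1_comm cent1_conj
  eq_one_of_mem_inf eq_bot_of_forall conj_mem_conj_iff orderOf_conj norm_le_norm_cent)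
open scoped commutatorElement

universe u

variable {G : Type u} [Group G] [Finite G] {S A X : Subgroup G}

theorem eq_of_br_two {P : Subgroup G} (hP : IsPGroup 2 P) (h : P ≤ X) {x y : G} (hx : x ∈ P)
    (hy : y ∈ P) (e : br X x = br X y) : x = y := by
  have h1 := mul_mem hx (inv_mem hy)
  refine mul_inv_eq_one.1 (eq_one_of_mem_inf (eq_bot_of_odd_of_two
    (odd_card_of_le (odd_Od X) inf_le_left) hP inf_le_right) ((br_eq_one (h h1)).1 ?_) h1)
  rw [br_mul (h hx) (inv_mem (h hy)), br_inv (h hy), e, mul_inv_cancel]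

theorem sylow_im {P : Subgroup G} (hP : IsSylowIn 2 P X) : IsSylowIn 2 (im X P) ⊤ := by
  have := (hP.subgroupOf le_rfl).map (pr X)
  rwa [show (X.subgroupOf X).map (pr X) = ⊤ from im_self] at this

/-- A subgroup of odd order normalized by a Sylow `2`-subgroup of a Suzuki component. -/
theorem STor.le_cent {L Q K U : Subgroup G} (s : STor X L Q K) (hU : U ≤ X)
    (ho : Odd (Nat.card U)) (hn : Q ≤ 𝐍(U)) : U ≤ 𝐂(L) := by
  have := Fact.mk Nat.prime_two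
  obtain ⟨x, hx, y, hy, x1, y1, xy, xx, yy⟩ := s.two
  have hQ := s.syl.le
  have un : U ≤ 𝐍(L) := fun u hu => by
    rcases (s.tc.cj' (le_normalizer (hU hu))).eq_or s.tc with e | e
    · exact mem_normalizer_of_map_conj_eq e
    have h1 := (map_mono hQ).trans e
    have h2 := eq_one_of_mem_inf (eq_bot_of_odd_of_two (odd_card_of_le ho inf_le_left)
      (isPGroup_sup' (h1.trans ((centralizer_le hQ).trans (cent_le_norm Q))) s.syl.isPGroup
        (s.syl.isPGroup.map _)) inf_le_right) (comm_mem_left hu (hn hx))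
      (mul_mem (mem_sup_right (conj_mem_map_conj hx)) (mem_sup_left (inv_mem hx)))
    exact absurd (mul_inv_eq_one.1 h2 ▸ h1 (conj_mem_map_conj hx)) x1
  have d1 := commutator_le_left_of_le_normalizer hn
  have d2 : ⁅U, Q⁆ ≤ L := commutator_le.2 fun u hu q hq => comm_mem_right (un hu) (hQ hq)
  have d3 : Q ≤ 𝐍(⁅U, Q⁆) := normalizer_commutator_ge_right _ _
  have o := odd_card_of_le ho d1
  have inv : ∀ t ∈ Q, t ∉ 𝐂(L) → t * t ∈ 𝐂(L) → Inverts (bz L t) (iz L ⁅U, Q⁆) := fun t ht a b =>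
    inverts_of_inf_cent ((bz_sq (hQ ht)).2 b) (o.of_dvd_nat ((card_map_dvd _ _).trans
      (Nat.card_congr (subgroupOfEquivOfLe d2).toEquiv).dvd)) (mem_normalizer_of_conj_mem fun z hz => by
        obtain ⟨d, hd, rfl⟩ := (mem_iz d2).1 hz
        exact bz_conj (hQ ht) (d2 hd) ▸ bz_mem d2 (conj_mem_of_mem_normalizer (d3 ht) hd))
      (eq_bot_of_forall fun z hz => by
        obtain ⟨d, hd, rfl⟩ := (mem_iz d2).1 hz.1
        rw [eq_one_of_mem_inf (eq_bot_of_odd_of_two (odd_card_of_le o inf_le_left) s.syl.isPGroup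
          inf_le_right) hd (s.cent t ht a d (d2 hd) ((bz_comm (hQ ht) (d2 hd)).1
            (mem_cent1'.1 hz.2)))]
        exact (bz_eq_one (one_mem _)).2 (one_mem _))
  have hxy := mul_mem hx (inv_mem hy)
  have h3 : ⁅U, Q⁆ = ⊥ := eq_bot_of_odd_of_two o s.syl.isPGroup fun d hd => s.zle ⟨d2 hd, by
    have e := bz_mem d2 hd
    have e1 := inv _ hxy xy (by
      have := mul_mem (mul_mem xx (s.cen x⁻¹ (inv_mem hx) (by simpa using inv_mem xx) y⁻¹
        (inv_mem hy))) (inv_mem yy)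
      convert this using 1
      simp only [commutatorElement_def]; group) _ e
    have e2 := inv y hy y1 yy _ e
    have e3 := inv x hx x1 xx _ e
    rw [bz_mul (hQ hx) (inv_mem (hQ hy)), bz_inv (hQ hy)] at e1
    refine (bz_eq_one (d2 hd)).1 (eq_one_of_odd_of_mul_self ((odd_orderOf_of_mem o hd).of_dvd_nat
      (by rw [bz_of_mem (d2 hd)]; exact (orderOf_map_dvd _ _).trans (orderOf_mk _ _).dvd)) ?_)
    rw [← inv_inj, mul_inv_rev, inv_one]
    nth_rewrite 1 [← e1]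
    have e4 : (bz L y)⁻¹ * bz L d * bz L y = (bz L d)⁻¹ := by
      rw [← inv_inj, inv_inv, mul_inv_rev, mul_inv_rev, inv_inv, ← e2]; group
    calc _ = bz L x * ((bz L y)⁻¹ * bz L d * bz L y) * (bz L x)⁻¹ * (bz L d)⁻¹ := by group
      _ = 1 := by rw [e4, ← conj_inv, e3]; group⟩
  exact fun u hu => s.aut u (un hu) (odd_orderOf_of_mem ho hu) (comm_eq_bot_iff.1 h3 hu)

namespace R2
variable (h : R2 S A)
include h

theorem szT {J : Subgroup (Bar 𝐂(A))} (hJ : TC ⊤ J) : SzT (Zq J) := by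
  have := Fact.mk Nat.prime_two
  have l := h.mc.loc_bar (X := 𝐂(A)) fun e => h.mc.norm_ne h.sca.ne h.el.solv
    (top_le_iff.1 (e ▸ cent_le_norm A))
  refine (l.cases hJ).resolve_right fun h3 => ?_
  have hS := h.sca.syl.isPGroup
  have SC := h.le_cent
  have hP := sylow_im (h.sca.syl.mono SC le_top)
  obtain ⟨K, hK, hsq⟩ := exists_tor_of_not_eight hJ l.od l.s3 (hJ.sylow hP) h3.not_eight_dvd
  have sn := l.two_norm' hJ h3 hP.isPGroup le_top
  have inj := fun x y hx hy => eq_of_br_two hS SC (x := x) (y := y) hx hy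
  have bS : ∀ s ∈ S, br 𝐂(A) s ∈ im 𝐂(A) S := fun s hs => br_mem_im hs (SC hs)
  have dec : ∀ s ∈ S, ∃ l ∈ im 𝐂(A) S ⊓ J, ∀ x ∈ J, ⁅x, br 𝐂(A) s⁆ = ⁅x, l⁆ := fun s hs => by
    obtain ⟨n, hn⟩ := hP.isPGroup ⟨_, bS s hs⟩
    obtain ⟨x, hx, e, -⟩ := hK.dec (mem_top _) (sn (bS s hs)) (H1.le_normalizer_inf le_normalizer sn
      (bS s hs)) (n := n) (by rw [show br 𝐂(A) s ^ 2 ^ n = 1 from congrArg Subtype.val hn]; exact one_mem _)
    refine ⟨x, hx, fun y hy => ?_⟩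
    calc _ = y * x * (x⁻¹ * br 𝐂(A) s * y⁻¹) * (br 𝐂(A) s)⁻¹ := by
          simp only [commutatorElement_def]; group
      _ = _ := by rw [← mem_cent.1 e _ (inv_mem hy)]; simp only [commutatorElement_def]; group
  have cA : ∀ x ∈ im 𝐂(A) S ⊓ J, x * x = 1 → (∀ y ∈ im 𝐂(A) S ⊓ J, ⁅x, y⁆ = 1) →
      ∃ a ∈ A, br 𝐂(A) a = x := fun x hx x2 e => by
    obtain ⟨z, hz, -, rfl⟩ := mem_im.1 hx.1
    refine ⟨z, h.omega hz (mem_cent.2 fun s hs => (commutatorElement_eq_one_iff_mul_comm.1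
      (inj _ _ (comm_mem_left hz (le_normalizer hs)) (one_mem _) ?_)).symm)
      (inj _ _ (mul_mem hz hz) (one_mem _) (by rwa [br_mul (SC hz) (SC hz), br_one])), rfl⟩
    obtain ⟨y, hy, e'⟩ := dec s hs
    rw [br_comm (SC hz) (SC hs), br_one, e' _ hx.2, e y hy]
  have cm : ∀ x ∈ im 𝐂(A) S ⊓ J, ∀ y ∈ im 𝐂(A) S ⊓ J, ⁅x, y⁆ ∈ 𝐂(J) := fun x hx =>
    hK.cen x hx (hsq x hx)
  have z2 : ∀ z ∈ J ⊓ 𝐂(J), z * z = 1 := fun z hz => by
    refine closure_induction (p := fun w _ => w ∈ 𝐂(J) ∧ w ∈ J ∧ w * w = 1) ?_ (by simp) ?_ ?_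
      (center_le_comm hK.syl hJ.perfect (hK.zle hz) hz.2) |>.2.2
    · rintro _ ⟨x, hx, y, hy, rfl⟩
      refine ⟨cm x hx y hy, comm_mem_left hx.2 (le_normalizer hy.2), ?_⟩
      calc ⁅x, y⁆ * ⁅x, y⁆ = x * ⁅x, y⁆ * x⁻¹ * ⁅x, y⁆ := by
            rw [mem_cent.1 (cm x hx y hy) x hx.2, mul_inv_cancel_right]
        _ = x * x * y * (x * x)⁻¹ * y⁻¹ := by simp only [commutatorElement_def]; group
        _ = 1 := by rw [← mem_cent.1 (hsq x hx) y hy.2]; group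
    · rintro a b - - ⟨a1, a2, a3⟩ ⟨b1, b2, b3⟩
      refine ⟨mul_mem a1 b1, mul_mem a2 b2, ?_⟩
      rw [mul_assoc, ← mul_assoc b, mem_cent.1 a1 b b2, mul_assoc, b3, mul_one, a3]
    · rintro a - ⟨a1, a2, a3⟩
      exact ⟨inv_mem a1, inv_mem a2, by rw [← mul_inv_rev, a3, inv_one]⟩
  obtain ⟨x, hx, y, hy, x1, y1, xy, xx, -⟩ := hK.two
  have xz : x * x ∈ J ⊓ 𝐂(J) := ⟨mul_mem hx.2 hx.2, xx⟩
  have eq : ∀ w ∈ im 𝐂(A) S ⊓ J, w ∉ 𝐂(J) → w * w = x * x := fun w hw w1 => by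
    obtain ⟨k, hk, e⟩ := hK.tr x hx w hw x1 w1 xx (hsq w hw)
    have e1 := z2 _ (mem_inf.2 ⟨mul_mem (conj_mem_of_mem_normalizer (hK.norm hk) hx).2
      (inv_mem hw.2), e⟩)
    calc w * w = (k * x * k⁻¹ * w⁻¹) * (k * x * k⁻¹ * w⁻¹) * w * w := by rw [e1, one_mul]
      _ = k * x * k⁻¹ * w⁻¹ * (k * x * k⁻¹ * w⁻¹ * w) * w := by group
      _ = k * (x * x) * k⁻¹ := by rw [← mem_cent.1 e w hw.2]; group
      _ = x * x := by rw [mem_cent.1 xx k (hK.le hk), mul_inv_cancel_right]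
  have sqm : ∀ w ∈ im 𝐂(A) S ⊓ J, w * w ∈ zpowers (x * x) := fun w hw => by
    by_cases e : w ∈ 𝐂(J)
    · rw [z2 w ⟨hw.2, e⟩]; exact one_mem _
    · rw [eq w hw e]; exact mem_zpowers _
  have cmm : ∀ v ∈ im 𝐂(A) S ⊓ J, ∀ w ∈ im 𝐂(A) S ⊓ J, ⁅v, w⁆ ∈ zpowers (x * x) :=
    fun v hv w hw => by
      convert mul_mem (mul_mem (sqm v hv) (sqm _ (mul_mem (inv_mem hv) hw))) (sqm _ (inv_mem hw))
        using 1
      simp only [commutatorElement_def]; group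
  have x2 : x * x ≠ 1 := fun e => by
    obtain ⟨a, ha, rfl⟩ := cA x hx e fun w hw => by simpa [e] using cmm x hx w hw
    exact x1 (centralizer_le le_top (le_centralizer_iff.1 (im_self.ge.trans (im_cent le_rfl))
      (br_mem_im ha (h.el.le_cent ha))))
  obtain ⟨d, hd, e⟩ := cA _ (mul_mem hx hx) (z2 _ xz) fun w hw =>
    commutatorElement_eq_one_iff_mul_comm.2 (mem_cent.1 xx w hw.2).symm
  have dS := h.sca.le hd
  have key : ∀ v ∈ S, br 𝐂(A) v ∈ J → ∀ s ∈ S, ⁅v, s⁆ ∈ zpowers d := fun v hv v1 s hs => by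
    obtain ⟨w, hw, e'⟩ := dec s hs
    have := cmm _ ⟨bS v hv, v1⟩ w hw
    rw [← e' _ v1, ← br_comm (SC hv) (SC hs), ← e, ← im_zpowers (SC dS)] at this
    obtain ⟨z, hz, -, e⟩ := mem_im.1 this
    exact inj _ _ (zpowers_le.2 dS hz) (comm_mem_left hv (le_normalizer hs)) e ▸ hz
  obtain ⟨i, hi, -, rfl⟩ := mem_im.1 hx.1
  obtain ⟨j, hj, -, rfl⟩ := mem_im.1 hy.1
  have ii : i * i = d := inj _ _ (mul_mem hi hi) dS (by rw [e, br_mul (SC hi) (SC hi)])
  have d1 : d ≠ 1 := fun e' => x2 (by rw [← e, e', br_one])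
  obtain ⟨ρ, hρ, -, r⟩ := h.exists_rho
  obtain ⟨h4, -, r3⟩ := four_of_fpf h.card hρ.1 r hd (h.el.ord hd d1)
  have cS := fun s hs => conj_mem_of_mem_normalizer hρ.2 (x := s) hs
  have one : ∀ {a b z : G}, Four a b → z ∈ zpowers a → z⁻¹ ∈ zpowers b → z = 1 := fun f p q => by
    rcases (mem_zpowers_inv f.ot).1 p with rfl | rfl
    · rfl
    · rw [f.ti, mem_zpowers_inv f.os] at q
      exact q.elim id fun q => absurd q f.ne
  have cj : ∀ {a v : G}, (∀ s ∈ S, ⁅v, s⁆ ∈ zpowers a) →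
      ∀ s ∈ S, ⁅ρ * v * ρ⁻¹, s⁆ ∈ zpowers (ρ * a * ρ⁻¹) := fun {a v} p s hs => by
    obtain ⟨n, hn⟩ := p _ (conj_mem_of_mem_normalizer (inv_mem hρ.2) hs)
    exact ⟨n, by simp only [conj_zpow] at hn ⊢; rw [hn]; simp only [commutatorElement_def]; group⟩
  have ki := key i hi hx.2
  have com : ∀ {a b v w : G}, Four a b → v ∈ S → w ∈ S → (∀ s ∈ S, ⁅v, s⁆ ∈ zpowers a) →
      (∀ s ∈ S, ⁅w, s⁆ ∈ zpowers b) → Commute v w := fun f hv hw p q =>
    commutatorElement_eq_one_iff_commute.1 (one f (p _ hw)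
      (by rw [commutatorElement_inv]; exact q _ hv))
  have h5 : Four d (ρ * (ρ * d * ρ⁻¹) * ρ⁻¹) := r3 ▸ h4.mul
  have c1 := com h4 hi (cS i hi) ki (cj ki)
  have c2 := com h5 hi (cS _ (cS i hi)) ki (cj (cj ki))
  have c3 := com (h4.conj ρ) (cS i hi) (cS _ (cS i hi)) (cj ki) (cj (cj ki))
  have uS := mul_mem hi (mul_mem (cS i hi) (cS _ (cS i hi)))
  refine d1 (ii ▸ h.star (SC uS) ?_ (fun e' => ?_) ⟨SC hi, mem_cent1.2 ((Commute.refl i).mul_right
    (c1.mul_right c2))⟩ (hS.to_le (zpowers_le.2 hi)) (ii ▸ hd))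
  · rw [← sq, (c1.mul_right c2).mul_pow, c3.mul_pow, conj_pow, conj_pow, conj_pow, sq, ii, r3,
      ← mul_assoc]
    exact h4.mul_self_of_mem (mul_mem (t_mem_V _ _) (s_mem_V _ _))
  have kj := key j hj hy.2
  have c4 : Commute j i := by
    have := ((show Commute j _ from (mem_cent.1 (SC hj) _ e').symm).mul_right
      ((com h4 hj (cS i hi) kj (cj ki)).mul_right (com h5 hj (cS _ (cS i hi)) kj
        (cj (cj ki)))).inv_right)
    rwa [mul_inv_cancel_right] at this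
  refine x2 ((eq _ (mul_mem hx (inv_mem hy)) xy).symm.trans ?_)
  have c5 : Commute (br 𝐂(A) i) (br 𝐂(A) j)⁻¹ := Commute.inv_right (by
    rw [Commute, SemiconjBy, ← br_mul (SC hi) (SC hj), ← br_mul (SC hj) (SC hi), c4.eq])
  rw [← sq, c5.mul_pow, inv_pow, sq, sq, eq _ hy y1, mul_inv_cancel]

theorem le_theta {U : Subgroup G} (hU : U ≤ 𝐂(A)) (ho : Odd (Nat.card U)) (hn : S ≤ 𝐍(U)) :
    U ≤ Od 𝐂(A) := by
  have := Fact.mk Nat.prime_two
  have l := h.mc.loc_bar (X := 𝐂(A)) fun e => h.mc.norm_ne h.sca.ne h.el.solv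
    (top_le_iff.1 (e ▸ cent_le_norm A))
  have hP := sylow_im (h.sca.syl.mono h.le_cent le_top)
  refine (im_eq_bot hU).1 (l.eq_bot le_top (odd_im ho) (fun J hJ => ?_) (LD.le_cent_of_comm le_rfl
    ((H1.pCoreOf_le_sylow hP).trans (im_norm hn)) le_rfl (le_top.trans (H1.le_normalizer_pCoreOf ⊤))
    (eq_bot_of_odd_of_two (odd_card_of_le (odd_im ho) inf_le_left) (H1.pCoreOf_isPGroup ⊤)
      inf_le_right)))
  obtain ⟨K, s⟩ := exists_stor hJ l.od (hJ.sylow hP) (h.szT hJ)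
  exact s.le_cent le_top (odd_im ho) (inf_le_left.trans (im_norm hn))

theorem le_Od (hX : X ≠ ⊤) (hS : S ≤ X) {U : Subgroup G} (hU : U ≤ X) (ho : Odd (Nat.card U))
    (hn : S ≤ 𝐍(U)) : U ≤ Od X := by
  have hA := h.sca.le.trans hS
  have an := h.sca.le.trans hn
  have n1 : X ⊓ 𝐍(A) ≤ 𝐍(Od 𝐂(A) ⊓ X) := H1.le_normalizer_inf (inf_le_right.trans
    ((norm_le_norm_cent A).trans (norm_le_norm_Od _))) (inf_le_left.trans le_normalizer)
  refine (comm_sup_cent h.el ho an).ge.trans (sup_le (h.gb_comm hX hA (h.gd X hX hS) hU ho an)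
    ((le_inf (h.le_theta inf_le_right (odd_card_of_le ho inf_le_left) (H1.le_normalizer_inf hn
      (h.le_cent.trans le_normalizer))) (inf_le_left.trans hU)).trans (le_sup_right.trans
      (GW.le_Od (sup_le (Od_le X) inf_le_right) ((h.gb_le hX hA (h.gd X hX hS)).trans (sup_le
        (le_sup_left.trans le_normalizer) (H1.le_normalizer_sup (inf_le_left.trans (le_norm_Od X))
          n1))) (LD.odd_sup (inf_le_right.trans (le_norm_Od X))
            (odd_card_of_le (odd_Od _) inf_le_left) (odd_Od X))))))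

theorem robust (hX : X ≠ ⊤) (hS : S ≤ X) {a : G} (ha : a ∈ A) {p : ℕ} (hp : p.Prime) (h2 : p ≠ 2)
    {U : Subgroup G} (hU : IsPGroup p U) (hUX : U ≤ X) (hn : X ⊓ 𝐂[a] ≤ 𝐍(U)) :
    ⁅U, zpowers a⁆ ≤ pCoreOf p X := by
  have := Fact.mk hp
  have a2 := h.el a ha
  have haX := hS (h.sca.le ha)
  have ho := odd_card_of_isPGroup hp h2 hU
  have h4 : zpowers a ≤ 𝐍(U) := zpowers_le.2 (hn ⟨haX, U4.self_mem_cent1 a⟩)
  have h1 := (U4.comm_le_left h4).trans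
    (h.le_Od hX hS hUX ho ((le_inf hS (h.le_cent1 ha)).trans hn))
  have h3 : X ⊓ 𝐂[a] ≤ 𝐍(⁅U, zpowers a⁆) := le_normalizer_commutator hn
    (inf_le_right.trans ((cent_zpowers a).ge.trans (cent_le_norm _)))
  rw [← commutator_commutator_eq h4 ((el_zpowers a2).coprime ho)]
  refine (Sig.commutator_zpowers_le_pCoreOf Nat.prime_two (by rwa [pow_two]) (solvable_Od X)
    (Nat.coprime_two_right.2 (odd_Od X)) (zpowers_le.2 (le_norm_Od X haX))
    (hU.to_le (U4.comm_le_left h4)) h1 (zpowers_le.2 (h3 ⟨haX, U4.self_mem_cent1 a⟩))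
    (le_trans ?_ h3) fun _ _ _ => h2).trans
    (H1.pCoreOf_le_of_le_normalizer (Od_le X) (le_norm_Od X))
  rw [cent_zpowers]
  exact inf_le_inf_right _ (Od_le X)

end R2

end CfsgLib.GO
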