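import Cfsg.Agent.Lib.Gol.R2d2

/-!
# Strongly closed four-groups: `C(a)` is a maximal subgroup

Port of `GW/LocalD, LocalD1` (several primes) and `Wal/ThreeB` (characteristic `p`).
Write `C = C(A) ≥ S`, `c = ab`.  Every proper `X ≥ S` is good (`gd`, `gb_le`, `gb_comm`), every
`S`-invariant odd `U ≤ X` lies in `O(X)` (`le_Od`), `robust` replaces `lemU`/`commutator_le_Od`, a
normal subgroup of even order of `X` contains some `d ∈ A#` (`exists_mem`).
Let `H ≥ C(a)` be maximal, `H ≠ C(a)`, chosen as in `isCoatom_cent` (`Top.choice`).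
`H = O(H) C` (`top_le`); no `d ∈ A#` centralizes `O(H)` (else `H ≤ C(d)`, `|C(d)| = |C(a)|`), so
`O₂(H) = E(H) = 1`, `C_H(F(H)) ≤ F(H)`, and `[P, a] ≠ 1` for some `P = O_p(H)` (`Od_le_cent`),
`p ≥ 5` (`five_le`); `H_d = H^n ≥ C(d)`, `n ∈ N(A)`, are distinct (`two_cent`).
`V = [C_P(b), a] ≠ 1` (rename `b`), `C ≤ N(V)`, `V ≤ O_p(X)` for every proper `X ≥ V S` (`robust`),
in particular for `H`, `H_b` and a maximal `M ≥ N(V)`.  `C1.not_cent` ports verbatim (for `N ≥ S`);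
it shows that no `d ∈ A#` centralizes `O(M)`, so `O₂(M) = E(M) = 1`.
* U0, U1 of `LocalD1` for maximal `M' ≥ F(H) C` only (`F*(M') = F(M')`: an involution `d ∈ A`
  centralizing `O(M') ≥ F(H)` would lie in `F(H)`).
* `H` has characteristic `p`: otherwise `|π(F(H))| ≥ 2`.  For `q ∈ π`, `O_q(M) ≤ H ⊓ H_b`
  (`pc_le_of_ne_bot`); for `q ∉ π`, `O_q(M) ⊓ H = O_q(M) ⊓ H_b = 1` (`pc_inf_eq_bot`), so `a`, `b`
  invert `O_q(M) ≤ C(c) ≤ H_c`.  If all of these are trivial, `Wal.bender` gives `H = M = H_b`.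
  Else let `Q = O_q(M) ≠ 1`, `Z = Z(F(H)) ≤ C(V) ≤ M`.  `[Z, A]` centralizes `Q` and is normalized
  by `F(H) C`, so is trivial by U1.  Hence `Z' = Z(F(H_c)) ≤ C ≤ M` and `[Z', O_q(M)] ≤ Z' ⊓ O_q(M) = 1`
  for `q ∉ π`; `star` gives `M = H_c`, absurd as `O_q(H_c) = 1`.
* Characteristic `p`: `C2.glob`, `exists_ge`, `elim` of `ThreeB` with `S`-invariance in place of
  `A`-invariance (`W ≥ S`; stability by `stableIn_of_kg` for proper subgroups; `exists_card`: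
  an `S`-invariant Sylow subgroup of `O(H^g)`; `exists_norm_cj`; `C(S) ≤ C ≤ H^n`; in `glob` the
  normal closure of even order contains `d ∈ A#` by `exists_mem`).
-/

set_option autoImplicit false

namespace CfsgLib.GO

open Subgroup Cfsg CfsgLib.FT CfsgLib.FT.BGN CfsgLib.Cop CfsgLib.GW CfsgLib.Wal
open CfsgLib.H1 (AbTwo CharIn layerIn genFitIn dSub)
open CfsgLib.FT.U4 (mem_cent1 mem_cent1' mem_cent mem_cent1_comm cent1_conj
  eq_one_of_mem_inf eq_bot_of_forall conj_mem_conj_iff orderOf_conj norm_le_norm_cent)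
open scoped commutatorElement

universe u

variable {G : Type u} [Group G] [Finite G] {S A X : Subgroup G}

theorem R2.coatom (h : R2 S A) {a : G} (ha : a ∈ A) (a1 : a ≠ 1) : IsCoatom 𝐂[a] := by
  by_contra hc
  have key : ∀ H, IsCoatom H → 𝐂[a] ≤ H → NiceD A H := fun H hH hle d hd d1 e => hc (by
    obtain ⟨n, -, rfl⟩ := h.trans ha hd a1 d1
    rwa [eq_of_le_of_card_le hle ((card_le_of_le ((h.top_le ha a1 hH.1 hle).trans
      (sup_le e (cent_le_cent1 hd)))).trans_eq (by rw [cent1_conj, card_map_conj]))])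
  obtain ⟨H, hH⟩ : ∃ H, TpD S A a H := by
    by_cases e : ∃ M, IsCoatom M ∧ 𝐂[a] ≤ M ∧ ∃ q : ℕ, q.Prime ∧ pCoreOf q M ≠ ⊥ ∧
      Inverts a (pCoreOf q M)
    · obtain ⟨M, h1, h2, e⟩ := e
      exact ⟨M, h, ha, a1, h1, h2, key M h1 h2, fun _ _ _ _ _ _ _ => e⟩
    · obtain ⟨M, h1, h2⟩ := LD.exists_max (h.mc.cent1_ne a1)
      exact ⟨M, h, ha, a1, h1, h2, key M h1 h2,
        fun K a b q c d f => absurd ⟨K, a, b, q, c, d, f⟩ e⟩
  obtain ⟨p, _, b, W, k⟩ := hH.exists_cf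
  exact k.elim

end CfsgLib.GO
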