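import Cfsg.Agent.Lib.GOB.Defs
import Cfsg.Agent.Lib.H1Stable
import Cfsg.Agent.Lib.GOA.Real
import Cfsg.Agent.Lib.OrderType
import Cfsg.Agent.Lib.H5SL2Tori

/-!
# Step B1: self-contained auxiliary results
-/

set_option autoImplicit false

namespace CfsgLib.GO

open Subgroup Cfsg CfsgLib.H1 CfsgLib.Cop Module
open scoped commutatorElement MatrixGroups

universe u

/-- All `r`-subgroups are generated by `d` elements. -/
def RkLE (r d : ℕ) (X : Type*) [Group X] [Finite X] : Prop :=
  ∀ Q : Subgroup X, IsPGroup r Q → Group.rank Q ≤ d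

section rk

variable {X Y : Type*} [Group X] [Finite X] [Group Y] [Finite Y] {r d : ℕ}

theorem RkLE.of_surjective [Fact r.Prime] (h : RkLE r d X) (f : X →* Y)
    (hf : Function.Surjective f) : RkLE r d Y := fun Q hQ => by
  obtain ⟨S, -, h1, rfl⟩ := H9.exists_lift_isPGroup f (K := ⊤)
    (by rw [map_top_of_surjective f hf]; exact le_top) hQ
  exact (Group.rank_le_of_surjective _ (f.subgroupMap_surjective S)).trans (h S h1)

theorem RkLE.subgroup (h : RkLE r d X) (K : Subgroup X) : RkLE r d K := fun Q hQ =>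
  (Group.rank_congr (Q.equivMapOfInjective _ K.subtype_injective)).trans_le (h _ (hQ.map _))

theorem RkLE.of_involves [Fact r.Prime] (h : RkLE r d X) (h' : Involves Y X) : RkLE r d Y := by
  obtain ⟨K, f, hf⟩ := involves_iff.1 h'
  exact (h.subgroup K).of_surjective f hf

theorem RkLE.card_dvd [Fact r.Prime] (h : RkLE r d X) {E : Subgroup X}
    (h1 : ∀ x ∈ E, ∀ y ∈ E, x * y = y * x) (h2 : ∀ x ∈ E, x ^ r = 1) : Nat.card E ∣ r ^ d := by
  have h3 := h E fun x => ⟨1, Subtype.ext (by rw [pow_one]; exact h2 x x.2)⟩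
  let _ : CommGroup E := { mul_comm := fun x y => Subtype.ext (h1 x x.2 y y.2) }
  exact (card_dvd_exponent_pow_rank' E fun x => Subtype.ext (h2 x x.2)).trans
    (pow_dvd_pow r h3)

theorem SzT.not_rkLE (h : SzT X) : ¬ RkLE 2 2 X := fun h1 => by
  obtain ⟨H, Q, t, Z, -, -, -, -, F, _, _, m, h2, -, h3, -⟩ := h.data
  have h4 := h1.card_dvd (E := Suz.Q0g Q)
    (fun x hx y hy => Z.toRO.Q0_central Z.rank2 hx (Suz.Q0g_le hy))
    fun x hx => by rw [pow_two]; exact ((Z.toRO.mem_Q0 Z.rank2).1 hx).2
  rw [← Z.card_D, h3, Nat.pow_dvd_pow_iff_le_right one_lt_two] at h4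
  omega

theorem L3T.not_rkLE (h : L3T X) : ¬ RkLE 3 1 X := fun h1 => by
  obtain ⟨F, _, _, f, h2, hF, ⟨e⟩⟩ := h
  have : Fact (Nat.Prime 3) := ⟨Nat.prime_three⟩
  have h3 : (2 : F) ≠ 0 := GW.PA.two_ne_zero_of_card (Or.inl (by
    rw [hF, pow_succ, pow_mul, Nat.mul_mod, Nat.pow_mod]; simp))
  have h5 : CharP F 3 := by
    obtain ⟨n, hp, hn⟩ := FiniteField.card F (ringChar F)
    have h6 : 3 ∣ ringChar F ^ (n : ℕ) := hn ▸ hF ▸ dvd_pow_self 3 (by omega)
    rw [(Nat.prime_dvd_prime_iff_eq Nat.prime_three hp).1 (Nat.prime_three.dvd_of_dvd_pow h6)]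
    infer_instance
  have h4 := (h1.of_surjective e.toMonoidHom e.surjective).card_dvd
    (E := (JR.uni F).map (JR.pr F)) (by
      rintro _ ⟨x, hx, rfl⟩ _ ⟨y, hy, rfl⟩
      obtain ⟨a1, a2, a3⟩ := JR.mem_uni.1 hx
      obtain ⟨b1, b2, b3⟩ := JR.mem_uni.1 hy
      rw [← map_mul, ← map_mul]
      congr 1
      refine SL2_ext ?_ ?_ ?_ ?_ <;> simp [SL2_mul_apply, a1, a2, a3, b1, b2, b3, add_comm]) (by
      rintro _ ⟨x, hx, rfl⟩
      obtain ⟨a1, a2, a3⟩ := JR.mem_uni.1 hx
      rw [← map_pow, SL2_pow_char_eq_one (p := 3) (by rw [a2, a3]; norm_num), map_one])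
  rw [JR.card_map_uni h3, Nat.card_eq_fintype_card, hF,
    Nat.pow_dvd_pow_iff_le_right (by norm_num)] at h4
  omega

end rk

theorem odd_of_rk {X : Type u} [Group X] [Finite X] (hK : KG X) (h2 : RkLE 2 2 X)
    (h3 : RkLE 3 1 X) {p : ℕ} (hp : p.Prime) (h5 : 5 ≤ p) {S : Set X} (hS : closure S = ⊤)
    (hSp : ∀ s ∈ S, ∃ n, s ^ p ^ n = 1) : Odd (Nat.card X) := by
  have : Fact (Nat.Prime 3) := ⟨Nat.prime_three⟩
  have h1 : IsPSolvable 2 X := isPSolvable_iff_piSep.2 <| piSep_of_sections X fun K _ hI hs => by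
    obtain ⟨H, f, hf⟩ := involves_iff.1 hI
    have := Finite.of_surjective f hf
    by_cases hc : IsMulCommutative K
    · have hp : (Nat.card K).Prime := by
        let _ : CommGroup K := { mul_comm := hc.is_comm.comm }
        exact IsSimpleGroup.prime_card
      by_cases h : Nat.card K ∈ ({2} : Set ℕ)
      · exact Or.inl fun q hq hd => by
          rw [card_top] at hd
          rw [(Nat.prime_dvd_prime_iff_eq hq hp).1 hd]; exact h
      · exact Or.inr fun q hq hd => by
          rw [card_top] at hd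
          rw [(Nat.prime_dvd_prime_iff_eq hq hp).1 hd]; exact h
    rcases hK K hI hs hc with h | h
    · exact absurd (h2.of_involves hI) h.not_rkLE
    · exact absurd (h3.of_involves hI) h.not_rkLE
  set f := QuotientGroup.mk' (pPrimeCore 2 X)
  have h4 := centralizer_pCore_le (isPSolvable_quotient h1 (pPrimeCore 2 X))
    (pPrimeCore_quotient_pPrimeCore 2)
  have h6 : pPrimeCore 2 X = ⊤ := by
    rw [eq_top_iff, ← hS, closure_le]
    intro s hs
    obtain ⟨n, hn⟩ := hSp s hs
    obtain ⟨k, -, hk⟩ := (Nat.dvd_prime_pow hp).1 (orderOf_dvd_of_pow_eq_one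
      (show f s ^ p ^ n = 1 by rw [← map_pow, hn, map_one]))
    obtain ⟨j, hj⟩ := pCore_isPGroup 2 ⟨f s, h4 (H4.mem_centralizer_of_rank hp Nat.prime_two
      (by omega) (pCore_isPGroup 2) (h2.of_surjective f (QuotientGroup.mk'_surjective _) _
        (pCore_isPGroup 2)) (fun i h7 h8 h9 => by
          have := Nat.le_of_dvd (by interval_cases i <;> norm_num) h9
          interval_cases i <;> omega) hk (le_normalizer_of_normal (mem_top _)))⟩
    refine (QuotientGroup.eq_one_iff s).1 (orderOf_eq_one_iff.1 (Nat.eq_one_of_dvd_coprimes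
      (Nat.Coprime.pow k j ((Nat.coprime_primes hp Nat.prime_two).2 (by omega))) hk.dvd
      (orderOf_dvd_of_pow_eq_one (congrArg Subtype.val hj))))
  have h7 := pPrimeCore_coprime (G := X) 2
  rw [h6, card_top] at h7
  exact Nat.coprime_two_right.1 h7

section linear

variable {k : Type*} [Field k] {p : ℕ} [hp : Fact p.Prime] [CharP k p]

theorem natCast_ne_zero_of_lt {n : ℕ} (h0 : 0 < n) (h : n < p) : (n : k) ≠ 0 := fun e =>
  (Nat.le_of_dvd h0 ((CharP.cast_eq_zero_iff k p n).1 e)).not_gt h

theorem rkLE_two_of_SL2 (h5 : 5 ≤ p) {X : Type*} [Group X] [Finite X] (σ : X →* SL(2, k))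
    (hσ : Function.Injective σ) : RkLE 2 2 X := fun Q hQ => by
  have h2 : (2 : k) ≠ 0 := by exact_mod_cast natCast_ne_zero_of_lt (p := p) two_pos (by omega)
  have key : ∀ a : Q, orderOf a = 2 → σ a = -1 := fun a ha =>
    SL2_eq_neg_one_of_sq h2 (by
      rw [← map_pow, ← coe_pow, orderOf_dvd_iff_pow_eq_one.1 ha.dvd, coe_one, map_one]) fun e => by
      rw [Subtype.ext (hσ (e.trans (map_one σ).symm) : (a : X) = (1 : Q)), orderOf_one] at ha
      omega
  rcases PGrp.isCyclic_or_quaternion_of_unique_involution hQ fun a b ha hb =>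
    Subtype.ext (hσ ((key a ha).trans (key b hb).symm)) with h | ⟨j, -, ⟨e⟩⟩
  · exact H4.rank_le_one_of_isCyclic.trans one_le_two
  · exact (Group.rank_congr e).trans_le (H4.rank_quaternion_le _)

theorem SL2_trace_of_cube {F : Type*} [Field F] {x : SL(2, F)} (h : x ^ 3 = 1) (h1 : x ≠ 1) :
    x 0 0 + x 1 1 = -1 := by
  by_contra ht
  have h2 : x * x = x⁻¹ := eq_inv_of_mul_eq_one_left (by rw [← h, pow_succ, pow_two])
  have hd := SL2_det x
  have e00 : (x * x) 0 0 = x⁻¹ 0 0 := by rw [h2]
  have e01 : (x * x) 0 1 = x⁻¹ 0 1 := by rw [h2]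
  have e10 : (x * x) 1 0 = x⁻¹ 1 0 := by rw [h2]
  have e11 : (x * x) 1 1 = x⁻¹ 1 1 := by rw [h2]
  rw [SL2_mul_apply] at e00 e01 e10 e11
  rw [SL2_inv_00] at e00
  rw [SL2_inv_01] at e01
  rw [SL2_inv_10] at e10
  rw [SL2_inv_11] at e11
  have h3 : x 0 0 + x 1 1 + 1 ≠ 0 := fun e => ht (by linear_combination e)
  have h4 : x 0 1 = 0 := (mul_eq_zero.1 (show x 0 1 * (x 0 0 + x 1 1 + 1) = 0 by
    linear_combination e01)).resolve_right h3
  have h5 : x 1 0 = 0 := (mul_eq_zero.1 (show x 1 0 * (x 0 0 + x 1 1 + 1) = 0 by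
    linear_combination e10)).resolve_right h3
  rw [h4] at e00 e11 hd
  have h6 : x 0 0 = 1 := sub_eq_zero.1 <| (mul_eq_zero.1
    (show (x 0 0 - 1) * (x 0 0 + x 1 1 + 1) = 0 by
      linear_combination e00 + hd)).resolve_right h3
  have h7 : x 1 1 = 1 := by rw [h6] at hd; linear_combination hd
  exact h1 (SL2_ext (by simpa using h6) (by simpa using h4) (by simpa using h5)
    (by simpa using h7))

theorem rkLE_three_of_SL2 (h5 : 5 ≤ p) {X : Type*} [Group X] [Finite X] (σ : X →* SL(2, k))
    (hσ : Function.Injective σ) : RkLE 3 1 X := fun Q hQ => by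
  have : Fact (Nat.Prime 3) := ⟨Nat.prime_three⟩
  have h3 : (3 : k) ≠ 0 := by exact_mod_cast natCast_ne_zero_of_lt (p := p) three_pos (by omega)
  have key : ∀ a : Q, orderOf a = 3 → σ a 0 0 + σ a 1 1 = -1 := fun a ha =>
    SL2_trace_of_cube (by rw [← map_pow, ← coe_pow, ← ha, pow_orderOf_eq_one, coe_one,
      map_one]) fun e => by
      rw [Subtype.ext (hσ (e.trans (map_one σ).symm) : (a : X) = (1 : Q)), orderOf_one] at ha
      omega
  rcases PGrp.isCyclic_or_quaternion_of_mem_zpowers hQ fun a b ha hb hab => by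
    rcases H5.SL2_eq_or_eq_inv (x := σ a) (y := σ b) (by
      rw [key a ha]; intro e; exact h3 (by linear_combination -e))
      (by rw [← map_mul, ← map_mul, ← coe_mul, hab.eq, coe_mul])
      (by rw [key a ha, key b hb]) with h | h
    · rw [Subtype.ext (hσ h : (b : X) = a)]
      exact mem_zpowers a
    · rw [Subtype.ext (hσ (h.trans (map_inv σ _).symm) : (b : X) = (a⁻¹ : Q))]
      exact inv_mem (mem_zpowers a) with h | ⟨h, -⟩
  · exact H4.rank_le_one_of_isCyclic
  · omega

theorem kg_finrank_two (hp2 : 5 ≤ p) {H : Type u} [Group H] [Finite H] (h2 : KG H)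
    {S : Set H} (hS : closure S = ⊤) (hSp : ∀ s ∈ S, ∃ n, s ^ p ^ n = 1) {U : Type*}
    [AddCommGroup U] [Module k U] (hU : finrank k U = 2) (τ : H →* End k U) {g : H}
    (hg : (orderOf g).Coprime p) : τ g = 1 := by
  set f := QuotientGroup.mk' τ.ker with hf
  have hfs : Function.Surjective f := QuotientGroup.mk'_surjective _
  let τ' : H ⧸ τ.ker →* End k U := QuotientGroup.lift _ τ fun _ h => h
  have hτ' : ∀ x : H ⧸ τ.ker, τ' x = 1 → x = 1 := by
    intro x hx
    obtain ⟨x, rfl⟩ := QuotientGroup.mk_surjective x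
    exact (QuotientGroup.eq_one_iff x).2 hx
  have hgen : ∀ N : Subgroup (H ⧸ τ.ker), (∀ s ∈ S, f s ∈ N) → N = ⊤ := by
    intro N hN
    rw [eq_top_iff, ← map_top_of_surjective f hfs, map_le_iff_le_comap, ← hS, closure_le]
    exact hN
  have hdet : ∀ x : H ⧸ τ.ker, LinearMap.det (τ' x) = 1 := by
    have := hgen (LinearMap.det.comp τ').ker fun s hs => by
      obtain ⟨n, hn⟩ := hSp s hs
      refine eq_one_of_pow_char_pow (p := p) (n := n) ?_
      rw [← map_pow, ← map_pow, hn, map_one, map_one]
    exact fun x => (this.ge (mem_top x) :)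
  have : FiniteDimensional k U := Module.finite_of_finrank_pos (by omega)
  let b := Module.finBasisOfFinrankEq k U hU
  let σ : H ⧸ τ.ker →* SL(2, k) :=
    { toFun := fun x => ⟨LinearMap.toMatrixAlgEquiv b (τ' x), by
        rw [← hdet x]; exact LinearMap.det_toMatrix b (τ' x)⟩
      map_one' := Subtype.ext (by simp)
      map_mul' := fun x y => Subtype.ext (show LinearMap.toMatrixAlgEquiv b (τ' (x * y)) =
        LinearMap.toMatrixAlgEquiv b (τ' x) * LinearMap.toMatrixAlgEquiv b (τ' y) by
          rw [map_mul, map_mul]) }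
  have hσ : Function.Injective σ := (injective_iff_map_eq_one σ).2 fun x hx =>
    hτ' x ((LinearMap.toMatrixAlgEquiv b).injective ((congrArg Subtype.val hx).trans
      (by simp)))
  have hodd : Odd (Nat.card (H ⧸ τ.ker)) := odd_of_rk (h2.quot _)
    (rkLE_two_of_SL2 hp2 σ hσ) (rkLE_three_of_SL2 hp2 σ hσ) hp.out hp2
    (S := f '' S) (by rw [← MonoidHom.map_closure, hS, map_top_of_surjective f hfs]) (by
      rintro _ ⟨s, hs, rfl⟩
      exact (hSp s hs).imp fun n hn => by rw [← map_pow, hn, map_one])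
  refine FT.der1_odd_GL2_charf hodd hU τ' (x := f g) ?_ (H9.natCast_ne_zero_of_coprime k p
    (hg.coprime_dvd_left (orderOf_map_dvd f g)))
  have h3 := hgen ((CommGroup.primaryComponent (Abelianization (H ⧸ τ.ker)) p).comap
    Abelianization.of) fun s hs => by
      obtain ⟨n, hn⟩ := hSp s hs
      exact ⟨n, show Abelianization.of (f s) ^ p ^ n = 1 by
        rw [← map_pow, ← map_pow, hn, map_one, map_one]⟩
  obtain ⟨n, hn⟩ : ∃ n, Abelianization.of (f g) ^ p ^ n = 1 := h3.ge (mem_top (f g))
  have h4 : (orderOf (Abelianization.of (f g))).Coprime (p ^ n) := Nat.Coprime.pow_right _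
    (hg.coprime_dvd_left ((orderOf_map_dvd _ _).trans (orderOf_map_dvd f g)))
  rw [← Abelianization.ker_of]
  exact mem_bot.1 (FrobNPC.mem_of_pow_mem_of_coprime h4 (mem_bot.2 hn))

theorem kg_quadratic_pair.{v} [IsAlgClosed k] (hp2 : 5 ≤ p) {H : Type u} [Group H]
    [Finite H] (h2 : KG H) {a b : H} (hS : closure {a, b} = ⊤) (ha : ∃ n, a ^ p ^ n = 1)
    (hb : ∃ n, b ^ p ^ n = 1) {g : H} (hg : (orderOf g).Coprime p) (n : ℕ) :
    ∀ (W : Type v) [AddCommGroup W] [Module k W] [FiniteDimensional k W] (ρ : H →* End k W),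
      finrank k W = n → (ρ a - 1) * (ρ a - 1) = 0 → (ρ b - 1) * (ρ b - 1) = 0 → ρ g = 1 := by
  induction n using Nat.strong_induction_on with
  | _ n ih =>
  intro W _ _ _ ρ hn hx hy
  rcases subsingleton_or_nontrivial W with hW | hW
  · exact Subsingleton.elim _ _
  set x := ρ a - 1 with hxd
  set y := ρ b - 1 with hyd
  have hxx : ∀ w, x (x w) = 0 := fun w => congrArg (fun T : End k W => T w) hx
  have hyy : ∀ w, y (y w) = 0 := fun w => congrArg (fun T : End k W => T w) hy
  have hρa : ∀ w, ρ a w = w + x w := fun w => by simp [hxd]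
  have hρb : ∀ w, ρ b w = w + y w := fun w => by simp [hyd]
  obtain ⟨c, hc⟩ := Module.End.exists_eigenvalue (x * y + y * x)
  obtain ⟨v, hv⟩ := hc.exists_hasEigenvector
  obtain ⟨w, hw0, hw1, hw2⟩ : ∃ w : W, w ≠ 0 ∧ x w = 0 ∧ x (y w) = c • w := by
    have h1 : x (y v) + y (x v) = c • v := hv.apply_eq_smul
    by_cases h : x v = 0
    · exact ⟨v, hv.2, h, by rwa [h, map_zero, add_zero] at h1⟩
    · refine ⟨x v, h, hxx v, ?_⟩
      have := congrArg x h1
      rwa [map_add, hxx, zero_add, map_smul] at this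
  have hinv : ∀ U : Submodule k W, U ≤ U.comap (ρ a) → U ≤ U.comap (ρ b) →
      ∀ h, U ≤ U.comap (ρ h) := by
    intro U h1 h3 h
    let K : Submonoid H :=
      { carrier := {h | U ≤ U.comap (ρ h)}
        mul_mem' := fun {s t} hs ht u hu => by
          rw [Submodule.mem_comap, H9.rho_mul_apply]
          exact hs (ht hu)
        one_mem' := fun u hu => by simpa using hu }
    have h4 : h ∈ closure ({a, b} : Set H) := hS ▸ mem_top h
    induction h4 using closure_induction with
    | mem s hs => rcases hs with rfl | rfl <;> assumption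
    | one => exact K.one_mem
    | mul s t _ _ hs ht => exact K.mul_mem hs ht
    | inv s _ hs =>
      have h5 : s⁻¹ = s ^ (orderOf s - 1) := by
        rw [inv_eq_iff_mul_eq_one, ← pow_succ', Nat.sub_add_cancel (orderOf_pos s),
          pow_orderOf_eq_one]
      rw [h5]
      exact K.pow_mem hs _
  obtain ⟨U, hU0, hU, hUg⟩ : ∃ U : Submodule k W, U ≠ ⊥ ∧ (∀ h, U ≤ U.comap (ρ h)) ∧
      ∀ u ∈ U, ρ g u = u := by
    by_cases h : y w = 0
    · have hyw := h
      have h1 : ∀ h, ρ h w = w := by
        intro h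
        have h4 : h ∈ closure ({a, b} : Set H) := hS ▸ mem_top h
        induction h4 using closure_induction with
        | mem s hs =>
          rcases hs with rfl | rfl
          · rw [hρa, hw1, add_zero]
          · rw [hρb, hyw, add_zero]
        | one => simp
        | mul s t _ _ hs ht => rw [H9.rho_mul_apply, ht, hs]
        | inv s _ hs =>
          conv_lhs => rw [← hs]
          rw [← H9.rho_mul_apply, inv_mul_cancel, map_one, End.one_apply]
      have h3 : ∀ h, ∀ u ∈ Submodule.span k {w}, ρ h u = u := by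
        intro h u hu
        obtain ⟨d, rfl⟩ := Submodule.mem_span_singleton.1 hu
        rw [map_smul, h1]
      exact ⟨Submodule.span k {w}, by simpa using hw0,
        fun h u hu => by rw [Submodule.mem_comap, h3 h u hu]; exact hu, h3 g⟩
    · set U := Submodule.span k {w, y w} with hUd
      have hwU : w ∈ U := Submodule.subset_span (by simp)
      have hywU : y w ∈ U := Submodule.subset_span (by simp)
      have hU := hinv U (by
          rw [hUd, Submodule.span_le]
          rintro _ (rfl | rfl)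
          · simpa [hρa, hw1] using hwU
          · simpa [hρa, hw2] using U.add_mem hywU (U.smul_mem c hwU))
        (by
          rw [hUd, Submodule.span_le]
          rintro _ (rfl | rfl)
          · simpa [hρb] using U.add_mem hwU hywU
          · simpa [hρb, hyy] using hywU)
      have hli : LinearIndependent k ![w, y w] := by
        rw [LinearIndependent.pair_iff]
        intro s t hst
        have h1 := congrArg y hst
        rw [map_add, map_smul, map_smul, hyy, smul_zero, add_zero, map_zero, smul_eq_zero] at h1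
        have h3 := h1.resolve_right h
        rw [h3, zero_smul, zero_add, smul_eq_zero] at hst
        exact ⟨h3, hst.resolve_right h⟩
      have hfin : finrank k U = 2 := by
        have := finrank_span_eq_card hli
        rwa [Matrix.range_cons, Matrix.range_cons, Matrix.range_empty, Set.union_empty,
          Set.singleton_union] at this
      have h1 := kg_finrank_two hp2 h2 hS (by rintro _ (rfl | rfl) <;> assumption) hfin
        (Representation.subrepresentation ρ U hU) hg
      exact ⟨U, fun h0 => hw0 (by simpa [h0] using hwU), hU, fun u hu =>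
        congrArg (fun T : End k U => (T ⟨u, hu⟩ : W)) h1⟩
  have hq : ∀ (h : H) (w : W), Representation.quotient ρ U hU h (Submodule.Quotient.mk w) =
      Submodule.Quotient.mk (ρ h w) := fun h w => rfl
  have h1 := ih _ (by
      have := Submodule.finrank_quotient_add_finrank U
      have h3 := Submodule.one_le_finrank_iff.2 hU0
      omega) (W ⧸ U) (Representation.quotient ρ U hU) rfl
    (LinearMap.ext fun w => by
      obtain ⟨w, rfl⟩ := Submodule.Quotient.mk_surjective U w
      have : (Representation.quotient ρ U hU a - 1) (Submodule.Quotient.mk w) =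
        Submodule.Quotient.mk (x w) := rfl
      rw [End.mul_apply, this]
      exact congrArg Submodule.Quotient.mk (hxx w))
    (LinearMap.ext fun w => by
      obtain ⟨w, rfl⟩ := Submodule.Quotient.mk_surjective U w
      have : (Representation.quotient ρ U hU b - 1) (Submodule.Quotient.mk w) =
        Submodule.Quotient.mk (y w) := rfl
      rw [End.mul_apply, this]
      exact congrArg Submodule.Quotient.mk (hyy w))
  refine eq_one_of_sq_sub_one (H9.natCast_ne_zero_of_coprime k p hg)
    (by rw [← map_pow, pow_orderOf_eq_one, map_one]) (LinearMap.ext fun w => ?_)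
  have h3 : ρ g w - w ∈ U := by
    rw [← Submodule.Quotient.eq, ← hq, h1]
    rfl
  change ρ g (ρ g w - w) - (ρ g w - w) = 0
  rw [hUg _ h3, sub_self]

end linear

theorem stable_of_kg {p : ℕ} {G : Type u} [Group G] [Finite G] [hp : Fact p.Prime] (hp2 : 5 ≤ p)
    (h2 : KG G) (P : Subgroup G) [P.Normal] (hP : IsPGroup p P) (x : G)
    (hx : ∃ k, x ^ p ^ k = 1) (hq : Quad x P) :
    ∀ g ∈ normalClosure ({x} : Set G), (orderOf g).Coprime p → g ∈ centralizer (P : Set G) := by
  set C := centralizer (P : Set G) with hC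
  set f := QuotientGroup.mk' C with hf
  have h1 : f x ∈ pCore p (G ⧸ C) := by
    refine baer_suzuki fun y => ?_
    obtain ⟨y, rfl⟩ := QuotientGroup.mk'_surjective C y
    set H := closure {x, y * x * y⁻¹} with hH
    have hxH : x ∈ H := subset_closure (by simp)
    have hyH : y * x * y⁻¹ ∈ H := subset_closure (by simp)
    have key : ∀ g ∈ H, (orderOf g).Coprime p → g ∈ C := by
      intro g hg hc
      have hn : ∀ g : G, g ∈ normalizer (P : Set G) := fun g => le_normalizer_of_normal (mem_top g)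
      obtain ⟨W, _, _, _, ρ, ι, S⟩ := H9.exists_secRep p H.subtype P ((frattini P).map P.subtype)
        (map_subtype_le _) (fun g => hn g) (fun g => le_normalizer_frattini le_rfl (hn g))
        (commutator_le_frattini_map hP) fun a ha => pow_mem_frattini_map hP ha
      have h3 : ∀ z : H, Quad (z : G) P → (ρ z - 1) * (ρ z - 1) = 0 := fun z hz => by
        rw [← pow_two]
        exact (S.sub_one_pow_eq_zero_iff z 2).2 fun a ha => by
          have := hz a ha
          simp only [Function.iterate_succ, Function.iterate_zero, Function.comp_apply, id_eq,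
            coe_subtype, this]
          exact one_mem _
      have h4 := kg_quadratic_pair hp2 (h2.subgroup H)
        (a := ⟨x, hxH⟩) (b := ⟨_, hyH⟩) (by
          apply map_injective H.subtype_injective
          rw [MonoidHom.map_closure, ← MonoidHom.range_eq_map, range_subtype, Set.image_pair]
          rfl) (hx.imp fun _ h => Subtype.ext h)
        (hx.imp fun _ h => Subtype.ext (by simp [h])) (g := ⟨g, hg⟩) (by rwa [← orderOf_coe])
        _ W ρ rfl (h3 _ hq) (h3 _ (hq.conj (hn y)))
      have h5 := (S.rho_eq_one_iff _).1 h4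
      have h6 : ⁅P, zpowers g⁆ = ⊥ := by
        refine commutator_eq_bot_of_le_frattini
          (coprime_card_of_isPGroup (by rwa [Nat.card_zpowers]) hP) ?_
        refine (le_centMod_iff.1 (zpowers_le_of_mem ⟨le_normalizer_frattini le_rfl (hn g),
          fun a ha => ?_⟩)).2
        rw [← commutatorElement_inv]
        exact inv_mem (h5 a ha)
      exact commutator_eq_bot_iff_le_centralizer'.1 h6 (mem_zpowers g)
    have h3 : closure {f x, f y * f x * (f y)⁻¹} = H.map f := by
      rw [hH, MonoidHom.map_closure, Set.image_pair, map_mul, map_mul, map_inv]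
    rw [h3]
    rintro ⟨_, g, hg, rfl⟩
    obtain ⟨k, hk⟩ := PRes.exists_pow_pow_coprime hp.out g
    exact ⟨k, Subtype.ext ((QuotientGroup.eq_one_iff _).2 (key _ (pow_mem hg _) hk))⟩
  intro g hg hc
  have h3 : f g ∈ pCore p (G ⧸ C) := normalClosure_le_normal (N := (pCore p (G ⧸ C)).comap f)
    (by rintro _ rfl; exact h1) hg
  obtain ⟨k, hk⟩ := pCore_isPGroup p ⟨_, h3⟩
  exact FrobNPC.mem_of_pow_mem_of_coprime (Nat.Coprime.pow_right k hc)
    ((QuotientGroup.eq_one_iff _).1 (congrArg Subtype.val hk))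

/-- (T2) `S₃`-free groups with known sections are `p`-stable for `p ≥ 5`. -/
theorem stableIn_of_kg {X : Type u} [Group X] [Finite X] {M : Subgroup X} (h3 : S3F M)
    (hK : KG M) {p : ℕ} [Fact p.Prime] (h5 : 5 ≤ p) : StableIn p M :=
  have _ := h3
  stableIn_of_top fun P _ hP x hx hq => stable_of_kg h5 hK P hP x hx hq

end CfsgLib.GO
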