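import Cfsg.Agent.Lib.Gol.R2c
import Cfsg.Agent.Lib.Gol.T2
import Cfsg.Agent.Lib.Wal.Bender
import Cfsg.Agent.Lib.GW.LocalD2

/-!
# Strongly closed four-groups: maximal subgroups containing `C(a)`, Bender's method
-/

set_option autoImplicit false

namespace CfsgLib.GO

open Subgroup Cfsg CfsgLib.FT CfsgLib.FT.BGN CfsgLib.Cop CfsgLib.GW CfsgLib.Wal
open CfsgLib.H1 (AbTwo CharIn layerIn genFitIn dSub)
open CfsgLib.FT.U4 (mem_cent1 mem_cent1' mem_cent mem_cent1_comm cent1_conj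
  eq_one_of_mem_inf eq_bot_of_forall conj_mem_conj_iff orderOf_conj norm_le_norm_cent)
open scoped commutatorElement

universe u

variable {G : Type u} [Group G] [Finite G] {S A X : Subgroup G}

/-- No involution of `A` centralizes `O(X)`. -/
def NiceD (A X : Subgroup G) : Prop := ∀ d ∈ A, d ≠ 1 → ¬ Od X ≤ 𝐂[d]

theorem NiceD.cj (h : NiceD A X) {n : G} (hn : n ∈ 𝐍(A)) : NiceD A (n •ᶜ X) := fun d hd d1 e => by
  have h1 : d = n * (n⁻¹ * d * n⁻¹⁻¹) * n⁻¹ := by group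
  rw [Od_conj, h1, ← cj_cent1, cj_le_cj_iff] at e
  exact h _ (conj_mem_of_mem_normalizer (inv_mem hn) hd) (U4.conj_ne_one_iff.2 d1) e

theorem R2.cop (h : R2 S A) {U : Subgroup G} (ho : Odd (Nat.card U)) :
    (Nat.card S).Coprime (Nat.card U) := by
  obtain ⟨k, hk⟩ := h.sca.syl.isPGroup.exists_card_eq
  rw [hk]
  exact (Nat.coprime_two_left.2 ho).pow_left k

namespace NiceD
variable (h : R2 S A) (hS : S ≤ X) (n : NiceD A X)
include h hS n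

theorem two : pCoreOf 2 X = ⊥ := by
  have := Fact.mk Nat.prime_two
  by_contra h0
  obtain ⟨d, hd, d1⟩ := h.exists_mem (hS.trans (H1.le_normalizer_pCoreOf (p := 2) X)) fun ho =>
    h0 (eq_bot_of_odd_of_two ho (H1.pCoreOf_isPGroup X) le_rfl)
  exact n d (mem_inf.1 hd).1 d1 ((LD.le_cent_of_comm le_rfl ((H1.pCoreOf_le X).trans (le_norm_Od X))
    le_rfl ((Od_le X).trans (H1.le_normalizer_pCoreOf X))
    (Od_inf_eq_bot (H1.pCoreOf_isPGroup X))).trans (cent_le_cent1 (mem_inf.1 hd).2))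

theorem layer : layerIn X = ⊥ := by
  by_contra h0
  obtain ⟨d, hd, d1⟩ := h.exists_mem ((hS.trans le_normalizer).trans
    (H1.normalizer_le_normalizer_layerIn X)) fun ho => h0 (le_bot_iff.1 (H1.layerIn_le_iff.2
      fun J a b => absurd (solvable_of_odd (odd_card_of_le ho (H1.le_layerIn a b)))
        (TC.not_solv ⟨a, b⟩)))
  exact n d (mem_inf.1 hd).1 d1 ((le_centralizer_iff.1 (H1.layerIn_le_iff.2 fun J a b =>
    le_centralizer_iff.1 (TC.Od_le ⟨a, b⟩))).trans (cent_le_cent1 (mem_inf.1 hd).2))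

theorem not_tc (J : Subgroup G) : ¬ TC X J := fun hJ =>
  hJ.not_solv (by
    rw [le_bot_iff.1 ((H1.le_layerIn hJ.1 hJ.2).trans (n.layer h hS).le)]
    infer_instance)

theorem fitC : X ⊓ 𝐂(fittingOf X) ≤ fittingOf X := H1.inf_centralizer_fittingOf_le (n.layer h hS)

theorem not_cent {d : G} (hd : d ∈ A) (d1 : d ≠ 1) : ¬ fittingOf X ≤ 𝐂[d] := fun e => by
  have := Fact.mk Nat.prime_two
  exact d1 (mem_bot.1 ((LD.eq_bot_of_cent_fit (n.fitC h hS) (n.two h hS)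
    (el_zpowers (h.el d hd)).isPGroup (zpowers_le.2 (hS (h.sca.le hd)))
    (zpowers_le.2 (le_cent1_iff.1 e))).le (mem_zpowers d)))

theorem odd (p : ℕ) [hp : Fact p.Prime] : Odd (Nat.card (pCoreOf p X)) := by
  by_cases e : p = 2
  · rw [e, n.two h hS, card_bot]; exact odd_one
  · exact odd_card_of_isPGroup hp.1 e (H1.pCoreOf_isPGroup X)

theorem of_fit {M : Subgroup G} (hM : M ≠ ⊤) (hSM : S ≤ M) (hF : fittingOf X ≤ M) :
    NiceD A M := fun d hd d1 e =>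
  n.not_cent h hS hd d1 ((H1.fittingOf_le_of_forall fun q _ => h.le_Od hM hSM
    ((H1.pCoreOf_le_fittingOf q X).trans hF) (n.odd h hS q)
    (hS.trans (H1.le_normalizer_pCoreOf X))).trans e)

end NiceD

/-- A well-chosen maximal subgroup properly containing `C(a)`. -/
structure TpD (S A : Subgroup G) (a : G) (H : Subgroup G) : Prop where
  r : R2 S A
  mem : a ∈ A
  ne : a ≠ 1
  max : IsCoatom H
  le : 𝐂[a] ≤ H
  nice : NiceD A H
  choice : ∀ M, IsCoatom M → 𝐂[a] ≤ M → ∀ q : ℕ, q.Prime → pCoreOf q M ≠ ⊥ →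
    Inverts a (pCoreOf q M) → ∃ r : ℕ, r.Prime ∧ pCoreOf r H ≠ ⊥ ∧ Inverts a (pCoreOf r H)

namespace TpD
variable {a : G} {H : Subgroup G} (h : TpD S A a H)
include h

theorem cj {g : G} (hg : g ∈ 𝐍(A)) : TpD S A (g * a * g⁻¹) (g •ᶜ H) := by
  refine ⟨h.r, conj_mem_of_mem_normalizer hg h.mem, U4.conj_ne_one_iff.2 h.ne,
    isCoatom_map_conj h.max g, cj_cent1 g a ▸ map_mono h.le, h.nice.cj hg,
    fun M hM hle q hq h0 hi => ?_⟩
  have := LD.inverts_cj hi g⁻¹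
  rw [← H1.pCoreOf_map_conj, show g⁻¹ * (g * a * g⁻¹) * g⁻¹⁻¹ = a by group] at this
  obtain ⟨r, hr, h1, h2⟩ := h.choice (g⁻¹ •ᶜ M) (isCoatom_map_conj hM _)
    (by rwa [← cj_cent1, cj_le_iff] at hle) q hq
    (by rwa [H1.pCoreOf_map_conj, Ne, cj_eq_bot_iff]) this
  exact ⟨r, hr, by rwa [H1.pCoreOf_map_conj, Ne, cj_eq_bot_iff],
    H1.pCoreOf_map_conj H g ▸ LD.inverts_cj h2 g⟩

theorem Sc : S ≤ 𝐂[a] := h.r.le_cent1 h.mem

theorem SH : S ≤ H := h.Sc.trans h.le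

theorem aa : a * a = 1 := h.r.el a h.mem

theorem ot : orderOf a = 2 := inv_of_mul_self h.aa h.ne

theorem aS : a ∈ S := h.r.sca.le h.mem

theorem odd (p : ℕ) [Fact p.Prime] : Odd (Nat.card (pCoreOf p H)) := h.nice.odd h.r h.SH p

theorem fitC : H ⊓ 𝐂(fittingOf H) ≤ fittingOf H := h.nice.fitC h.r h.SH

theorem not_cent : ¬ fittingOf H ≤ 𝐂[a] := h.nice.not_cent h.r h.SH h.mem h.ne

theorem norm_le {M Y : Subgroup G} (hM : IsCoatom M) (h0 : Y ≠ ⊥) (h1 : Y ≤ M) (h2 : M ≤ 𝐍(Y)) :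
    𝐍(Y) ≤ M :=
  haveI := h.r.simple
  norm_le_of_coatom hM h0 h1 h2

theorem norm_pc {M : Subgroup G} (hM : IsCoatom M) {q : ℕ} (h0 : pCoreOf q M ≠ ⊥) :
    𝐍(pCoreOf q M) ≤ M := h.norm_le hM h0 (H1.pCoreOf_le M) (H1.le_normalizer_pCoreOf M)

theorem cent_le' {p : ℕ} [Fact p.Prime] (hp : pCoreOf p H ≠ ⊥) {M : Subgroup G}
    (h3 : LD.Zp p H ≤ M) : 𝐂(pCoreOf p H ⊓ M) ≤ H :=
  haveI := h.r.simple
  cent_le_of_Zp h.max hp (le_inf inf_le_left h3)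

theorem ne_top {Y : Subgroup G} (h0 : Y ≠ ⊥) (h1 : Y ≤ H) : 𝐍(Y) ≠ ⊤ :=
  haveI := h.r.simple
  norm_ne_top h0 fun e => h.max.1 (top_le_iff.1 (e ▸ h1))

omit h in
theorem pc_le (h2 : LD.Two H) {M : Subgroup G}
    (hC : ∀ (p : ℕ) [Fact p.Prime], pCoreOf p H ≠ ⊥ → 𝐂(pCoreOf p H ⊓ M) ≤ H)
    {q : ℕ} [Fact q.Prime] (hq : pCoreOf q H ≠ ⊥) : pCoreOf q M ≤ H :=
  let ⟨p, _, hp, h0⟩ := h2 q
  (LD.L1 hp (hC q hq)).trans (hC p h0)

theorem exists_inv (h2 : LD.Two H) {M : Subgroup G} (hM : IsCoatom M) (hF : fittingOf H ≤ M)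
    (hS : S ≤ M) (hne : M ≠ H) : ∃ (q : ℕ) (_ : Fact q.Prime), pCoreOf q M ≠ ⊥ ∧
      pCoreOf q M ⊓ H = ⊥ ∧ Inverts a (pCoreOf q M) := by
  by_contra hc
  push Not at hc
  obtain ⟨r, hr, e, -⟩ := H1.bender_fitting hne.symm hF (H1.fittingOf_le_of_forall fun q _ => by
      by_cases hq : pCoreOf q H = ⊥
      · have h3 := LD.L2 h.fitC (inf_le_left.trans hF) hq
        by_contra h4
        exact hc q ‹_› (fun e => h4 (e.le.trans bot_le)) h3 (LD.inverts_pc h.ot (hS h.aS)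
          (le_bot_iff.1 (h3 ▸ inf_le_inf_left _ h.le))).1
      · exact pc_le h2 (fun p _ hp => h.cent_le' hp
          (inf_le_left.trans ((H1.pCoreOf_le_fittingOf p H).trans hF))) hq) h.fitC
    ((h.nice.of_fit h.r h.SH hM.1 hS hF).fitC h.r hS)
    (fun q _ hq => inf_le_right.trans (h.norm_pc h.max hq))
    fun q _ hq => inf_le_right.trans (h.norm_pc hM hq)
  obtain ⟨q, _, h3, h4⟩ := h2 r
  have := Fact.mk hr
  exact h4 (le_bot_iff.1 (LD.pc_inf h3 H H ▸ le_inf le_rfl (e ▸ H1.pCoreOf_le_fittingOf q H)))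

theorem U0 (h2 : LD.Two H) {M : Subgroup G} (hM : IsCoatom M) (hF : fittingOf H ≤ M)
    (ht : 𝐂[a] ≤ M) : M = H := by
  by_contra hne
  obtain ⟨q, hq, h0, h1, h3⟩ := h.exists_inv h2 hM hF (h.Sc.trans ht) hne
  obtain ⟨r, hr, h4, h5⟩ := h.choice M hM ht q hq.1 h0 h3
  have := Fact.mk hr
  exact h0 (le_bot_iff.1 (h1 ▸ le_inf le_rfl ((le_centralizer_comm ((LD.le_comm_of_inverts h5
    (h.odd r)).trans (h3.commutator_le_cent h.aa
      (((H1.pCoreOf_le_fittingOf r H).trans hF).trans (H1.le_normalizer_pCoreOf M))))).trans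
    ((cent_le_norm _).trans (h.norm_pc h.max h4)))))

theorem U1 (h2 : LD.Two H) {M : Subgroup G} (hM : IsCoatom M) (hF : fittingOf H ≤ M)
    (hS : S ≤ M) : M = H := by
  by_contra hne
  obtain ⟨q, hq, h0, h1, h3⟩ := h.exists_inv h2 hM hF hS hne
  obtain ⟨K, hK, h4⟩ := LD.exists_max (h.ne_top (Y := ⁅fittingOf H, zpowers a⁆)
    (fun e => h.not_cent (U4.cent_zpowers a ▸ comm_eq_bot_iff.1 e))
    ((commutator_le_left_of_le_normalizer (zpowers_le_of_mem (le_norm_fittingOf H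
      (h.SH h.aS)))).trans (fittingOf_le H)))
  rw [h.U0 h2 hK ((normalizer_commutator_ge_left _ _).trans h4) ((le_normalizer_commutator
    (h.le.trans (le_norm_fittingOf H)) (U4.cent_zpowers a ▸ cent_le_norm _)).trans h4)] at h4
  exact h0 (le_bot_iff.1 (h1 ▸ le_inf le_rfl ((le_centralizer_comm (h3.commutator_le_cent
    h.aa (hF.trans (H1.le_normalizer_pCoreOf M)))).trans ((cent_le_norm _).trans h4))))

theorem U1' (h2 : LD.Two H) {Y : Subgroup G} (h0 : Y ≠ ⊥) (h1 : Y ≤ H) (hF : fittingOf H ≤ 𝐍(Y))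
    (hS : S ≤ 𝐍(Y)) : 𝐂(Y) ≤ H := by
  obtain ⟨K, hK, h4⟩ := LD.exists_max (h.ne_top h0 h1)
  exact (cent_le_norm Y).trans (h.U1 h2 hK (hF.trans h4) (hS.trans h4) ▸ h4)

theorem star (h2 : LD.Two H) {M : Subgroup G} (hM : IsCoatom M) (hS : S ≤ M)
    (hC : M ⊓ 𝐂(fittingOf M) ≤ fittingOf M) (hF : fittingOf M ≤ H)
    (hW : ∀ (r : ℕ) [Fact r.Prime], pCoreOf r H ≠ ⊥ → ∃ W, W ≠ ⊥ ∧ W ≤ pCoreOf r H ⊓ M ∧
      ∀ (q : ℕ) [Fact q.Prime], q ≠ r → W ≤ 𝐂(pCoreOf q M)) : M = H := by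
  have h1 : ∀ (r : ℕ) [Fact r.Prime], pCoreOf r H ≠ ⊥ → 𝐂(pCoreOf r M ⊓ H) ≤ M := fun r _ hr => by
    obtain ⟨W, w0, w1, w2⟩ := hW r hr
    have h3 : pCoreOf r M ≠ ⊥ := fun e => w0 (LD.eq_bot_of_cent_fit hC e
      ((H1.pCoreOf_isPGroup H).to_le (w1.trans inf_le_left)) (w1.trans inf_le_right)
      (LD.le_cent_fit fun q _ => by
        by_cases e' : q = r
        · subst e'; rw [e, cent_bot]; exact le_top
        · exact w2 q e'))
    rw [inf_eq_left.2 ((H1.pCoreOf_le_fittingOf r M).trans hF)]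
    exact (cent_le_norm _).trans (h.norm_pc hM h3)
  refine h.U1 h2 hM (H1.fittingOf_le_of_forall fun q _ => ?_) hS
  by_cases hq : pCoreOf q H = ⊥
  · exact hq.le.trans bot_le
  obtain ⟨p, _, hp, h0⟩ := h2 q
  exact (LD.L1 hp (h1 q hq)).trans (h1 p h0)

variable {p : ℕ} [hp : Fact p.Prime] (nc : ¬ pCoreOf p H ≤ 𝐂[a])
include nc

omit hp in
theorem p2 : p ≠ 2 := fun e => nc (by rw [e, h.nice.two h.r h.SH]; exact bot_le)

theorem robust (hX : X ≠ ⊤) (hS : S ≤ X) : ⁅pCoreOf p H ⊓ X, zpowers a⁆ ≤ pCoreOf p X :=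
  h.r.robust hX hS h.mem hp.1 (h.p2 nc) ((H1.pCoreOf_isPGroup H).to_le inf_le_left) inf_le_right
    (H1.le_normalizer_inf ((inf_le_right.trans h.le).trans (H1.le_normalizer_pCoreOf H))
      (inf_le_left.trans le_normalizer))

theorem not_cent1 {V N : Subgroup G} (hV : IsPGroup p V) (h1 : V ≤ 𝐂[a]) (hN : N ≠ ⊤)
    (hS : S ≤ N) (h2 : 𝐂(V) ≤ N) : ¬ pCoreOf p N ≤ 𝐂[a] := fun h3 => by
  have aP := H1.le_normalizer_pCoreOf (p := p) H (h.SH h.aS)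
  exact nc (pxq1 (h.p2 nc) h.aa hV (H1.pCoreOf_isPGroup H)
    ((h1.trans h.le).trans (H1.le_normalizer_pCoreOf H)) aP h1
    ((inf_le_inf_left _ h2).trans (le_cent1_of_comm_comm h.aa
      (odd_card_of_le (h.odd p) inf_le_left)
      (H1.le_normalizer_inf (zpowers_le.2 aP) (zpowers_le.2 (le_normalizer (hS h.aS)))
        (mem_zpowers a)) ((h.robust nc hN hS).trans h3))))

omit hp in
theorem exists_at {x : G} (hx : x ∈ A) (x1 : x ≠ 1) :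
    ∃ n ∈ 𝐍(A), TpD S A x (n •ᶜ H) ∧ ¬ pCoreOf p (n •ᶜ H) ≤ 𝐂[x] := by
  obtain ⟨n, hn, rfl⟩ := h.r.trans h.mem hx h.ne x1
  exact ⟨n, hn, h.cj hn, by rwa [H1.pCoreOf_map_conj, ← cj_cent1, cj_le_cj_iff]⟩

theorem not_cent' {V N : Subgroup G} {d : G} (hd : d ∈ A) (d1 : d ≠ 1) (hV : IsPGroup p V)
    (h1 : V ≤ 𝐂[d]) (hN : N ≠ ⊤) (hS : S ≤ N) (h2 : 𝐂(V) ≤ N) : ¬ pCoreOf p N ≤ 𝐂[d] :=
  let ⟨_, _, k, nc'⟩ := h.exists_at nc hd d1; k.not_cent1 nc' hV h1 hN hS h2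

end TpD

end CfsgLib.GO
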