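import Cfsg.Agent.Lib.Gol.R2d1

/-!
# Strongly closed four-groups: the configuration `V = [C_P(b), a]`
-/

set_option autoImplicit false

namespace CfsgLib.GO

open Subgroup Cfsg CfsgLib.FT CfsgLib.FT.BGN CfsgLib.Cop CfsgLib.GW CfsgLib.Wal
open CfsgLib.H1 (AbTwo CharIn layerIn genFitIn dSub)
open CfsgLib.FT.U4 (mem_cent1 mem_cent1' mem_cent mem_cent1_comm cent1_conj
  eq_one_of_mem_inf eq_bot_of_forall conj_mem_conj_iff orderOf_conj norm_le_norm_cent)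
open scoped commutatorElement

universe u

variable {G : Type u} [Group G] [Finite G] {S A X : Subgroup G}

/-- The configuration `W = [C_P(b), a] ≠ 1`. -/
structure CfD (S A : Subgroup G) (a b : G) (H W : Subgroup G) (p : ℕ) : Prop
    extends TpD S A a H where
  nc : ¬ pCoreOf p H ≤ 𝐂[a]
  bA : b ∈ A
  four : Four a b
  Wne : W ≠ ⊥
  Wle : W ≤ pCoreOf p H
  cent : W ≤ 𝐂[b]
  comm : ⁅W, zpowers a⁆ = W
  norm : 𝐂(A) ≤ 𝐍(W)

theorem TpD.exists_cf {a : G} {H : Subgroup G} (h : TpD S A a H) :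
    ∃ (p : ℕ) (_ : Fact p.Prime) (b : G) (W : Subgroup G), CfD S A a b H W p := by
  obtain ⟨p, hp, nc⟩ : ∃ (p : ℕ) (_ : Fact p.Prime), ¬ pCoreOf p H ≤ 𝐂[a] := by
    by_contra hc
    push Not at hc
    exact h.not_cent (H1.fittingOf_le_of_forall fun p _ => hc p ‹_›)
  have hC := (cent_le_cent1 h.mem).trans (h.le.trans (H1.le_normalizer_pCoreOf (p := p) H))
  obtain ⟨b, hb, b1, e⟩ : ∃ b ∈ A, b ≠ 1 ∧ ¬ pCoreOf p H ⊓ 𝐂[b] ≤ 𝐂[a] := by
    by_contra hc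
    push Not at hc
    exact nc (gen_pt h.r.el h.r.card.ge (h.odd p) (h.r.el.le_cent.trans hC) hc)
  have n := H1.le_normalizer_inf hC ((cent_le_cent1 hb).trans le_normalizer)
  have ha : zpowers a ≤ 𝐂(A) := (zpowers_le.2 h.mem).trans h.r.el.le_cent
  exact ⟨p, hp, b, _, h, nc, hb, h.r.four h.mem hb h.ne b1 fun e' => e (e' ▸ inf_le_right),
    fun e' => e (U4.cent_zpowers a ▸ comm_eq_bot_iff.1 e'),
    (commutator_le_left_of_le_normalizer (ha.trans n)).trans inf_le_left,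
    (commutator_le_left_of_le_normalizer (ha.trans n)).trans inf_le_right,
    comm_comm (el_zpowers h.aa) (odd_card_of_le (h.odd p) inf_le_left) (ha.trans n),
    le_normalizer_commutator n (norm_zp (cent_le_cent1 h.mem))⟩

namespace CfD
variable {a b : G} {H W : Subgroup G} {p : ℕ} [hp : Fact p.Prime] (h : CfD S A a b H W p)
include h

omit hp in
theorem Wp : IsPGroup p W := (H1.pCoreOf_isPGroup H).to_le h.Wle

omit hp in
theorem nS : S ≤ 𝐍(W) := h.r.le_cent.trans h.norm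

theorem le_pc (hX : X ≠ ⊤) (hS : S ≤ X) (hW : W ≤ X) : W ≤ pCoreOf p X :=
  h.comm ▸ (commutator_mono (le_inf h.Wle hW) le_rfl).trans (h.robust h.nc hX hS)

omit hp in
theorem exists_b : ∃ n ∈ 𝐍(A), TpD S A b (n •ᶜ H) ∧ n •ᶜ H ≠ H := by
  obtain ⟨n, hn, e⟩ := h.r.trans h.mem h.bA h.ne h.four.s1
  refine ⟨n, hn, e ▸ h.cj hn, fun e' => h.four.ne ?_⟩
  have := h.r.cj_eq h.mem h.ne h.max h.le hn (one_mem _) (by rwa [map_conj_one])
  rw [e, one_mul, inv_one, mul_one] at this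
  exact this.symm

theorem charIn : CharIn p H := by
  by_contra hc
  have := h.r.simple
  have h4 := h.four
  have pne : pCoreOf p H ≠ ⊥ := fun e => h.nc (e.le.trans bot_le)
  have h2 : LD.Two H := fun q => by
    by_cases e : p = q
    · subst e
      by_contra e
      refine hc (Fc.charIn (U := ⊥) ⟨fun J hJ => absurd hJ (h.nice.not_tc h.r h.SH J),
        fun r _ hr => ?_⟩ IsPGroup.of_bot)
      by_contra e'
      exact e ⟨r, ‹_›, hr, fun e'' => e' e''.le⟩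
    · exact ⟨p, hp, e, pne⟩
  obtain ⟨M, m1, m2⟩ := LD.exists_max (h.ne_top h.Wne (h.Wle.trans (H1.pCoreOf_le H)))
  have hS := h.nS.trans m2
  have hWM := le_normalizer.trans m2
  have v1 := h.le_pc m1.1 hS hWM
  have v2 := (cent_le_norm W).trans m2
  have nM : NiceD A M := fun d hd d1 e => by
    have e' := (pCoreOf_le_Od hp.1 (h.p2 h.nc) M).trans e
    exact h.not_cent' h.nc hd d1 h.Wp (v1.trans e') m1.1 hS v2 e'
  obtain ⟨d, -, hK, hne⟩ := h.exists_b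
  obtain ⟨e, he, hL, -⟩ := h.exists_at h.nc (mul_mem h.mem h.bA) h4.ts1
  have pi : ∀ (g : G) (q : ℕ), pCoreOf q (g •ᶜ H) = ⊥ ↔ pCoreOf q H = ⊥ := fun g q => by
    rw [H1.pCoreOf_map_conj, cj_eq_bot_iff]
  have t3 : LD.Two (e •ᶜ H) := fun q =>
    let ⟨r, hr, x, y⟩ := h2 q
    ⟨r, hr, x, fun z => y ((pi e r).1 z)⟩
  have pd := pi d
  have pe := pi e
  have hZe : fittingOf H ⊓ 𝐂(fittingOf H) ≤ 𝐂(A) →
      fittingOf (e •ᶜ H) ⊓ 𝐂(fittingOf (e •ᶜ H)) ≤ 𝐂(A) := fun hz => by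
    rw [U4.fit_conj, centralizer_map_conj, ← map_conj_inf]
    exact cj_le_of_norm hz (norm_le_norm_cent A he)
  have ncK : ¬ CharIn p (d •ᶜ H) := fun x => hc (map_conj_inv_map_conj d H ▸ x.map_conj d⁻¹)
  generalize d •ᶜ H = K at *
  generalize e •ᶜ H = L at *
  clear pi
  have wK : W ≤ pCoreOf p K := h.le_pc hK.max.1 hK.SH (h.cent.trans hK.le)
  have q1 : ∀ (q : ℕ) [Fact q.Prime], pCoreOf q H = ⊥ → pCoreOf q M ⊓ H = ⊥ := fun q _ hq =>
    pc_inf_eq_bot h.Wle hWM v2 (fun x => pne (x ▸ hq)) hq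
  have q2 : ∀ (q : ℕ) [Fact q.Prime], pCoreOf q H = ⊥ → Inverts a (pCoreOf q M) := fun q _ hq =>
    (LD.inverts_pc h.ot (hS h.aS) (le_bot_iff.1 (q1 q hq ▸ inf_le_inf_left _ h.le))).1
  have q2' : ∀ (q : ℕ) [Fact q.Prime], pCoreOf q H = ⊥ → Inverts b (pCoreOf q M) := fun q _ hq =>
    (LD.inverts_pc hK.ot (hS hK.aS) (le_bot_iff.1 (pc_inf_eq_bot wK hWM v2 (fun x => pne (x ▸ hq))
      ((pd q).2 hq) ▸ inf_le_inf_left _ hK.le))).1
  have q3 : ∀ (q : ℕ) [Fact q.Prime], pCoreOf q H = ⊥ → pCoreOf q M ≤ L := fun q _ hq => by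
    refine fun x hx => hL.le (U4.mem_cent1_comm.1 (U4.mem_cent1.2 ?_))
    calc a * b * x = a * (b * x * b⁻¹) * a⁻¹ * (a * b) := by group
      _ = _ := by rw [q2' q hq x hx, q2 q hq _ (inv_mem hx), inv_inv]
  by_cases h0 : ∀ (q : ℕ) [Fact q.Prime], pCoreOf q H = ⊥ → pCoreOf q M = ⊥
  · have key : ∀ {N : Subgroup G}, IsCoatom N → ¬ CharIn p N → W ≤ pCoreOf p N →
        (∀ q, pCoreOf q N = ⊥ ↔ pCoreOf q H = ⊥) → N = M := fun n1 n2 n3 n4 =>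
      (bender n1 m1 h.Wne n3 v1 v2 ⟨fun J hJ => absurd hJ (nM.not_tc h.r hS J), fun q _ hq => by
        by_cases hq' : pCoreOf q H = ⊥
        · exact (h0 q hq').le.trans bot_le
        · exact pc_le_of_ne_bot n1 h.Wne n3 v2 hq fun x => hq' ((n4 q).1 x)⟩).resolve_right
        fun x => n2 x.1
    exact hne ((key hK.max ncK wK pd).trans (key h.max hc h.Wle fun _ => Iff.rfl).symm)
  push Not at h0
  obtain ⟨q, _, hq, hQ⟩ := h0
  have hMQ := H1.le_normalizer_pCoreOf (p := q) M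
  have nQ : ¬ pCoreOf q M ≤ H := fun e => hQ (le_bot_iff.1 (q1 q hq ▸ le_inf le_rfl e))
  set Z := fittingOf H ⊓ 𝐂(fittingOf H)
  have hZM : Z ≤ M := inf_le_right.trans ((centralizer_le
    (h.Wle.trans (H1.pCoreOf_le_fittingOf p H))).trans v2)
  have hZH : Z ≤ H := inf_le_left.trans (fittingOf_le H)
  have hZn : H ≤ 𝐍(Z) := le_normalizer_inf_centralizer (le_norm_fittingOf H) (le_norm_fittingOf H)
  have z1 : ∀ x ∈ A, Inverts x (pCoreOf q M) → Z ≤ 𝐂[x] := fun x hx hi => by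
    have z0 : ⁅Z, zpowers x⁆ ≤ Z :=
      commutator_le_left_of_le_normalizer (zpowers_le_of_mem (hZn (h.SH (h.r.sca.le hx))))
    rw [← U4.cent_zpowers, ← comm_eq_bot_iff]
    by_contra e
    exact nQ ((le_centralizer_comm (hi.commutator_le_cent (h.r.el x hx) (hZM.trans hMQ))).trans
      (h.U1' h2 e (z0.trans hZH) ((le_centralizer_comm (z0.trans inf_le_right)).trans
        (cent_le_norm _)) (le_normalizer_commutator (h.SH.trans hZn)
          (norm_zp (h.r.le_cent1 hx)))))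
  have z3 := hZe (by
    rw [← h.r.V_eq h4 h.mem h.bA, cent_V]
    exact le_inf (z1 a h.mem (q2 q hq)) (z1 b h.bA (q2' q hq)))
  set Z' := fittingOf L ⊓ 𝐂(fittingOf L)
  have hZ' : L ≤ 𝐍(Z') := le_normalizer_inf_centralizer (le_norm_fittingOf L) (le_norm_fittingOf L)
  have z6 : Z' ≤ M := z3.trans (h.norm.trans m2)
  have z4 : ∀ (r : ℕ) [Fact r.Prime], pCoreOf r H = ⊥ → Z' ≤ 𝐂(pCoreOf r M) := fun r _ hr =>
    LD.le_cent_of_comm le_rfl ((q3 r hr).trans hZ') le_rfl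
      (z6.trans (H1.le_normalizer_pCoreOf M)) (inf_eq_bot_of_cop (coprime_mono
        (LD.cop_fit ((pe r).2 hr) (H1.pCoreOf_isPGroup M)).symm inf_le_left le_rfl))
  have z5 : ∀ (r : ℕ) [Fact r.Prime], LD.Zp r L ≤ Z' := fun r _ =>
    le_inf (inf_le_left.trans (H1.pCoreOf_le_fittingOf r L)) (LD.Zp_le_cent r L)
  have c3 : ∀ (r : ℕ) [Fact r.Prime], pCoreOf r L ≠ ⊥ → 𝐂(pCoreOf r L ⊓ M) ≤ L := fun r _ hr =>
    hL.cent_le' hr ((z5 r).trans z6)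
  have := hL.star t3 m1 hS (nM.fitC h.r hS) (H1.fittingOf_le_of_forall fun r _ => by
      by_cases hr : pCoreOf r H = ⊥
      · exact q3 r hr
      · exact TpD.pc_le t3 c3 fun e => hr ((pe r).1 e)) fun r _ hr =>
    ⟨LD.Zp r L, LD.Zp_ne_bot hr, le_inf inf_le_left ((z5 r).trans z6), fun q' _ hq' => by
      by_cases e : pCoreOf q' H = ⊥
      · exact (z5 r).trans (z4 q' e)
      · exact (le_inf inf_le_left ((z5 r).trans z6)).trans
          (le_centralizer_comm (LD.L1 hq'.symm (c3 q' fun e' => e ((pe q').1 e'))))⟩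
  exact hQ (this ▸ (pe q).2 hq)

theorem stable {M : Subgroup G} (hM : M ≠ ⊤) : H1.StableIn p M :=
  stableIn_of_kg (h.r.mc.s3f.subgroup M) (h.r.mc.kg M hM) (h.r.five_le hp.1 (h.p2 h.nc)
    (H1.pCoreOf_isPGroup H) h.aa (H1.le_normalizer_pCoreOf H (h.SH h.aS)) h.nc)

theorem oddp {Q : Subgroup G} (hQ : IsPGroup p Q) : Odd (Nat.card Q) :=
  odd_card_of_isPGroup hp.1 (h.p2 h.nc) hQ

theorem norm_ne {Q : Subgroup G} (h0 : Q ≠ ⊥) (hQ : IsPGroup p Q) : 𝐍(Q) ≠ ⊤ :=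
  h.r.mc.norm_odd_ne h0 (h.oddp hQ)

theorem ne_top' {Q : Subgroup G} (hQ : IsPGroup p Q) (hY : W ≤ Q) : 𝐍(Q) ≠ ⊤ :=
  h.norm_ne (fun e => h.Wne (le_bot_iff.1 (e ▸ hY))) hQ

theorem exists_norm_dSub {T : Subgroup G} (hT : IsSylowIn p T ⊤) : ∃ g : G, 𝐍(dSub T) = g •ᶜ H := by
  obtain ⟨R, hR⟩ := IsSylowIn.exists_in (p := p) H
  have h1 := (h.stable h.max.1).le_normalizer_dSub h.charIn hR
  have h2 : 𝐍(dSub R) = H := le_antisymm (h.norm_le h.max (H1.dSub_ne_bot hR.isPGroup fun e =>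
    h.Wne (le_bot_iff.1 (e ▸ h.Wle.trans (H1.pCoreOf_le_sylow hR))))
    ((H1.dSub_le R).trans hR.le) h1) h1
  obtain ⟨g, -, rfl⟩ := hT.exists_conj_eq (sylow_of_norm' hR le_top (inf_le_right.trans
    ((H1.normalizer_le_normalizer_dSub R).trans h2.le)))
  exact ⟨g, by rw [H1.dSub_map_conj, normalizer_map_conj, h2]⟩

theorem exists_R {R : Subgroup G} (hR : IsPGroup p R) (hS : S ≤ 𝐍(R)) (hX : X ≠ ⊤) (h2 : R ≤ X)
    (h3 : S ≤ X) : ∃ T, IsSylowIn p T (Od X) ∧ S ≤ 𝐍(T) ∧ R ≤ T :=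
  exists_inv_sylow_ge (h3.trans (le_norm_Od X)) (h.r.cop (odd_Od X)) (Or.inr (solvable_Od X)) hR
    (h.r.le_Od hX h3 h2 (h.oddp hR) hS) hS

theorem glob {Y : Subgroup G} (hW : Y ≠ ⊤) (hS : S ≤ Y) (hY : W ≤ Y)
    (hT : ∀ X, X ≠ ⊤ → Y ≤ X → ∃ T, IsSylowIn p T (Od X) ∧ Y ≤ 𝐍(T)) : ∃ g : G, Y ≤ g •ᶜ H := by
  have p2 := h.p2 h.nc
  obtain ⟨X0, a0, m0⟩ := Set.exists_max_image {X : Subgroup G | X ≠ ⊤ ∧ Y ≤ X}
    (fun X => (Nat.card X).factorization p) (Set.toFinite _) ⟨Y, hW, le_rfl⟩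
  obtain ⟨X, ⟨⟨a1, a2⟩, a3⟩, m1⟩ := Set.exists_max_image {X : Subgroup G | (X ≠ ⊤ ∧ Y ≤ X) ∧
    (Nat.card X0).factorization p ≤ (Nat.card X).factorization p}
    (fun X => (Nat.card (Od X)).factorization p) (Set.toFinite _) ⟨X0, a0, le_rfl⟩
  obtain ⟨T, t1, t2⟩ := hT X a1 a2
  have hYT : W ≤ T := le_sylow_of_norm t1 h.Wp ((h.le_pc a1 (hS.trans a2) (hY.trans a2)).trans
    (pCoreOf_le_Od hp.1 p2 X)) (hY.trans t2)
  obtain ⟨Q, q1, q2⟩ := IsSylowIn.exists_ge t1.isPGroup (t1.le.trans (Od_le X))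
  have q3 : Q ≤ 𝐍(T) := by
    rw [← t1.eq_of_le (q2.isPGroup.to_le inf_le_left) (le_inf q1 t1.le) inf_le_right]
    exact H1.le_normalizer_inf le_normalizer (q2.le.trans (le_norm_Od X))
  have n1 := h.ne_top' t1.isPGroup hYT
  have key : ∀ K, K ≠ ⊤ → Y ≤ K → Q ≤ K → IsSylowIn p Q K := fun K k1 k2 k3 =>
    LD.sylow_of_fact_le q2 k3 ((m0 K ⟨k1, k2⟩).trans a3)
  have q4 := key _ n1 t2 q3
  have t3 : IsSylowIn p T (Od 𝐍(T)) := LD.sylow_of_fact_le t1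
    (GW.le_Od le_normalizer le_rfl (h.oddp t1.isPGroup))
    (m1 _ ⟨⟨n1, t2⟩, a3.trans (LD.fact_le_of_sylow q2 q3)⟩)
  have hD := H1.dFam_dSub Q
  have n2 := LD.le_norm_dSub (h.stable n1) q4 (le_trans (fun x hx => by
    have hx' := q3 (hD.1 hx)
    have hxp := (q2.isPGroup.to_le hD.1).to_le (zpowers_le.2 hx)
    refine le_sylow_of_norm t3 hxp ?_ (zpowers_le.2 hx') (mem_zpowers x)
    have k1 := H1.conjClosure_le_of_le (zpowers_le.2 hx')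
    have k2 := H1.le_normalizer_conjClosure (zpowers x) 𝐍(T)
    by_cases ho : Odd (Nat.card (conjClosure (zpowers x) 𝐍(T)))
    · exact (H1.le_conjClosure _ _).trans (GW.le_Od k1 k2 ho)
    obtain ⟨u, hu, u1⟩ := h.r.exists_mem ((hS.trans t2).trans k2) ho
    have uA := (mem_inf.1 hu).1
    have k3 : T ≤ 𝐂[u] := le_cent1_iff.2 (h.stable n1 T le_normalizer le_rfl t1.isPGroup x
      hx' ((q2.isPGroup ⟨x, hD.1 hx⟩).imp fun _ h => congrArg Subtype.val h)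
      (H1.quad_of_mem_of_comm hD.2.1 (q1.trans hD.2.2.1) hx)
      (H1.mem_pResidualOf (mem_inf.1 hu).2 (by
        rw [inv_of_mul_self (h.r.el u uA) u1]
        exact (Nat.coprime_primes Nat.prime_two hp.1).2 p2.symm)))
    exact absurd ((le_sylow_of_norm t3 (H1.pCoreOf_isPGroup _) (pCoreOf_le_Od hp.1 p2 _)
      (H1.pCoreOf_le _)).trans k3) (h.not_cent' h.nc uA u1 t1.isPGroup k3 n1 (hS.trans t2)
        (cent_le_norm T)))
    (H1.le_pCoreOf le_normalizer le_rfl t1.isPGroup))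
  obtain ⟨g, hg⟩ := h.exists_norm_dSub (sylow_of_norm' (key _
    (h.norm_ne (H1.dSub_ne_bot q2.isPGroup fun e => h.Wne (le_bot_iff.1 (e ▸ hYT.trans q1)))
    (q2.isPGroup.to_le hD.1)) (t2.trans n2) hD.2.2.1) le_top
    (inf_le_right.trans (H1.normalizer_le_normalizer_dSub Q)))
  exact ⟨g, hg ▸ t2.trans n2⟩

theorem exists_ge {R : Subgroup G} (hR : IsPGroup p R) (hS : S ≤ 𝐍(R)) (hY : W ≤ R) :
    ∃ g : G, R ⊔ S ≤ g •ᶜ H :=
  h.glob (fun e => h.ne_top' hR hY (top_le_iff.1 (e ▸ sup_le le_normalizer hS)))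
    le_sup_right (hY.trans le_sup_left) fun _ x1 hX =>
    let ⟨T, a, b, c⟩ := h.exists_R hR hS x1 (le_sup_left.trans hX) (le_sup_right.trans hX)
    ⟨T, a, sup_le (c.trans le_normalizer) b⟩

omit hp in
theorem cent_le_cj {g : G} (hg : S ≤ g •ᶜ H) : 𝐂(S) ≤ g •ᶜ H := by
  obtain ⟨n, hn, e⟩ := h.r.exists_norm_cj (h.r.sca.le.trans h.SH) (h.r.sca.le.trans hg)
  exact e ▸ (cent_le_cent1 (h.cj hn).aS).trans (h.cj hn).le

theorem elim : False := by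
  have := h.r.simple
  obtain ⟨d, -, k, hne⟩ := h.exists_b
  obtain ⟨D, hYD, ⟨d1, d2, x, y, hab, ha, hb⟩, hmax⟩ := Finite.exists_le_maximal
    (p := fun D : Subgroup G => IsPGroup p D ∧ S ≤ 𝐍(D) ∧ ∃ x y : G, x •ᶜ H ≠ y •ᶜ H ∧
      D ⊔ S ≤ x •ᶜ H ∧ D ⊔ S ≤ y •ᶜ H) (a := W) ⟨h.Wp, h.nS, d, 1, by rwa [map_conj_one],
      sup_le (h.cent.trans k.le) k.SH,
      by rw [map_conj_one]; exact sup_le (h.Wle.trans (H1.pCoreOf_le H)) h.SH⟩
  have uniq : ∀ {R : Subgroup G} {x y : G}, IsPGroup p R → S ≤ 𝐍(R) → D < R →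
      R ⊔ S ≤ x •ᶜ H → R ⊔ S ≤ y •ᶜ H → x •ᶜ H = y •ᶜ H := fun a1 a2 a3 a4 a5 => by
    by_contra e
    exact a3.not_ge (hmax ⟨a1, a2, _, _, e, a4, a5⟩ a3.le)
  have nt : ∀ g : G, g •ᶜ H ≠ ⊤ := fun g => (isCoatom_map_conj h.max g).1
  have hm : ∀ g : G, S ≤ g •ᶜ H → ∀ R ≤ g •ᶜ H, IsPGroup p R → S ≤ 𝐍(R) →
      ∃ P ≤ g •ᶜ H, IsPGroup p P ∧ S ≤ 𝐍(P) ∧ R ≤ P ∧
        Nat.card P = p ^ (Nat.card (Od H)).factorization p := fun g hg R h1 h2 h3 => by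
    obtain ⟨P, p1, p2, p3⟩ := h.exists_R h2 h3 (nt g) h1 hg
    exact ⟨P, p1.le.trans (Od_le _), p1.isPGroup, p2, p3, by
      rw [p1.card_eq_ordProj, Od_conj, card_map_conj]⟩
  generalize p ^ (Nat.card (Od H)).factorization p = m at hm
  have top : Nat.card D = m → ∀ {x : G}, D ⊔ S ≤ x •ᶜ H → pCoreOf p (x •ᶜ H) ≤ D := fun e x hx => by
    have n := hx.trans (H1.le_normalizer_pCoreOf (p := p) _)
    obtain ⟨P, -, -, -, p4, p5⟩ := hm x (le_sup_right.trans hx) (pCoreOf p (x •ᶜ H) ⊔ D)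
      (sup_le (H1.pCoreOf_le _) (le_sup_left.trans hx))
      (isPGroup_sup' (le_sup_left.trans n) (H1.pCoreOf_isPGroup _) d1)
      (H1.le_normalizer_sup (le_sup_right.trans n) d2)
    exact (le_sup_left.trans p4).trans
      (eq_of_le_of_card_ge (le_sup_right.trans p4) (p5.trans e.symm).le).ge
  have big : ∀ {x y : G}, x •ᶜ H ≠ y •ᶜ H → D ⊔ S ≤ x •ᶜ H → D ⊔ S ≤ y •ᶜ H →
      ∃ R : Subgroup G, IsPGroup p R ∧ S ≤ 𝐍(R) ∧ D < R ∧ R ⊔ S ≤ x •ᶜ H ∧ R ≤ 𝐍(D) :=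
    fun {x y} e hx hy => by
    obtain ⟨P, p0, p1, p2, p3, p4⟩ := hm x (le_sup_right.trans hx) D (le_sup_left.trans hx) d1 d2
    refine ⟨P ⊓ 𝐍(D), p1.to_le inf_le_left, H1.le_normalizer_inf p2 (d2.trans le_normalizer),
      lt_inf_normalizer_of_isPGroup p1 (lt_of_le_of_ne p3 fun e' => ?_),
      sup_le (inf_le_left.trans p0) (le_sup_right.trans hx), inf_le_right⟩
    subst e'
    exact (primPair_of_coatom (isCoatom_map_conj h.max x) (isCoatom_map_conj h.max y) e).not_stable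
      (h.stable (nt x)) (h.stable (nt y)) (h.charIn.map_conj x) (h.charIn.map_conj y)
      ((top p4 hx).trans (le_sup_left.trans hy)) ((top p4 hy).trans p0)
  obtain ⟨E, a1, a2, a3, a4, a5⟩ := big hab ha hb
  obtain ⟨F, b1, b2, b3, b4, b5⟩ := big hab.symm hb ha
  have n1 := h.ne_top' d1 hYD
  obtain ⟨R, r1, r3, r2⟩ := h.exists_R a1 a2 n1 a5 d2
  obtain ⟨R', s1, s3, s2⟩ := h.exists_R b1 b2 n1 b5 d2
  obtain ⟨u, hu⟩ := h.exists_ge r1.isPGroup r3 ((hYD.trans a3.le).trans r2)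
  obtain ⟨v, hv⟩ := h.exists_ge s1.isPGroup s3 ((hYD.trans b3.le).trans s2)
  rw [uniq a1 a2 a3 ((sup_le_sup_right r2 _).trans hu) a4] at hu
  rw [uniq b1 b2 b3 ((sup_le_sup_right s2 _).trans hv) b4] at hv
  obtain ⟨z, hz, e⟩ := conj_invariant_sylowOf (d2.trans (le_norm_Od _)) (h.r.cop (odd_Od _))
    (Or.inr (solvable_Od _)) (sylow_iff_hall.1 s1) (sylow_iff_hall.1 r1) s3 r3
  have e1 : R ≤ y •ᶜ H := e ▸ cj_le_of_norm (le_sup_left.trans hv)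
    (le_normalizer (h.cent_le_cj (le_sup_right.trans hb) hz.2))
  exact hab (uniq r1.isPGroup r3 (a3.trans_le r2) hu (sup_le e1 (le_sup_right.trans hb)))

end CfD

end CfsgLib.GO
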