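import Cfsg.Agent.Lib.Gol.R2d
import Cfsg.Agent.Lib.GW.LocalE1
import Cfsg.Agent.Lib.Wal.ThreeC

/-!
# Strongly closed four-groups: the subgroups `K_a`

`H = C(a) = K C`, `C = C(A)`, `c = ab`, `H` maximal (`coatom`).
* `inverts`: port of `T3.exists_i`, `pc_le_cent`, `typeE`, `inverts_Ut` (`GW/LocalE1`, `LocalE`).
  Let `P = O_p(H)`, `[P, b] ≠ 1`, `P₀ = C_P(b) ≠ 1`, `M = N(P₀) ≥ C` (good).  Some `1 ≠ i ∈ O_p(C(b))`
  centralizes `P₀` and is inverted by `a` (`pxq1`; otherwise `A` centralizes `O_p(C(b))`, conjugate).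
  For odd `q`: `O_q(M) ≤ C(a)` if `O_q(H) ≠ 1` (`pxq1` with `Z(O_q(H))`), `O_q(M) ⊓ H = 1` otherwise
  (`pc_inf_eq_bot`), so `[O(M), a]` centralizes `F(O(M))`, `i ∈ [⟨i⟩, A] ≤ O(M)`, `i ∈ O_p(M) ≤ C(a)`,
  absurd.  So `b` centralizes or inverts each `O_p(H)`, `K = [O(H), b] ≤ F(O(H))` is abelian.
* `not_cyclic`: `b ∈ [C, C]` (`le_der`) would centralize `K`.
* `norm_le`: `K` is the product of the `O_p(H)` it meets, so `F*(H) ≤ C(K) ≤ M = N(U) ≥ A`.  As above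
  `a` centralizes or inverts each `O_q(M)`, `q` odd (`O_q(M) ⊓ H` centralizes `F*(H)` if `O_q(H) = 1`).
  `M` bad: `A ≤ C_M(F(O(M)))` (`bad_two`), so `A` centralizes `O(M)`, `K ⊓ O(M) = 1`, `K` cyclic
  (`bad_cyc`).  `M` good: if `a` inverts `Q = O_q(M)`, `O_q(H) = 1`, then `C_Q(b) ≤ K_b`,
  `C_Q(c) ≤ K_c` (`comm_le_K`) are trivial, so `Q = 1`; thus `O(M) ≤ C(a)`, `K ≤ O(M)`,
  `C_A(O(M)) = ⟨a⟩`, `M = O(M) N_M(A) ≤ C(a)`.
* `mem_of_cj`: `a^g ∈ C(x) ≤ H` is `H`-conjugate into `A` (`conj_mem`) and centralizes an element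
  of `K#`, so `a^g = a`.
* `exists_le`: if `A` centralizes all `O_q(U)` it centralizes `U`.  Else take `W ≤ Q = O_q(U)`
  minimal among `UA`-invariant subgroups not centralized by `A`; `[W, Q] ≤ C`.  Some
  `1 ≠ x ∈ W ⊓ K_a` (rename).  For `y ∈ W ⊓ K_b`, `z = [x, y] ∈ C`; applying `a`, `y` inverts `z`,
  so `z = 1`, `y ∈ C(x) ≤ C(a)`, `y = 1`.  So `W ≤ C(a)`, `[U, a] ≤ C(W) ≤ C(a)`, `U ≤ C(a)`.
-/

set_option autoImplicit false

namespace CfsgLib.GO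

open Subgroup Cfsg CfsgLib.FT CfsgLib.FT.BGN CfsgLib.Cop CfsgLib.GW CfsgLib.Wal
open CfsgLib.H1 (AbTwo CharIn layerIn genFitIn dSub)
open CfsgLib.FT.U4 (mem_cent1 mem_cent1' mem_cent mem_cent1_comm cent1_conj
  eq_one_of_mem_inf eq_bot_of_forall conj_mem_conj_iff orderOf_conj norm_le_norm_cent)
open scoped commutatorElement

universe u

variable {G : Type u} [Group G] [Finite G] {S A X : Subgroup G}

theorem pc_Od_le (q : ℕ) [Fact q.Prime] (X : Subgroup G) : pCoreOf q (Od X) ≤ pCoreOf q X :=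
  H1.le_pCoreOf ((H1.pCoreOf_le _).trans (Od_le X)) ((le_norm_Od X).trans
    (H1.normalizer_le_normalizer_pCoreOf _)) (H1.pCoreOf_isPGroup _)

theorem le_pc_of_le_fit {q : ℕ} [Fact q.Prime] {U : Subgroup G} (h : U ≤ fittingOf (Od X))
    (hU : IsPGroup q U) : U ≤ pCoreOf q X :=
  (H1.le_pCoreOf_of_le_fittingOf h hU).trans (pc_Od_le q X)

theorem comm_le_cent_fit {d : G} (hd : d * d = 1) (h : ∀ (q : ℕ) [Fact q.Prime], q ≠ 2 →
    pCoreOf q X ≤ 𝐂[d] ∨ Inverts d (pCoreOf q X)) : ⁅X, zpowers d⁆ ≤ 𝐂(fittingOf (Od X)) :=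
  LD.le_cent_fit fun q _ => by
    by_cases e : q = 2
    · subst e
      rw [eq_bot_of_odd_of_two (odd_card_of_le (odd_Od X) (H1.pCoreOf_le _))
        (H1.pCoreOf_isPGroup _) le_rfl]
      exact le_centralizer_iff.1 bot_le
    · exact (comm_le_cent_of hd (H1.le_normalizer_pCoreOf X) (h q e)).trans
        (centralizer_le (pc_Od_le q X))

theorem Inverts.eq_one {s x : G} {K : Subgroup G} (h : Inverts s K) (ho : Odd (Nat.card K))
    (hx : x ∈ K) (hc : x ∈ 𝐂[s]) : x = 1 := mem_bot.1 ((h.inf_cent ho).le ⟨hx, hc⟩)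

namespace R2
variable (h : R2 S A)
include h

theorem pc_or {a : G} (ha : a ∈ A) (a1 : a ≠ 1) {p : ℕ} [Fact p.Prime] {U : Subgroup G}
    (hU : U ≤ pCoreOf p 𝐂[a]) (h0 : U ≠ ⊥) {q : ℕ} [Fact q.Prime] (h2 : q ≠ 2) :
    pCoreOf q 𝐍(U) ≤ 𝐂[a] ∨ pCoreOf q 𝐂[a] = ⊥ ∧ Inverts a (pCoreOf q 𝐍(U)) := by
  have := h.simple
  have h1 : a ∈ 𝐍(U) := cent_le_norm U (mem_cent.2 fun x hx =>
    mem_cent1.1 (H1.pCoreOf_le _ (hU hx)))
  by_cases hq : pCoreOf q 𝐂[a] = ⊥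
  · exact Or.inr ⟨hq, (LD.inverts_pc (h.el.ord ha a1) h1 (pc_inf_eq_bot hU le_normalizer
      (cent_le_norm U) (by rintro rfl; exact h0 (le_bot_iff.1 (hq ▸ hU))) hq)).1⟩
  · exact Or.inl (pxq1 h2 (h.el a ha) (V := LD.Zp q 𝐂[a]) (H1.pCoreOf_isPGroup _).to_inf_left
      (H1.pCoreOf_isPGroup _) ((((LD.Zp_le_cent q _).trans (centralizer_le
        (hU.trans (H1.pCoreOf_le_fittingOf p _)))).trans (cent_le_norm U)).trans
        (H1.le_normalizer_pCoreOf _)) (H1.le_normalizer_pCoreOf _ h1)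
      (inf_le_left.trans (H1.pCoreOf_le _))
      (inf_le_right.trans (cent_le_of_Zp (h.coatom ha a1) hq le_rfl)))

theorem pc_cj {a b : G} (ha : a ∈ A) (hb : b ∈ A) (a1 : a ≠ 1) (b1 : b ≠ 1) (p : ℕ) :
    ∃ n ∈ 𝐍(A), pCoreOf p 𝐂[b] = n •ᶜ pCoreOf p 𝐂[a] := by
  obtain ⟨n, hn, rfl⟩ := h.trans ha hb a1 b1
  exact ⟨n, hn, by rw [cent1_conj, H1.pCoreOf_map_conj]⟩

theorem pc_inverts {a b : G} (ha : a ∈ A) (a1 : a ≠ 1) (hb : b ∈ A) (p : ℕ) [hp : Fact p.Prime]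
    (h2 : p ≠ 2) : pCoreOf p 𝐂[a] ≤ 𝐂[b] ∨ Inverts b (pCoreOf p 𝐂[a]) := by
  have hP := fun X : Subgroup G => H1.pCoreOf_isPGroup (p := p) X
  have ho := fun X : Subgroup G => odd_card_of_isPGroup hp.1 h2 (hP X)
  have hn := fun {x : G} (hx : x ∈ A) =>
    (cent_le_cent1 hx).trans (H1.le_normalizer_pCoreOf (p := p) _)
  refine or_iff_not_imp_left.2 fun h1 => inverts_of_inf_cent (h.el b hb) (ho _)
    (hn ha (h.el.le_cent hb)) (by_contra fun h0 => ?_)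
  have b1 : b ≠ 1 := by rintro rfl; exact h1 fun x _ => mem_cent1.2 (by simp)
  have h4 := h.four ha hb a1 b1 (by rintro rfl; exact h1 (H1.pCoreOf_le _))
  set U := pCoreOf p 𝐂[a] ⊓ 𝐂[b] with hU
  have h3 : 𝐂(A) ≤ 𝐍(U) := H1.le_normalizer_inf (hn ha) ((cent_le_cent1 hb).trans le_normalizer)
  have hUa : U ≤ 𝐂[a] := inf_le_left.trans (H1.pCoreOf_le _)
  obtain ⟨i, hi, i1, e⟩ := exists_inverted (X := pCoreOf p 𝐂[b] ⊓ 𝐂(U)) h4.tt
    (odd_card_of_le (ho _) inf_le_left) (H1.le_normalizer_inf (hn hb)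
      (h3.trans (norm_le_norm_cent U)) (h.el.le_cent ha)) fun h5 => h1 (by
      have h6 := pxq1 h2 h4.tt (hP _).to_inf_left (hP 𝐂[b]) (inf_le_right.trans
        (H1.le_normalizer_pCoreOf _)) (hn hb (h.el.le_cent ha)) hUa h5
      obtain ⟨n, hn, e⟩ := h.pc_cj hb ha b1 a1 p
      refine le_trans ?_ (cent_le_cent1 hb)
      rw [e, ← map_conj_eq_of_mem_normalizer (norm_le_norm_cent A hn)]
      refine map_mono ?_
      rw [← h.V_eq h4 ha hb, cent_V]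
      exact le_inf h6 (H1.pCoreOf_le _))
  have hi0 := odd_orderOf_of_mem (ho _) hi.1
  have hiM := cent_le_norm U hi.2
  have h5 := h.mc.norm_odd_ne h0 (odd_card_of_le (ho _) inf_le_left)
  have h6 := h.gb_comm h5 (h.el.le_cent.trans h3) (h.gd _ h5 (h.le_cent.trans h3))
    (zpowers_le.2 hiM) (by rwa [Nat.card_zpowers]) (h.V_eq h4 ha hb ▸ le_norm_of_V
      (inverts_zpowers e).mem_norm (norm_zp le_rfl (mem_cent1_comm.1 (H1.pCoreOf_le _ hi.1))))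
    (commutator_mono le_rfl (zpowers_le.2 ha) (mem_commutator_of_inverted hi0 e (mem_zpowers i)))
  have h7 := comm_le_cent_fit h4.tt (fun q _ hq => (h.pc_or ha a1 inf_le_left h0 hq).imp_right
    And.right) (mem_commutator_of_inverted hi0 e hiM)
  have h8 := le_pc_of_le_fit (zpowers_le.2 (cent_sub_Fitting (solvable_Od _) ⟨h6, h7⟩))
    ((hP _).to_le (zpowers_le.2 hi.1)) (mem_zpowers i)
  exact i1 (eq_one_of_inv_of_comm hi0 e (mem_cent1.1 ((h.pc_or ha a1 inf_le_left h0 h2).resolve_right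
    (fun e => h0 (le_bot_iff.1 (e.1 ▸ inf_le_left))) h8)))

theorem K_le_cent {a : G} (ha : a ∈ A) (a1 : a ≠ 1) : Kk A a ≤ 𝐂(fittingOf (Od 𝐂[a])) :=
  comm_le_of_forall fun d hd => (commutator_mono (Od_le _) le_rfl).trans
    (comm_le_cent_fit (h.el d hd) (h.pc_inverts ha a1 hd))

theorem K_le_fit {a : G} (ha : a ∈ A) (a1 : a ≠ 1) : Kk A a ≤ fittingOf (Od 𝐂[a]) :=
  (le_inf (Kk_le h.el ha) (h.K_le_cent ha a1)).trans (cent_sub_Fitting (solvable_Od _))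

theorem inverts {a b : G} (h4 : Four a b) (ha : a ∈ A) (hb : b ∈ A) : Inverts b (Kk A a) := by
  have hn := (h.el.le_cent1 ha).trans (h.norm_K ha h4.t1)
  refine inverts_of_inf_cent h4.ss (h.odd_K ha) (hn hb) (le_bot_iff.1 ?_)
  rw [← commutator_inf_centralizer_eq_bot hn (h.el.coprime (h.odd_K ha))
    (isMulCommutative_of_le_cent ((h.K_le_cent ha h4.t1).trans
      (centralizer_le (h.K_le_fit ha h4.t1)))), Kk,
    comm_comm h.el (odd_Od _) ((h.el.le_cent1 ha).trans (le_norm_Od _))]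
  refine le_inf inf_le_left (le_trans ?_ (h.V_eq h4 ha hb ▸ (cent_V a b).ge))
  exact inf_le_inf_right _ (h.K_le ha)

theorem eq_of_cent {a d x : G} (ha : a ∈ A) (a1 : a ≠ 1) (hd : d ∈ A) (d1 : d ≠ 1)
    (hx : x ∈ Kk A a) (x1 : x ≠ 1) (hc : x ∈ 𝐂[d]) : d = a := by_contra fun e =>
  x1 (Inverts.eq_one (h.inverts (h.four ha hd a1 d1 (Ne.symm e)) ha hd) (h.odd_K ha) hx hc)

theorem K_comm {a : G} (ha : a ∈ A) (a1 : a ≠ 1) : Kk A a ≤ 𝐂(Kk A a) :=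
  (h.K_le_cent ha a1).trans (centralizer_le (h.K_le_fit ha a1))

theorem not_cyclic {a : G} (ha : a ∈ A) (a1 : a ≠ 1) : ¬ IsCyclic (Kk A a) := fun hc => by
  obtain ⟨b, hb, h4⟩ := h.exists_four ha a1
  have h1 := U4.B14.der_le_cent_of_cyclic hc ((cent_le_cent1 ha).trans (h.norm_K ha a1)) (h.le_der hb)
  exact h.K_ne ha a1 (eq_bot_of_forall fun x hx => Inverts.eq_one (h.inverts h4 ha hb)
    (h.odd_K ha) hx (mem_cent1.2 (mem_cent.1 h1 x hx)))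

theorem norm_le' {a : G} (ha : a ∈ A) (a1 : a ≠ 1) {U : Subgroup G} (h0 : U ≠ ⊥)
    (hU : U ≤ Kk A a) {p : ℕ} [Fact p.Prime] (hp : IsPGroup p U) : 𝐍(U) ≤ 𝐂[a] := by
  obtain ⟨b, hb, h4⟩ := h.exists_four ha a1
  have hUa := hU.trans (h.K_le ha)
  have hA : A ≤ 𝐍(U) := h.V_eq h4 ha hb ▸ le_norm_of_V
    (cent_le_norm U (mem_cent.2 fun x hx => mem_cent1.1 (hUa hx)))
    ((h.inverts h4 ha hb).mono hU).mem_norm
  have hM := h.mc.norm_odd_ne h0 (odd_card_of_le (h.odd_K ha) hU)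
  have h1 : 𝐍(U) ⊓ 𝐍(A) ≤ 𝐂[a] := fun n hn => by
    obtain ⟨x, hx, x1⟩ := (bot_or_exists_ne_one U).resolve_left h0
    refine U4.mem_cent1_of_conj_eq (h.eq_of_cent ha a1 (conj_mem_of_mem_normalizer hn.2 ha)
      (mt conj_eq_one_iff.1 a1) (hU (conj_mem_of_mem_normalizer hn.1 hx)) (mt conj_eq_one_iff.1 x1) ?_)
    rw [cent1_conj]
    exact conj_mem_map_conj (hUa hx)
  by_cases hg : Gb A 𝐍(U)
  swap
  · obtain ⟨n, hn, e⟩ := h.bad_trans hM hA hg ha hb a1 h4.s1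
    exact absurd ((U4.conj_eq_of_mem_cent1 (h1 hn)).symm.trans e) h4.ne
  refine (h.gb_le hM hA hg).trans (sup_le ?_ h1)
  rw [← U4.cent_zpowers]
  refine Od_le_cent (el_zpowers h4.tt) (zpowers_le.2 (hA ha)) fun q hq h2 => ?_
  rw [U4.cent_zpowers]
  refine (h.pc_or ha a1 (le_pc_of_le_fit (hU.trans (h.K_le_fit ha a1)) hp) h0 h2).elim id
    fun ⟨h3, h5⟩ => ?_
  have hQ := H1.pCoreOf_isPGroup (p := q) 𝐍(U)
  have ho := odd_card_of_isPGroup hq.1 h2 hQ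
  have hn := hA.trans (H1.le_normalizer_pCoreOf (p := q) _)
  refine gen_pt h.el h.card.ge ho hn fun d hd d1 => ?_
  obtain ⟨n, -, e⟩ := h.pc_cj ha hd a1 d1 q
  have ho' := odd_card_of_le ho (inf_le_left (b := 𝐂[d]))
  refine (le_pc_of_le_fit (X := 𝐂[d]) ?_ hQ.to_inf_left).trans (by rw [e, h3]; simp)
  exact (LD.le_comm_of_inverts (h5.mono inf_le_left) ho').trans ((commutator_mono le_rfl
    (zpowers_le.2 ha)).trans ((h.comm_le_K hd d1 inf_le_right ho' (H1.le_normalizer_inf hn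
      ((h.el.le_cent1 hd).trans le_normalizer))).trans (h.K_le_fit hd d1)))

theorem norm_le {a : G} (ha : a ∈ A) (a1 : a ≠ 1) {U : Subgroup G} (h0 : U ≠ ⊥)
    (hU : U ≤ Kk A a) : 𝐍(U) ≤ 𝐂[a] := by
  obtain ⟨p, hp, h1⟩ : ∃ (p : ℕ) (_ : Fact p.Prime), pCoreOf p U ≠ ⊥ := by
    by_contra hc
    push Not at hc
    exact h0 (le_bot_iff.1 ((U4.le_fit le_rfl le_normalizer (isNilpotent_of_le (fittingOf_nil _)
      (hU.trans (h.K_le_fit ha a1)))).trans (H1.fittingOf_le_of_forall fun q _ => (hc q ‹_›).le)))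
  exact (H1.normalizer_le_normalizer_pCoreOf U).trans
    (h.norm_le' ha a1 h1 ((H1.pCoreOf_le U).trans hU) (H1.pCoreOf_isPGroup U))

theorem cent_le {a x : G} (ha : a ∈ A) (a1 : a ≠ 1) (hx : x ∈ Kk A a) (x1 : x ≠ 1) :
    𝐂[x] ≤ 𝐂[a] := (norm_zp le_rfl).trans (h.norm_le ha a1 (by simpa using x1) (zpowers_le.2 hx))

theorem mem_of_cj {a x g : G} (ha : a ∈ A) (a1 : a ≠ 1) (hx : x ∈ Kk A a) (x1 : x ≠ 1)
    (hg : x ∈ 𝐂[g * a * g⁻¹]) : g ∈ 𝐂[a] := by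
  obtain ⟨y, hy, h1⟩ := h.conj_mem (h.el.le_cent1 ha) ha
    (h.cent_le ha a1 hx x1 (mem_cent1_comm.1 hg))
  have h2 := h.eq_of_cent ha a1 h1 (mt conj_eq_one_iff.1 (mt conj_eq_one_iff.1 a1))
    (conj_mem_of_mem_normalizer (h.norm_K ha a1 hy) hx) (mt conj_eq_one_iff.1 x1)
    (by rw [cent1_conj]; exact conj_mem_map_conj hg)
  have h3 : y * g ∈ 𝐂[a] := U4.mem_cent1_of_conj_eq (Eq.trans (by group) h2)
  simpa using mul_mem (inv_mem hy) h3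

theorem exists_cent {U : Subgroup G} (ho : Odd (Nat.card U)) (hn : A ≤ 𝐍(U)) :
    ∃ d ∈ A, d ≠ 1 ∧ U ≤ 𝐂[d] := by
  by_cases h0 : ⁅U, A⁆ = ⊥
  · obtain ⟨d, hd, d1⟩ := exists_ne_one_of_card (B := A) (by rw [h.card]; decide)
    exact ⟨d, hd, d1, (comm_eq_bot_iff.1 h0).trans (cent_le_cent1 hd)⟩
  obtain ⟨W, h1, h2, h3, h5⟩ := exists_minimal_action (B := U ⊔ A) (sup_le le_normalizer hn) h0
  have hW := odd_card_of_le ho h1
  have hA := le_sup_right.trans h2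
  have h6 := comm_eq_bot_iff.1 (h5 _ (der_lt_of_solvable (solvable_of_odd hW)
    (by rintro rfl; simp at h3)) (le_normalizer_commutator h2 h2))
  have h7 : ∀ d ∈ A, d ≠ 1 → W ⊓ Kk A d = ⊥ → W ⊓ 𝐂[d] ≤ 𝐂(A) := fun d hd d1 e =>
    have h7 := H1.le_normalizer_inf hA ((h.el.le_cent1 hd).trans le_normalizer)
    comm_eq_bot_iff.1 (le_bot_iff.1 (e ▸ le_inf ((commutator_le_left_of_le_normalizer h7).trans
      inf_le_left) (h.comm_le_K hd d1 inf_le_right (odd_card_of_le hW inf_le_left) h7)))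
  obtain ⟨a, ha, a1, h8⟩ : ∃ a ∈ A, a ≠ 1 ∧ W ⊓ Kk A a ≠ ⊥ := by
    by_contra hc
    push Not at hc
    exact h3 (comm_eq_bot_iff.2 (gen_pt h.el h.card.ge hW hA fun d hd d1 => h7 d hd d1 (hc d hd d1)))
  obtain ⟨x, hx, x1⟩ := (bot_or_exists_ne_one _).resolve_left h8
  have h9 : W ≤ 𝐂[a] := gen_pt h.el h.card.ge hW hA fun d hd d1 => by
    by_cases e : d = a
    · exact e ▸ inf_le_right
    refine (h7 d hd d1 (eq_bot_of_forall fun y hy => ?_)).trans (cent_le_cent1 ha)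
    have h9 := h.inverts (h.four hd ha d1 a1 e) hd ha
    refine Inverts.eq_one h9 (h.odd_K hd) hy.2 (h.cent_le ha a1 hx.2 x1 ?_)
    have h10 := commutator_mem_commutator hx.1 hy.1
    have h11 := U4.conj_eq_of_mem_cent1 (mem_cent1_comm.1 (cent_le_cent1 ha (h6 h10)))
    rw [conjugate_commutatorElement, h9 y hy.2,
      U4.conj_eq_of_mem_cent1 (mem_cent1_comm.1 (h.K_le ha hx.2))] at h11
    have h12 : y * ⁅x, y⁆ * y⁻¹ = ⁅x, y⁆⁻¹ := by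
      conv_lhs => rw [← h11]
      simp only [commutatorElement_def]
      group
    have h13 : ⁅x, y⁆ ∈ 𝐂[y] := mem_cent1_comm.1 (zpowers_le.2 (U4.mem_cent1_of_conj_eq (by
      rw [show ∀ z, y * y * z * (y * y)⁻¹ = y * (y * z * y⁻¹) * y⁻¹ from fun z => by group, h12,
        ← conj_inv, h12, inv_inv])) (mem_zpowers_sq (odd_orderOf_of_mem hW hy.1)))
    exact mem_cent1.2 (commutatorElement_eq_one_iff_mul_comm.1 (eq_one_of_inv_of_comm
      (odd_orderOf_of_mem hW (commutator_le_left_of_le_normalizer le_normalizer h10)) h12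
      (mem_cent1.1 h13))).symm
  refine ⟨a, ha, a1, ?_⟩
  rw [← U4.cent_zpowers]
  refine le_cent_of_comm_comm (el_zpowers (h.el a ha)) ho ((zpowers_le.2 ha).trans hn) ?_
  rw [U4.cent_zpowers]
  exact ((comm_le_cent_of (h.el a ha) (le_sup_left.trans h2) (Or.inl h9)).trans
    (cent_le_cent1 hx.1)).trans (h.cent_le ha a1 hx.2 x1)

theorem exists_le {U : Subgroup G} (ho : Odd (Nat.card U)) (hn : A ≤ 𝐍(U)) :
    ∃ d ∈ A, d ≠ 1 ∧ ⁅U, A⁆ ≤ Kk A d :=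
  let ⟨d, hd, d1, h1⟩ := h.exists_cent ho hn
  ⟨d, hd, d1, h.comm_le_K hd d1 h1 ho hn⟩

/-- If the involutions of `A` are fused in `N(U)` then `A` centralizes `U`. -/
theorem le_cent_of_move {U : Subgroup G} (ho : Odd (Nat.card U)) (hn : A ≤ 𝐍(U)) {n : G}
    (h1 : n ∈ 𝐍(A) ⊓ 𝐍(U)) (h2 : n ∉ 𝐂(A)) : U ≤ 𝐂(A) := by
  obtain ⟨d, hd, d1, h3⟩ := h.exists_cent ho hn
  have h4 := conj_mem_of_mem_normalizer h1.1 hd
  rw [← h.V_eq (h.four hd h4 d1 (mt conj_eq_one_iff.1 d1) fun e =>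
    h2 (h.fix hd d1 h1.1 (U4.mem_cent1_of_conj_eq e.symm))) hd h4, cent_V, cent1_conj,
    ← map_conj_eq_of_mem_normalizer h1.2]
  exact le_inf ((map_conj_eq_of_mem_normalizer h1.2).le.trans h3) (map_mono h3)

end R2

end CfsgLib.GO
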