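import Cfsg.Agent.Lib.Gol.R2e

/-!
# Strongly closed four-groups: `Ω₁(S) = A`

Let `u ∈ C = C(A)` be an involution outside `A`; we may assume that `C(u)` is bad (`exists_bad`).
For bad `C(e)`, `e ∈ uA`: `A` centralizes `O(C(e))` (`bad_trans`, `le_cent_of_move`), so
`C_{K_x}(e)` is cyclic (`bad_cyc`).  The part `K_x ⊓ C(uy)` (`y ≠ x`) of `K_x` inverted by `u` is
nontrivial (`not_cyclic`) and its order does not depend on `x` (`bad_trans`).
If `C(uy)` is good, the groups `K_x ⊓ C(uy)`, `x ≠ y`, lie in `[O(C(uy)), A] ≤ K_d` (`exists_le`),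
absurd.  So they are cyclic of the same order; let `p` be a prime divisor.  The determinant of
`N(A)` acting on `∏ₓ Ω₁(O_p(K_x))` is trivial on `S` (`SCA.le_of_comm`) but `-1` on `u`.
-/

set_option autoImplicit false

namespace CfsgLib.GO

open Subgroup Cfsg CfsgLib.FT CfsgLib.FT.BGN CfsgLib.Cop CfsgLib.GW CfsgLib.Wal
open CfsgLib.H1 (AbTwo CharIn layerIn genFitIn dSub)
open CfsgLib.FT.U4 (mem_cent1 mem_cent1' mem_cent mem_cent1_comm cent1_conj
  eq_one_of_mem_inf eq_bot_of_forall conj_mem_conj_iff orderOf_conj norm_le_norm_cent)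
open scoped commutatorElement

universe u

variable {G : Type u} [Group G] [Finite G] {S A X : Subgroup G}

theorem det_invol {F M : Type*} [Field F] [AddCommGroup M] [Module F M] [FiniteDimensional F M]
    (σ : M →ₗ[F] M) (hσ : ∀ v, σ (σ v) = v) :
    LinearMap.det σ = (-1) ^ Module.finrank F (LinearMap.ker (σ + LinearMap.id)) := by
  have hm : ∀ v, v ∈ LinearMap.ker (σ + LinearMap.id) ↔ σ v = -v := fun v => by
    simp [add_eq_zero_iff_eq_neg]
  generalize LinearMap.ker (σ + LinearMap.id) = K at hm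
  have he : K ≤ K.comap σ := fun v hv => (hm _).2 (by rw [hσ, (hm v).1 hv, neg_neg])
  have h1 : σ.restrict (p := K) (q := K) he = (-1 : F) • LinearMap.id := by
    ext v; simpa using (hm _).1 v.2
  have h2 : K.mapQ K σ he = LinearMap.id := by
    ext v
    simp only [LinearMap.comp_apply, Submodule.mkQ_apply, Submodule.mapQ_apply, LinearMap.id_apply]
    exact (Submodule.Quotient.eq _).2 ((hm _).2 (by rw [map_sub, hσ, neg_sub]))
  rw [LinearMap.det_eq_det_mul_det _ σ he, h1, h2, LinearMap.det_smul]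
  simp

theorem exists_det0 {N W : Type*} [Group N] [CommGroup W] [Finite W] {p : ℕ} [Fact p.Prime]
    [Module (ZMod p) (Additive W)] (ψ : N →* Monoid.End W) :
    ∃ δ : N →* (ZMod p)ˣ, ∀ σ, σ * σ = 1 → ∀ k, Nat.card {w // ψ σ w = w⁻¹} = p ^ k →
      δ σ = (-1) ^ k := by
  let T : N → Module.End (ZMod p) (Additive W) := fun g =>
    (MonoidHom.toAdditive (ψ g : W →* W)).toZModLinearMap p
  have hT : ∀ g v, T g v = Additive.ofMul (ψ g (Additive.toMul v)) := fun g v => rfl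
  let ρ : N →* Module.End (ZMod p) (Additive W) :=
    MonoidHom.mk ⟨T, by ext v; simp [hT]⟩ fun a b => by ext v; simp [hT]
  refine ⟨(LinearMap.det.comp ρ).toHomUnits, fun σ h2 k hk => Units.ext ?_⟩
  have h3 := det_invol (ρ σ) fun v => by
    rw [← Module.End.mul_apply, ← map_mul, h2, map_one, Module.End.one_apply]
  have h4 : Nat.card (LinearMap.ker (ρ σ + LinearMap.id)) = p ^ k := by
    rw [← hk]
    refine Nat.card_congr (Equiv.subtypeEquiv Additive.toMul fun v => ?_)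
    rw [LinearMap.mem_ker, LinearMap.add_apply, LinearMap.id_apply, add_eq_zero_iff_eq_neg]
    rfl
  rw [Module.natCard_eq_pow_finrank (K := ZMod p), Nat.card_zmod] at h4
  rw [Nat.pow_right_injective (Fact.out : p.Prime).two_le h4] at h3
  simpa using h3

/-- The determinant of an action on an elementary abelian group. -/
theorem exists_det {N W : Type*} [Group N] [Group W] [Finite W] {p : ℕ} [Fact p.Prime]
    (hc : ∀ x y : W, x * y = y * x) (hp : ∀ x : W, x ^ p = 1) (ψ : N →* Monoid.End W) :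
    ∃ δ : N →* (ZMod p)ˣ, ∀ σ, σ * σ = 1 → ∀ k, Nat.card {w // ψ σ w = w⁻¹} = p ^ k →
      δ σ = (-1) ^ k := by
  let _ : CommGroup W := { mul_comm := hc }
  let _ : Module (ZMod p) (Additive W) :=
    AddCommGroup.zmodModule fun x => by rw [← ofMul_toMul x, ← ofMul_pow, hp, ofMul_one]
  exact exists_det0 ψ

/-- The determinant argument. -/
theorem R1.no_sign (h : R1 S A) {p : ℕ} [Fact p.Prime] (h2 : p ≠ 2) (K : G → Subgroup G)
    (hK : ∀ n ∈ 𝐍(A), ∀ x, K (n * x * n⁻¹) = n •ᶜ K x) (hc : ∀ x ∈ A, x ≠ 1 → K x ≤ 𝐂(K x))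
    {u : G} (hu : u ∈ 𝐂(A)) (u2 : u * u = 1) (h3 : ∀ x ∈ A, x ≠ 1 →
      Nat.card {k // (k ∈ K x ∧ k ^ p = 1) ∧ u * k * u⁻¹ = k⁻¹} = p) : False := by
  have := Fact.mk Nat.prime_two
  let I := {x : G // x ∈ A ∧ x ≠ 1}
  let W : Subgroup (I → G) :=
    { carrier := {f | ∀ x : I, f x ∈ K x ∧ f x ^ p = 1}
      mul_mem' := fun {f g} hf hg x => ⟨mul_mem (hf x).1 (hg x).1, by
        rw [Pi.mul_apply, (show Commute (f x) (g x) from mem_cent.1 (hc _ x.2.1 x.2.2 (hg x).1) _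
          (hf x).1).mul_pow, (hf x).2, (hg x).2, mul_one]⟩
      one_mem' := fun x => ⟨one_mem _, one_pow _⟩
      inv_mem' := fun {f} hf x => ⟨inv_mem (hf x).1, by rw [Pi.inv_apply, inv_pow, (hf x).2, inv_one]⟩ }
  let c : 𝐍(A) → I → I := fun n x => ⟨(n : G)⁻¹ * x * n, conj_mem_of_mem_normalizer' n.2 x.2.1,
    fun e => x.2.2 (by simpa [mul_eq_one_iff_eq_inv'] using e)⟩
  let T : 𝐍(A) → Monoid.End W := fun n =>
    { toFun f := ⟨fun x => n * f.1 (c n x) * (n : G)⁻¹, fun x => ⟨by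
        have := conj_mem_conj_iff (g := (n : G)).2 (f.2 (c n x)).1
        rw [← hK n n.2] at this
        simpa [c, mul_assoc] using this, by rw [conj_pow, (f.2 _).2]; simp⟩⟩
      map_one' := Subtype.ext (funext fun x => by simp)
      map_mul' := fun f g => Subtype.ext (funext fun x => by simp [mul_assoc]) }
  have hT : ∀ n f x, (T n f).1 x = n * f.1 (c n x) * (n : G)⁻¹ := fun _ _ _ => rfl
  let ψ : 𝐍(A) →* Monoid.End W := MonoidHom.mk ⟨T, by ext f x; simp [hT, c]⟩ fun m n => by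
    ext f x
    simp [hT, c, mul_assoc]
  obtain ⟨δ, hδ⟩ := exists_det (p := p) (W := W) (fun f g => Subtype.ext (funext fun x =>
    mem_cent.1 (hc _ x.2.1 x.2.2 (g.2 x).1) _ (f.2 x).1))
    (fun f => Subtype.ext (funext fun x => (f.2 x).2)) ψ
  have hu' : u ∈ 𝐍(A) := centralizer_le_normalizer _ hu
  have hcu : ∀ x, c ⟨u, hu'⟩ x = x := fun x => Subtype.ext (by
    simp only [c]; rw [mul_assoc, mem_cent.1 hu _ x.2.1, inv_mul_cancel_left])
  have hI : Nat.card I = 3 := by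
    have h5 : Nat.card I = Nat.card {x : A // x ≠ 1} := Nat.card_congr
      ⟨fun x => ⟨⟨x.1, x.2.1⟩, fun e => x.2.2 (congrArg Subtype.val e)⟩,
        fun x => ⟨x.1.1, x.1.2, fun e => x.2 (Subtype.ext e)⟩, fun _ => rfl, fun _ => rfl⟩
    have := Fintype.ofFinite A
    classical
    rw [h5, Nat.card_eq_fintype_card, Fintype.card_subtype_compl, Fintype.card_subtype_eq,
      ← Nat.card_eq_fintype_card, h.card]
  have h4 := hδ ⟨u, hu'⟩ (Subtype.ext u2) 3 (by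
    have := Fintype.ofFinite I
    rw [Nat.card_congr (β := ∀ x : I, {k // (k ∈ K x ∧ k ^ p = 1) ∧ u * k * u⁻¹ = k⁻¹})
      ⟨fun f x => ⟨f.1.1 x, f.1.2 x, by
          have := congrFun (congrArg Subtype.val f.2) x
          rwa [show (ψ ⟨u, hu'⟩ f.1).1 x = _ from hT _ _ _, hcu] at this⟩,
        fun g => ⟨⟨fun x => (g x).1, fun x => (g x).2.1⟩, Subtype.ext (funext fun x => by
          rw [show (ψ ⟨u, hu'⟩ _).1 x = _ from hT _ _ _, hcu]; exact (g x).2.2)⟩,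
        fun _ => rfl, fun _ => rfl⟩, Nat.card_pi,
      Finset.prod_congr rfl fun x _ => h3 x.1 x.2.1 x.2.2, Finset.prod_const, Finset.card_univ,
      ← Nat.card_eq_fintype_card, hI])
  have h5 : S ≤ δ.ker.map (𝐍(A)).subtype := h.sca.le_of_comm h.mc fun m hm n hn =>
    ⟨⁅(⟨m, hm⟩ : 𝐍(A)), ⟨n, hn⟩⁆, by
      rw [SetLike.mem_coe, MonoidHom.mem_ker, map_commutatorElement,
        commutatorElement_eq_one_iff_mul_comm, mul_comm], rfl⟩
  obtain ⟨g, hg, h6⟩ := (h.sca.syl.mono h.le_cent le_top).exists_conj_le (el_zpowers u2).isPGroup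
    (zpowers_le.2 hu)
  obtain ⟨v, hv, e⟩ := h5 (h6 (conj_mem_conj_iff.2 (mem_zpowers u)))
  have hg' := centralizer_le_normalizer _ hg
  have h7 : v = ⟨g, hg'⟩ * ⟨u, hu'⟩ * ⟨g, hg'⟩⁻¹ := Subtype.ext e
  rw [SetLike.mem_coe, MonoidHom.mem_ker, h7, map_mul, map_mul, map_inv, mul_inv_eq_one,
    mul_eq_left, h4] at hv
  have h8 : ((2 : ℕ) : ZMod p) = 0 := by
    have := congrArg Units.val hv
    simp only [Units.val_pow_eq_pow_val, Units.val_neg, Units.val_one] at this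
    push_cast
    linear_combination -this
  exact h2 ((Nat.prime_dvd_prime_iff_eq Fact.out Nat.prime_two).1
    ((ZMod.natCast_eq_zero_iff _ _).1 h8))

omit [Finite G] in
theorem inv_iff_cent {u y k : G} (u2 : u * u = 1) (hy : y * k * y⁻¹ = k⁻¹) :
    k ∈ 𝐂[u * y] ↔ u * k * u⁻¹ = k⁻¹ := by
  have hi : u⁻¹ = u := inv_eq_of_mul_eq_one_right u2
  have e : u * y * k = u * k⁻¹ * y := by rw [← hy]; group
  rw [mem_cent1', e, ← mul_assoc, mul_left_inj, ← inv_inj, mul_inv_rev, mul_inv_rev, inv_inv, hi,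
    eq_comm, ← eq_inv_mul_iff_mul_eq, hi, eq_comm, ← mul_assoc]

namespace R2
variable (h : R2 S A) {a b : G} (h4 : Four a b) (ha : a ∈ A) (hb : b ∈ A)
include h h4 ha hb

theorem K_inf : Kk A a ⊓ 𝐂[b] = ⊥ := (h.inverts h4 ha hb).inf_cent (h.odd_K ha)

theorem bad_K (hX : X ≠ ⊤) (hA : A ≤ X) (hg : ¬ Gb A X) : IsCyclic ↥(Kk A a ⊓ X) := by
  obtain ⟨n, hn, e⟩ := h.bad_trans hX hA hg ha hb h4.t1 h4.s1
  have h1 : Od X ≤ 𝐂(A) := h.le_cent_of_move (odd_Od X) (hA.trans (le_norm_Od X))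
    ⟨hn.2, le_norm_Od X hn.1⟩ fun hc => h4.ne (by rw [← e, ← mem_cent.1 hc a ha]; group)
  exact h.bad_cyc hX hA hg h4 ha hb (le_inf inf_le_right (inf_le_left.trans (h.K_le ha)))
    (odd_card_of_le (h.odd_K ha) inf_le_left) ((h.inverts h4 ha hb).mono inf_le_left)
    (le_bot_iff.1 ((inf_le_inf inf_le_left (h1.trans (U4.cent_le_cent1 hb))).trans
      (h.K_inf h4 ha hb).le))

end R2

theorem R2.mem_of_sq (h : R2 S A) {u : G} (hu : u ∈ 𝐂(A)) (u2 : u * u = 1) : u ∈ A := by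
  by_contra h0
  have hX : ∀ {u : G}, u ∉ A → ∀ y ∈ A, 𝐂[u * y] ≠ ⊤ := fun h0 y hy => h.mc.cent1_ne fun e =>
    h0 ((mul_mem_cancel_right hy).1 (e ▸ one_mem A))
  have hA : ∀ {u : G}, u ∈ 𝐂(A) → ∀ y ∈ A, A ≤ 𝐂[u * y] := fun hu y hy x hx =>
    mem_cent1_comm.1 (U4.cent_le_cent1 hx (mul_mem hu (h.el.le_cent hy)))
  wlog hg : ¬ Gb A 𝐂[u] generalizing u
  · obtain ⟨a, ha, hg⟩ := h.exists_bad hu u2 h0
    refine this (mul_mem hu (h.el.le_cent ha)) ?_ (fun e => h0 ((mul_mem_cancel_right ha).1 e)) hg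
    rw [mul_assoc, ← mul_assoc a, mem_cent.1 hu a ha, mul_assoc, h.el a ha, mul_one, u2]
  have hX1 : 𝐂[u] ≠ ⊤ := by simpa using hX h0 1 (one_mem A)
  have hA1 : A ≤ 𝐂[u] := by simpa using hA hu 1 (one_mem A)
  have hn : ∀ x ∈ A, x ≠ 1 → 𝐂(A) ≤ 𝐍(Kk A x) := fun x hx x1 =>
    (U4.cent_le_cent1 hx).trans (h.norm_K hx x1)
  have key : ∀ {a b : G}, Four a b → a ∈ A → b ∈ A → ∀ k ∈ Kk A a,
      (k ∈ 𝐂[u * b] ↔ u * k * u⁻¹ = k⁻¹) := fun h4 ha hb k hk =>
    inv_iff_cent u2 (h.inverts h4 ha hb k hk)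
  -- `u` inverts a nontrivial element of each `K_a`
  have h1 : ∀ {a b : G}, Four a b → a ∈ A → b ∈ A → Kk A a ⊓ 𝐂[u * b] ≠ ⊥ := fun {a b} h4 ha hb e => by
    have h2 : ¬ Kk A a ≤ 𝐂[u] := fun e' => h.not_cyclic ha h4.t1 (by
      have := h.bad_K h4 ha hb hX1 hA1 hg
      rwa [inf_eq_left.2 e'] at this)
    obtain ⟨i, hi, i1, e'⟩ := exists_inverted u2 (h.odd_K ha) (hn a ha h4.t1 hu) h2
    exact i1 (eq_one_of_mem_inf e hi ((key h4 ha hb i hi).2 e'))
  -- all `C(ub)` are bad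
  have h2 : ∀ {a b : G}, Four a b → a ∈ A → b ∈ A → IsCyclic ↥(Kk A a ⊓ 𝐂[u * b]) := by
    intro a b h4 ha hb
    refine h.bad_K h4 ha hb (hX h0 b hb) (hA hu b hb) fun hg' => ?_
    obtain ⟨d, hd, d1, h3⟩ := h.exists_le (odd_Od 𝐂[u * b]) ((hA hu b hb).trans (le_norm_Od _))
    have h5 : ∀ {a : G}, Four a b → a ∈ A → a = d := fun {a} h4 ha => by
      by_contra e
      have ho := odd_card_of_le (h.odd_K ha) (inf_le_left (b := 𝐂[u * b]))
      have h6 : Kk A a ⊓ 𝐂[u * b] ≤ ⁅Kk A a ⊓ 𝐂[u * b], A⁆ := fun x hx =>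
        commutator_mono le_rfl (zpowers_le.2 hb) (mem_commutator_of_inverted
          (odd_orderOf_of_mem ho hx) (h.inverts h4 ha hb x hx.1) hx)
      have h7 := h6.trans (h.gb_comm (hX h0 b hb) (hA hu b hb) hg' inf_le_right ho
        (H1.le_normalizer_inf (h.el.le_cent.trans (hn a ha h4.t1))
          ((hA hu b hb).trans le_normalizer)))
      exact h1 h4 ha hb (le_bot_iff.1 ((le_inf inf_le_left (h6.trans ((commutator_mono h7
        le_rfl).trans (h3.trans (h.K_le hd))))).trans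
          (h.K_inf (h.four ha hd h4.t1 d1 e) ha hd).le))
    exact h4.s1 (mul_eq_right.1 ((h5 h4.symm.mul.symm (mul_mem hb ha)).trans (h5 h4 ha).symm))
  obtain ⟨a, ha, a1⟩ : ∃ a ∈ A, a ≠ 1 := by
    by_contra! e
    exact h.sca.ne (eq_bot_of_forall e)
  obtain ⟨b, hb, h4⟩ := h.exists_four ha a1
  obtain ⟨p, hp, h5⟩ := Nat.exists_prime_and_dvd fun e => h1 h4 ha hb (card_eq_one.1 e)
  have := Fact.mk hp
  refine h.no_sign (p := p) (fun e => ?_) (Kk A) (fun n hn x => Kk_cj hn x) (fun x hx x1 => ?_) hu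
    u2 fun x hx x1 => ?_
  · exact (Nat.not_even_iff_odd.2 (odd_card_of_le (h.odd_K ha) inf_le_left))
      (even_iff_two_dvd.2 (e ▸ h5))
  · obtain ⟨y, hy, h6⟩ := h.exists_four hx x1
    exact (h.inverts h6 hx hy).le_cent
  · obtain ⟨n, hn, rfl⟩ := h.bad_trans hX1 hA1 hg ha hx a1 x1
    have hb' := conj_mem_of_mem_normalizer hn.2 hb
    have h6 := h2 (h4.conj n) hx hb'
    have h7 : Kk A (n * a * n⁻¹) ⊓ 𝐂[u * (n * b * n⁻¹)] = n •ᶜ (Kk A a ⊓ 𝐂[u * b]) := by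
      rw [map_conj_inf, Kk_cj hn.2, ← cent1_conj, ← mul_assoc, ← mul_assoc, ← mul_assoc n,
        mem_cent1.1 hn.1]
    have h8 : p ∣ Nat.card ↥(Kk A (n * a * n⁻¹) ⊓ 𝐂[u * (n * b * n⁻¹)]) := by
      rwa [h7, card_map_conj]
    let _ := h6.commGroup
    refine (Nat.card_congr ?_).trans ((IsCyclic.card_powMonoidHom_ker (G := ↥(Kk A (n * a * n⁻¹) ⊓
      𝐂[u * (n * b * n⁻¹)])) p).trans (Nat.gcd_eq_right h8))
    exact ⟨fun k => ⟨⟨k.1, k.2.1.1, (key (h4.conj n) hx hb' _ k.2.1.1).2 k.2.2⟩,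
      Subtype.ext k.2.1.2⟩, fun k => ⟨k.1.1, ⟨k.1.2.1, congrArg Subtype.val k.2⟩,
        (key (h4.conj n) hx hb' _ k.1.2.1).1 k.1.2.2⟩, fun _ => rfl, fun _ => rfl⟩

end CfsgLib.GO
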