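import Cfsg.Agent.Lib.Gol.L3

/-!
# Step B1: strongly closed elementary abelian subgroups of known groups
-/

set_option autoImplicit false

namespace CfsgLib.GO

open Subgroup Cfsg CfsgLib.FT CfsgLib.FT.BGN CfsgLib.Cop CfsgLib.GW CfsgLib.Wal
open CfsgLib.H1 (AbTwo CharIn layerIn genFitIn dSub)
open CfsgLib.FT.U4 (mem_cent1 mem_cent1' mem_cent mem_cent1_comm cent1_conj
  eq_one_of_mem_inf eq_bot_of_forall conj_mem_conj_iff orderOf_conj norm_le_norm_cent)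
open scoped commutatorElement

universe u

variable {G : Type u} [Group G]

/-- `X` is a known `S₃`-free group with `O(X) = 1`. -/
structure Loc (X : Subgroup G) : Prop where
  od : Od X = ⊥
  s3 : S3F X
  kg : KG X

/-- `A` is an elementary abelian `2`-subgroup of `X` which is strongly closed. -/
structure SCin (A X : Subgroup G) : Prop where
  el : El A
  le : A ≤ X
  sc : ∀ P : Subgroup G, IsPGroup 2 P → A ≤ P → P ≤ X → ∀ g ∈ X, ∀ a ∈ A,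
    g * a * g⁻¹ ∈ P → g * a * g⁻¹ ∈ A

/-- The decomposition `A = T × C_A(L)` for a component `L` not centralized by `A`. -/
structure Mov (X A L Q K T : Subgroup G) : Prop extends Tor X L Q K where
  an : A ≤ 𝐍(Q)
  qn : Q ≤ 𝐍(A)
  kn : K ≤ 𝐍(A)
  tle : T ≤ A ⊓ Q
  dec : ∀ a ∈ A, ∃ t ∈ T, t * a ∈ 𝐂(L)
  inf : T ⊓ 𝐂(L) = ⊥
  kt : K ≤ 𝐍(T)
  trt : ∀ t ∈ T, ∀ t' ∈ T, t ≠ 1 → t' ≠ 1 → ∃ k ∈ K, k * t * k⁻¹ = t'
  cov : ∀ x ∈ Q, x * x ∈ 𝐂(L) → ∃ t ∈ T, x * t⁻¹ ∈ 𝐂(L)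
  four : 4 ≤ Nat.card T

variable [Finite G] {X A L P Q K T : Subgroup G}

theorem SCin.mono (h : SCin A X) {Y : Subgroup G} (h1 : A ≤ Y) (h2 : Y ≤ X) : SCin A Y :=
  ⟨h.el, h1, fun P a b c g hg => h.sc P a b (c.trans h2) g (h2 hg)⟩

theorem SCin.norm (h : SCin A X) (hP : IsPGroup 2 P) (h1 : A ≤ P) (h2 : P ≤ X) {g : G}
    (hg : g ∈ X) (hn : g ∈ 𝐍(P)) : g ∈ 𝐍(A) := mem_normalizer_of_conj_mem fun a ha =>
  h.sc P hP h1 h2 g hg a ha (conj_mem_of_mem_normalizer hn (h1 ha))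

theorem SCin.le_norm (h : SCin A X) (hP : IsPGroup 2 P) (h1 : A ≤ P) (h2 : P ≤ X) : P ≤ 𝐍(A) :=
  fun _ hg => h.norm hP h1 h2 (h2 hg) (le_normalizer hg)

theorem SCin.le_norm' (h : SCin A X) (hP : IsPGroup 2 P) (h1 : A ≤ 𝐍(P)) (h2 : P ≤ X) :
    P ≤ 𝐍(A) := le_sup_left.trans
  (h.le_norm (isPGroup_sup' h1 hP h.el.isPGroup) le_sup_right (sup_le h2 h.le))

theorem SCin.bar (h : SCin A X) : SCin (im X A) ⊤ := by
  have := Fact.mk Nat.prime_two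
  refine ⟨h.el.im, le_top, fun P hP h1 _ g _ a ha h2 => ?_⟩
  obtain ⟨g, hg, rfl⟩ := br_surj g
  obtain ⟨a, h3, h4, rfl⟩ := mem_im.1 ha
  obtain ⟨S, h5, hS⟩ := IsSylowIn.exists_ge h.el.isPGroup ((le_pre h.le).2 h1)
  have h6 : g * a * g⁻¹ ∈ pre X P := mem_pre.2 ⟨mul_mem (mul_mem hg h4) (inv_mem hg),
    by rwa [br_conj hg h4]⟩
  obtain ⟨o, ho, h7⟩ := (hS.mono (K := Od X ⊔ S) le_sup_right
    (sup_le (Od_le_pre P) hS.le)).exists_conj_le (Q := zpowers (g * a * g⁻¹))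
    (el_zpowers (Invol.conj_mul_self (h.el a h3) g)).isPGroup (zpowers_le.2 (by
      have h8 : IsSylowIn 2 (im X S) P := by
        have := (hS.subgroupOf (pre_le P)).map (pr X)
        rwa [show ((pre X P).subgroupOf X).map (pr X) = P from im_pre P] at this
      rw [← pre_im (hS.le.trans (pre_le P)), ← h8.eq_of_le hP h8.le le_rfl]
      exact h6))
  have hSX := hS.le.trans (pre_le P)
  obtain ⟨u, hu, s, hs, rfl⟩ := mem_sup_norm (hSX.trans (le_norm_Od X)) ho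
  have h8 := h.sc S hS.isPGroup h5 hSX (u * s * g) (mul_mem (mul_mem (Od_le X hu) (hSX hs)) hg) a h3
    (by convert h7 (conj_mem_map_conj (mem_zpowers _)) using 1; group)
  have h9 := br_mem_im h8 (h.le h8)
  rw [br_conj (mul_mem (mul_mem (Od_le X hu) (hSX hs)) hg) h4,
    br_mul (mul_mem (Od_le X hu) (hSX hs)) hg, br_mul (Od_le X hu) (hSX hs),
    (br_eq_one (Od_le X hu)).2 hu, one_mul] at h9
  have h10 := conj_mem_of_mem_normalizer' (im_norm (X := X) (h.le_norm hS.isPGroup h5 hSX)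
    (br_mem_im hs (hSX hs))) h9
  convert h10 using 1; group

theorem loc_bar (h3 : S3F X) (hK : KG X) : Loc (⊤ : Subgroup (Bar X)) :=
  ⟨Od_bar X, (h3.quot _).subgroup _, (hK.quot _).subgroup _⟩

theorem _root_.CfsgLib.Wal.TC.layer_norm (h : TC X L) : layerIn X ≤ 𝐍(L) :=
  H1.layerIn_le_iff.2 fun J h1 h2 => by
    rcases TC.eq_or ⟨h1, h2⟩ h with rfl | e
    · exact le_normalizer
    · exact e.trans (cent_le_norm L)

theorem _root_.CfsgLib.Wal.TC.sylow (h : TC X L) (hP : IsSylowIn 2 P X) :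
    IsSylowIn 2 (P ⊓ L) L := by
  have h1 := H1.le_layerIn h.1 h.2
  have := (hP.inf_of_le_normalizer (H1.layerIn_le X) (hP.le.trans (le_normalizer.trans
    (H1.normalizer_le_normalizer_layerIn X)))).inf_of_le_normalizer h1
    (inf_le_right.trans h.layer_norm)
  rwa [inf_assoc, inf_of_le_right h1] at this

/-- An element fixing a noncentral element of a component normalizes it. -/
theorem _root_.CfsgLib.Wal.TC.mem_norm (h : TC X L) {g t : G} (hg : g ∈ 𝐍(X)) (ht : t ∈ L)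
    (h1 : t ∉ 𝐂(L)) (h2 : g * t * g⁻¹ ∈ L) : g ∈ 𝐍(L) := by
  rcases (h.cj' (inv_mem hg)).eq_or h with e | e
  · simpa using inv_mem (mem_normalizer_of_map_conj_eq e)
  · exact absurd (e (mem_map_conj_iff.2 (by simpa using h2))) h1

theorem Loc.cases (h : Loc X) (hL : TC X L) : SzT (Zq L) ∨ L3T (Zq L) :=
  h.kg _ hL.zq_involves (zq_simple hL.2) hL.zq_nonab

theorem Loc.exists_tor (h : Loc X) (hL : TC X L) (hQ : IsSylowIn 2 Q L) : ∃ K, Tor X L Q K := by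
  rcases h.cases hL with h1 | h1
  · exact (exists_stor hL h.od hQ h1).imp fun _ h => h.toTor
  · exact (exists_tor_of_not_eight hL h.od h.s3 hQ h1.not_eight_dvd).imp fun _ h => h.1

omit [Finite G] in
theorem Tor.exists_move (h : Tor X L Q K) {x : G} (hx : x ∈ Q) (h1 : x ∉ 𝐂(L))
    (h2 : x * x ∈ 𝐂(L)) : ∃ k ∈ K, k * x * k⁻¹ * x⁻¹ ∉ 𝐂(L) := by
  obtain ⟨y, hy, z, hz, y1, z1, yz, yy, zz⟩ := h.two
  obtain ⟨k, hk, h3⟩ := h.tr x hx y hy h1 y1 h2 yy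
  obtain ⟨l, hl, h4⟩ := h.tr x hx z hz h1 z1 h2 zz
  by_contra! h5
  refine yz ?_
  have := mul_mem (mul_mem (inv_mem h3) (h5 k hk)) (mul_mem (inv_mem (h5 l hl)) h4)
  convert this using 1; group

/-- (K1) `A` normalizes every component. -/
theorem Loc.norm_tc (h : Loc X) (hA : SCin A X) (hL : TC X L) : A ≤ 𝐍(L) := fun a ha => by
  have := Fact.mk Nat.prime_two
  obtain ⟨P, h1, hP⟩ := IsSylowIn.exists_ge hA.el.isPGroup hA.le
  obtain ⟨K, hK⟩ := h.exists_tor hL (hL.sylow hP)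
  rcases (hL.cj' (le_normalizer (hA.le ha))).eq_or hL with e | e
  · exact mem_normalizer_of_map_conj_eq e
  obtain ⟨x, hx, -, -, x1, -, -, xx, -⟩ := hK.two
  obtain ⟨k, hk, h2⟩ := hK.exists_move hx x1 xx
  have h3 := e (conj_mem_map_conj hx.2)
  have h4 : x * a * x⁻¹ * a ∈ A := mul_mem (conj_mem_of_mem_normalizer
    (hA.le_norm hP.isPGroup h1 hP.le hx.1) ha) ha
  have h5 := conj_mem_of_mem_normalizer (hK.norm hk) hx
  have h6 : k * (x * a * x⁻¹ * a) * k⁻¹ = k * x * k⁻¹ * (a * x * a⁻¹)⁻¹ := by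
    have := mem_cent.1 (inv_mem h3) _ (inv_mem (hK.le hk))
    rw [mul_assoc (k * x), this, hA.el.inv ha]
    simp [mul_assoc, hA.el.inv ha]
  have h7 := hA.sc P hP.isPGroup h1 hP.le k (hL.le (hK.le hk)) _ h4
    (h6 ▸ mul_mem h5.1 (inv_mem (mul_mem (mul_mem (h1 ha) hx.1) (inv_mem (h1 ha)))))
  have h8 : k * x * k⁻¹ * x⁻¹ ∈ A := by
    have := mul_mem h7 (inv_mem h4)
    rw [h6] at this
    convert this using 1
    rw [mul_inv_rev (x * a * x⁻¹), mul_inv_rev (x * a), mul_inv_rev x, hA.el.inv ha]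
    simp [mul_assoc, hA.el.inv ha, ← mul_assoc a a, hA.el a ha]
  refine absurd (e (mem_map_conj_iff.2 ?_)) h2
  rw [mul_assoc a⁻¹, hA.el.comm h8 ha, inv_mul_cancel_left]
  exact mul_mem h5.2 (inv_mem hx.2)

theorem Tor.mem_of_norm (h : Tor X L Q K) {l : G} (hl : l ∈ L) (h1 : l ∈ 𝐍(Q)) {n : ℕ}
    (h2 : l ^ 2 ^ n ∈ 𝐂(L)) : l ∈ Q := by
  have := Fact.mk Nat.prime_two
  obtain ⟨k, hk⟩ := h.syl.isPGroup ⟨_, h.zle ⟨pow_mem hl _, h2⟩⟩
  have h3 : IsPGroup 2 (zpowers l) := H1.isPGroup_zpowers_of_pow (k := n + k)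
    (by rw [pow_add, pow_mul]; exact congrArg Subtype.val hk)
  exact (h.syl.eq_of_le (isPGroup_sup' (zpowers_le.2 h1) h.syl.isPGroup h3) le_sup_left
    (sup_le h.syl.le (zpowers_le.2 hl))).le (mem_sup_right (mem_zpowers l))

/-- A `2`-element normalizing `L` and `Q` acts on `L` as an element of `Q`. -/
theorem Tor.dec (h : Tor X L Q K) {g : G} (hg : g ∈ X) (h1 : g ∈ 𝐍(L)) (h2 : g ∈ 𝐍(Q)) {n : ℕ}
    (h3 : g ^ 2 ^ n ∈ 𝐂(L)) : ∃ l ∈ Q, l⁻¹ * g ∈ 𝐂(L) ∧ l ^ 2 ^ n ∈ 𝐂(L) := by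
  obtain ⟨l, hl, h4⟩ := h.inn g hg h1 n h3
  have h5 : l ^ 2 ^ n ∈ 𝐂(L) := by
    have h6 : Commute l (l⁻¹ * g) := mem_cent.1 h4 l hl
    have := h6.mul_pow (2 ^ n)
    rw [mul_inv_cancel_left, ← mul_inv_eq_iff_eq_mul] at this
    exact this ▸ mul_mem h3 (inv_mem (pow_mem h4 _))
  refine ⟨l, h.mem_of_norm hl ?_ h5, h4, h5⟩
  simpa using mul_mem h2 (inv_mem (cent_le_norm Q (centralizer_le h.syl.le h4)))

/-- (K3) -/
theorem Tor.exists_mov (h : Tor X L (P ⊓ L) K) (hA : SCin A X) (hP : IsPGroup 2 P) (h1 : A ≤ P)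
    (h2 : P ≤ X) (hn : A ≤ 𝐍(L)) (hm : ¬ A ≤ 𝐂(L)) : ∃ T, Mov X A L (P ⊓ L) K T := by
  have an : A ≤ 𝐍(P ⊓ L) := H1.le_normalizer_inf (h1.trans le_normalizer) hn
  have dec : ∀ a ∈ A, ∃ l ∈ P ⊓ L, l⁻¹ * a ∈ 𝐂(L) ∧ l * l ∈ 𝐂(L) := fun a ha => by
    simpa [sq] using h.dec (n := 1) (hA.le ha) (hn ha) (an ha)
      (by rw [pow_one, sq, hA.el a ha]; exact one_mem _)
  have kn : K ≤ 𝐍(A) := fun k hk => mem_normalizer_of_conj_mem fun a ha => by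
    obtain ⟨l, hl, h3, -⟩ := dec a ha
    refine hA.sc P hP h1 h2 k (h.tc.le (h.le hk)) a ha ?_
    rw [show k * a * k⁻¹ = k * l * ((l⁻¹ * a) * k⁻¹) by group,
      ← mem_cent.1 h3 _ (inv_mem (h.le hk)), ← mul_assoc]
    exact mul_mem (conj_mem_of_mem_normalizer (h.norm hk) hl).1 (mul_mem (inv_mem hl.1) (h1 ha))
  have hc := (hA.el.coprime h.odd).symm
  have cd : A ⊓ 𝐂(K) ≤ 𝐂(L) := fun a ha => by
    obtain ⟨l, hl, h3, h4⟩ := dec a ha.1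
    by_cases h5 : l ∈ 𝐂(L)
    · simpa using mul_mem h5 h3
    obtain ⟨k, hk, h6⟩ := h.exists_move hl h5 h4
    have h7 : l ∈ 𝐂(K) := by
      simpa using mul_mem (mem_inf.1 ha).2 (inv_mem (centralizer_le h.le h3))
    rw [mem_cent.1 h7 k hk] at h6
    exact absurd (by simp) h6
  have tA : ⁅A, K⁆ ≤ A := commutator_le_left_of_le_normalizer kn
  have tL : ⁅A, K⁆ ≤ L := commutator_le.2 fun a ha k hk => comm_mem_right (hn ha) (h.le hk)
  have inf : ⁅A, K⁆ ⊓ 𝐂(L) = ⊥ := le_bot_iff.1 ((inf_le_inf_left _ (centralizer_le h.le)).trans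
    (commutator_inf_centralizer_eq_bot kn hc hA.el.mulComm).le)
  have dec' : ∀ a ∈ A, ∃ t ∈ ⁅A, K⁆, t * a ∈ 𝐂(L) := fun a ha => by
    obtain ⟨t, ht, d, hd, rfl⟩ := hA.el.mem_sup tA inf_le_left
      ((commutator_sup_centralizer kn hc (Or.inr hA.el.solv)).ge ha)
    exact ⟨t, ht, by rw [← mul_assoc, hA.el t (tA ht), one_mul]; exact cd hd⟩
  have kt : K ≤ 𝐍(⁅A, K⁆) := normalizer_commutator_ge_right A K
  have tQ : ⁅A, K⁆ ≤ P ⊓ L := le_inf (tA.trans h1) tL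
  have tt : ∀ t ∈ ⁅A, K⁆, t * t ∈ 𝐂(L) := fun t ht => hA.el t (tA ht) ▸ one_mem _
  have tc : ∀ t ∈ ⁅A, K⁆, t ≠ 1 → t ∉ 𝐂(L) := fun t ht t1 e => t1 (eq_one_of_mem_inf inf ht e)
  obtain ⟨t₀, t1, t2⟩ : ∃ t ∈ ⁅A, K⁆, t ∉ 𝐂(L) := by
    by_contra! h3
    refine hm fun a ha => ?_
    obtain ⟨t, ht, h4⟩ := dec' a ha
    simpa using mul_mem (inv_mem (h3 t ht)) h4
  have cov : ∀ x ∈ P ⊓ L, x * x ∈ 𝐂(L) → ∃ t ∈ ⁅A, K⁆, x * t⁻¹ ∈ 𝐂(L) := fun x hx xx => by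
    by_cases h3 : x ∈ 𝐂(L)
    · exact ⟨1, one_mem _, by simpa using h3⟩
    obtain ⟨k, hk, h4⟩ := h.tr t₀ (tQ t1) x hx t2 h3 (tt _ t1) xx
    exact ⟨_, conj_mem_of_mem_normalizer (kt hk) t1, by simpa using inv_mem h4⟩
  refine ⟨⁅A, K⁆, h, an, inf_le_left.trans (hA.le_norm hP h1 h2), kn, le_inf tA tQ, dec', inf, kt,
    fun t ht t' ht' a b => ?_, cov, ?_⟩
  · obtain ⟨k, hk, h3⟩ := h.tr t (tQ ht) t' (tQ ht') (tc t ht a) (tc t' ht' b) (tt t ht) (tt t' ht')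
    exact ⟨k, hk, mul_inv_eq_one.1 (eq_one_of_mem_inf inf
      (mul_mem (conj_mem_of_mem_normalizer (kt hk) ht) (inv_mem ht')) h3)⟩
  · obtain ⟨x, hx, y, hy, x1, y1, xy, xx, yy⟩ := h.two
    obtain ⟨s, hs, h3⟩ := cov x hx xx
    obtain ⟨t, ht, h4⟩ := cov y hy yy
    have hF := hA.el.four (tA hs) (tA ht) (fun e => x1 (by simpa [e] using h3))
      (fun e => y1 (by simpa [e] using h4)) fun e => xy (by
        simpa [e, mul_assoc] using mul_mem h3 (inv_mem h4))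
    exact hF.card_V ▸ card_le_of_le (V_le hs ht)

theorem Loc.exists_mov (h : Loc X) (hA : SCin A X) (hL : TC X L) (hm : ¬ A ≤ 𝐂(L))
    (hP : IsSylowIn 2 P X) (h1 : A ≤ P) : ∃ K T, Mov X A L (P ⊓ L) K T :=
  let ⟨K, hK⟩ := h.exists_tor hL (hL.sylow hP)
  ⟨K, hK.exists_mov hA hP.isPGroup h1 hP.le (h.norm_tc hA hL) hm⟩

theorem Loc.exists_mov' (h : Loc X) (hA : SCin A X) (hL : TC X L) (hm : ¬ A ≤ 𝐂(L)) :
    ∃ Q K T, Mov X A L Q K T :=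
  haveI := Fact.mk Nat.prime_two
  let ⟨_, h1, hP⟩ := IsSylowIn.exists_ge hA.el.isPGroup hA.le
  ⟨_, h.exists_mov hA hL hm hP h1⟩

theorem Loc.exists_smov (h : Loc X) (hA : SCin A X) (hL : TC X L) (hm : ¬ A ≤ 𝐂(L))
    (hs : SzT (Zq L)) : ∃ Q K T, Mov X A L Q K T ∧ STor X L Q K := by
  have := Fact.mk Nat.prime_two
  obtain ⟨P, h1, hP⟩ := IsSylowIn.exists_ge hA.el.isPGroup hA.le
  obtain ⟨K, hK⟩ := exists_stor hL h.od (hL.sylow hP) hs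
  obtain ⟨T, hT⟩ := hK.toTor.exists_mov hA hP.isPGroup h1 hP.le (h.norm_tc hA hL) hm
  exact ⟨_, K, T, hT, hK⟩

theorem Loc.eq_bot (h : Loc X) {W : Subgroup G} (hW : W ≤ X) (ho : Odd (Nat.card W))
    (h1 : ∀ J, TC X J → W ≤ 𝐂(J)) (h2 : W ≤ 𝐂(pCoreOf 2 X)) : W = ⊥ := by
  have := Fact.mk Nat.prime_two
  have h3 : ∀ (q : ℕ) [Fact q.Prime], q ≠ 2 → pCoreOf q X = ⊥ := fun q hq h4 =>
    le_bot_iff.1 (h.od ▸ pCoreOf_le_Od hq.1 h4 X)
  refine eq_bot_of_odd_of_two ho (H1.pCoreOf_isPGroup X) ((le_inf hW (le_cent_genFit h1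
    fun q _ => ?_)).trans ((H1.inf_centralizer_genFitIn_le X).trans
      (H1.fittingOf_le_of_forall fun q _ => ?_)))
  · by_cases e : q = 2
    · subst e; exact h2
    · rw [h3 q e, ← le_centralizer_iff]; exact bot_le
  · by_cases e : q = 2
    · subst e; exact le_rfl
    · simp [h3 q e]

theorem Loc.mem_pc (h : Loc X) (hA : SCin A X) {b : G} (hb : b ∈ A)
    (h1 : ∀ J, TC X J → b ∈ 𝐂(J)) : b ∈ pCoreOf 2 X := by
  have := Fact.mk Nat.prime_two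
  set R := pCoreOf 2 X
  have hR : X ≤ 𝐍(R) := H1.le_normalizer_pCoreOf X
  have h2 := isPGroup_sup' (hA.le.trans hR) (H1.pCoreOf_isPGroup X) hA.el.isPGroup
  have h3 : R ⊔ A ≤ X := sup_le (H1.pCoreOf_le X) hA.le
  have hV : X ≤ 𝐍(A ⊓ R) := fun g hg => mem_normalizer_of_conj_mem fun a ha =>
    have := conj_mem_of_mem_normalizer (hR hg) ha.2
    ⟨hA.sc _ h2 le_sup_right h3 g hg a ha.1 (mem_sup_left this), this⟩
  have hE : X ≤ 𝐍(layerIn X) := le_normalizer.trans (H1.normalizer_le_normalizer_layerIn X)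
  refine H1.le_pCoreOf (A := X ⊓ 𝐂(layerIn X) ⊓ (𝐂(A ⊓ R) ⊓ H1.centMod R (A ⊓ R)))
    (inf_le_left.trans inf_le_left) (H1.le_normalizer_inf (H1.le_normalizer_inf le_normalizer
      (H1.le_normalizer_centralizer hE)) (H1.le_normalizer_inf (H1.le_normalizer_centralizer hV)
        (le_normalizer_centMod hR hV)))
    (H5.isPGroup_of_forall_coprime fun y hy hc => ?_)
    ⟨⟨hA.le hb, le_centralizer_iff.1 (H1.layerIn_le_iff.2 fun J a b => le_centralizer_iff.1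
      (zpowers_le.2 (h1 J ⟨a, b⟩))) (mem_zpowers b)⟩, hA.el.le_cent' le_rfl inf_le_left hb,
      hV (hA.le hb), fun f hf => ⟨comm_mem_right (le_sup_left.trans
        (hA.le_norm h2 le_sup_right h3) hf) hb, comm_mem_left hf (hR (hA.le hb))⟩⟩
  rw [← Nat.card_zpowers] at hc
  refine zpowers_eq_bot.1 (h.eq_bot (zpowers_le.2 hy.1.1) (Nat.coprime_two_right.1 hc)
    (fun J hJ => zpowers_le.2 (centralizer_le (H1.le_layerIn hJ.1 hJ.2) hy.1.2)) ?_)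
  obtain ⟨k, hk⟩ := (H1.pCoreOf_isPGroup (p := 2) X).exists_card_eq
  rw [← le_centralizer_iff, ← comm_eq_bot_iff]
  refine commutator_eq_bot_of_commutator_commutator_eq_bot (zpowers_le.2 (hR hy.1.1))
    (hk ▸ hc.pow_right k) (comm_eq_bot_iff.2 (le_trans (commutator_le.2 fun f hf z hz => ?_)
      (le_centralizer_iff.1 (zpowers_le.2 hy.2.1))))
  exact (zpowers_le.2 hy.2.2 hz).2 f hf

/-- (K4) -/
theorem Loc.le_genFit (h : Loc X) (hA : SCin A X) : A ≤ layerIn X ⊔ pCoreOf 2 X := by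
  suffices H : ∀ n, ∀ a ∈ A, {J | TC X J ∧ a ∉ 𝐂(J)}.ncard = n → a ∈ layerIn X ⊔ pCoreOf 2 X from
    fun a ha => H _ a ha rfl
  intro n
  induction n using Nat.strong_induction_on with | _ n ih
  intro a ha hn
  by_cases h1 : ∀ J, TC X J → a ∈ 𝐂(J)
  · exact mem_sup_right (h.mem_pc hA ha h1)
  push Not at h1
  obtain ⟨J, hJ, h1⟩ := h1
  obtain ⟨Q, K, T, m⟩ := h.exists_mov' hA hJ fun e => h1 (e ha)
  obtain ⟨t, ht, h2⟩ := m.dec a ha
  have h3 := m.syl.le (m.tle ht).2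
  have h4 := ih _ (hn ▸ Set.ncard_lt_ncard (s := {J | TC X J ∧ t * a ∉ 𝐂(J)}) ⟨fun J' hJ' =>
    ⟨hJ'.1, fun e => by
      rcases hJ.eq_or hJ'.1 with rfl | e'
      · exact hJ'.2 h2
      · exact hJ'.2 (mul_mem (e' h3) e)⟩, fun e => (e ⟨hJ, h1⟩).2 h2⟩) _
    (mul_mem (m.tle ht).1 ha) rfl
  simpa using mul_mem (inv_mem (mem_sup_left (H1.le_layerIn hJ.1 hJ.2 h3))) h4

/-- `X` is generated by its components and `N_X(A)`. -/
theorem Loc.gen (h : Loc X) (hA : SCin A X) {M : Subgroup G} (h1 : ∀ J, TC X J → J ≤ M)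
    (h2 : X ⊓ 𝐍(A) ≤ M) : X ≤ M := by
  have := Fact.mk Nat.prime_two
  have h3 : layerIn X ⊔ pCoreOf 2 X ≤ X := sup_le (H1.layerIn_le X) (H1.pCoreOf_le X)
  obtain ⟨P, h4, hP⟩ := IsSylowIn.exists_ge hA.el.isPGroup (h.le_genFit hA)
  refine (hP.frattini_le h3 (H1.le_normalizer_sup (le_normalizer.trans
    (H1.normalizer_le_normalizer_layerIn X)) (H1.le_normalizer_pCoreOf X))).trans
    (sup_le (sup_le (H1.layerIn_le_iff.2 fun J a b => h1 J ⟨a, b⟩) (le_trans (le_inf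
      (H1.pCoreOf_le X) (hA.le_norm' (H1.pCoreOf_isPGroup X) (hA.le.trans
        (H1.le_normalizer_pCoreOf X)) (H1.pCoreOf_le X))) h2)) fun g hg =>
      h2 ⟨hg.1, hA.norm hP.isPGroup h4 (hP.le.trans h3) hg.1 hg.2⟩)

end CfsgLib.GO
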