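import Cfsg.Agent.Lib.Gol.Core2

/-!
# Step B1: strongly closed subgroups of rank at most two; the case of `3'`-groups
-/

set_option autoImplicit false

namespace CfsgLib.GO

open Subgroup Cfsg CfsgLib.FT CfsgLib.FT.BGN CfsgLib.Cop CfsgLib.GW CfsgLib.Wal
open CfsgLib.H1 (AbTwo CharIn layerIn genFitIn dSub)
open CfsgLib.FT.U4 (mem_cent1 mem_cent1' mem_cent mem_cent1_comm cent1_conj
  eq_one_of_mem_inf eq_bot_of_forall conj_mem_conj_iff orderOf_conj norm_le_norm_cent)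
open scoped commutatorElement

universe u

variable {G : Type u} [Group G] [Finite G] {S A : Subgroup G}

theorem MC.od_top (h : MC G) : Od (⊤ : Subgroup G) = ⊥ := by
  by_contra e
  exact h.norm_odd_ne e (odd_Od _) (top_le_iff.1 (le_norm_Od _))

theorem SCA.four_le (hA : SCA S A) (h : MC G) : 4 ≤ Nat.card A := by
  have := Fact.mk Nat.prime_two
  obtain ⟨a, ha, a1, -⟩ := hA.exists_cent
  have hE := hA.el
  refine (le_zp_or hE ha a1).resolve_left fun e => h.cent1_ne a1 (eq_top_iff.2 fun g _ => ?_)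
  have h1 := Blk.glauberman_zstar G a (hE.ord ha a1) (fun k hk => by
    have h1 := el_zpowers (Invol.conj_mul_self (hE a ha) k)
    have h2 := (hA.scin le_top).sc _ (hE.sup h1 (zpowers_le.2 (centralizer_le e
      ((cent_zpowers a).ge (mem_cent1'.2 hk))))).isPGroup le_sup_left le_top k (mem_top k) a ha
      (mem_sup_right (mem_zpowers _))
    exact (hE.mem_zp ha (e h2)).resolve_left (by simpa using a1)) g
  rw [pPrimeCore_eq_piCore, ← H1.piCoreOf_top] at h1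
  have h2 := mem_bot.1 (h.od_top.le h1)
  rw [mul_inv_eq_one, mul_inv_eq_iff_eq_mul] at h2
  exact mem_cent1.2 h2

theorem Irr.exists_move (hi : Irr A) (hE : El A) (h4 : 4 ≤ Nat.card A) {a : G} (ha : a ∈ A)
    (a1 : a ≠ 1) : ∃ n ∈ 𝐍(A), n * a * n⁻¹ ≠ a := by
  by_contra! h2
  rcases hi _ (zpowers_le.2 ha) (norm_zp fun n hn =>
    mem_cent1.2 (mul_inv_eq_iff_eq_mul.1 (h2 n hn))) with e | e
  · exact a1 (zpowers_eq_bot.1 e)
  · rw [← e, card_zpowers_inv (hE.ord ha a1)] at h4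
    omega

theorem mem_four (hE : El A) (h4 : Nat.card A = 4) {u v x : G} (hu : u ∈ A) (hv : v ∈ A)
    (u1 : u ≠ 1) (v1 : v ≠ 1) (h : u ≠ v) (hx : x ∈ A) (x1 : x ≠ 1) :
    x = u ∨ x = v ∨ x = u * v := by
  have hF := hE.four hu hv u1 v1 h
  exact (hF.mem_V.1 ((eq_of_le_of_card_ge (V_le hu hv) (by rw [h4, hF.card_V])).ge
    hx)).resolve_left x1

theorem Irr.trans4 (hi : Irr A) (hE : El A) (h4 : Nat.card A = 4) {u v : G} (hu : u ∈ A)
    (hv : v ∈ A) (u1 : u ≠ 1) (v1 : v ≠ 1) : ∃ n ∈ 𝐍(A), n * u * n⁻¹ = v := by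
  by_contra! h
  have h1 : u ≠ v := by simpa using h 1 (one_mem _)
  obtain ⟨n, hn, h2⟩ := hi.exists_move hE h4.ge hu u1
  obtain ⟨m, hm, h3⟩ := hi.exists_move hE h4.ge hv v1
  have h5 := ((mem_four hE h4 hu hv u1 v1 h1 (conj_mem_of_mem_normalizer hn hu)
    (by simpa using u1)).resolve_left h2).resolve_left (h n hn)
  rcases mem_four hE h4 hu hv u1 v1 h1 (conj_mem_of_mem_normalizer hm hv) (by simpa using v1)
    with e | e | e
  · exact h m⁻¹ (inv_mem hm) (by rw [← e]; group)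
  · exact h3 e
  · refine h (m⁻¹ * n) (mul_mem (inv_mem hm) hn) ?_
    calc _ = m⁻¹ * (n * u * n⁻¹) * m := by group
      _ = v := by rw [h5, ← e]; group

theorem Irr.exists_fpf (hi : Irr A) (hE : El A) (h4 : Nat.card A = 4) :
    ∃ ρ ∈ 𝐍(A), (∃ k, ρ ^ 3 ^ k = 1) ∧ A ⊓ 𝐂[ρ] = ⊥ := by
  obtain ⟨u, hu, v, hv, hF⟩ := hE.exists_four' h4.ge
  have key : ∀ n ∈ 𝐍(A), n * u * n⁻¹ ≠ u → n * v * n⁻¹ ≠ v → n * (u * v) * n⁻¹ ≠ u * v →
      A ⊓ 𝐂[n] = ⊥ := fun n hn a b c => eq_bot_of_forall fun x hx => by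
    by_contra x1
    have := mul_inv_eq_iff_eq_mul.2 (mem_cent1'.1 hx.2)
    rcases mem_four hE h4 hu hv hF.t1 hF.s1 hF.ne hx.1 x1 with rfl | rfl | rfl <;> contradiction
  have uv : u * v ≠ u := by simpa using hF.s1
  have vu : u * v ≠ v := by simpa using hF.t1
  obtain ⟨ρ, h1, h2⟩ : ∃ ρ ∈ 𝐍(A), A ⊓ 𝐂[ρ] = ⊥ := by
    obtain ⟨n, hn, e1⟩ := hi.trans4 hE h4 hu hv hF.t1 hF.s1
    obtain ⟨m, hm, e2⟩ := hi.trans4 hE h4 hv (mul_mem hu hv) hF.s1 hF.ts1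
    by_cases a : n * (u * v) * n⁻¹ = u * v
    swap
    · exact ⟨n, hn, key n hn (e1 ▸ hF.ne.symm) (fun e => hF.ne (by
        simpa using e1.trans e.symm)) a⟩
    by_cases b : m * u * m⁻¹ = u
    swap
    · exact ⟨m, hm, key m hm b (e2 ▸ vu) fun e => vu (by simpa using e.trans e2.symm)⟩
    have c : n * v * n⁻¹ = u := by
      rw [← _root_.conj_mul, e1, hF.comm, mul_right_inj] at a; exact a
    have d : m * (u * v) * m⁻¹ = v := by
      rw [← _root_.conj_mul, b, e2, ← mul_assoc, hF.tt, one_mul]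
    have e : ∀ x, m * n * x * (m * n)⁻¹ = m * (n * x * n⁻¹) * m⁻¹ := fun x => by group
    exact ⟨m * n, mul_mem hm hn, key _ (mul_mem hm hn) (by rwa [e, e1, e2])
      (by rw [e, c, b]; exact hF.ne) (by rw [e, a, d]; exact vu.symm)⟩
  obtain ⟨k, m, hm, e⟩ := Nat.exists_eq_pow_mul_and_not_dvd (orderOf_pos ρ).ne' 3 (by norm_num)
  refine ⟨ρ ^ m, pow_mem h1 m, ⟨k, by rw [← pow_mul, mul_comm, ← e, pow_orderOf_eq_one]⟩,
    eq_bot_of_forall fun x hx => ?_⟩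
  by_contra x1
  obtain ⟨a, -, b⟩ := four_of_fpf h4 h1 h2 hx.1 (hE.ord hx.1 x1)
  have c : ρ ^ 3 ∈ 𝐂[x] := mem_cent1.2 (mul_inv_eq_iff_eq_mul.1 (by
    calc _ = ρ * (ρ * (ρ * x * ρ⁻¹) * ρ⁻¹) * ρ⁻¹ := by rw [pow_succ, sq]; group
      _ = x := by
        rw [b, ← _root_.conj_mul, b, ← mul_assoc, ← a.comm, mul_assoc x, a.ss, mul_one]))
  refine x1 (eq_one_of_mem_inf h2 hx.1 (mem_cent1_comm.1 ?_))
  have h3 := Nat.gcd_eq_gcd_ab 3 m
  rw [(Nat.prime_three.coprime_iff_not_dvd).2 hm] at h3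
  have := mul_mem (zpow_mem c (Nat.gcdA 3 m)) (zpow_mem (mem_cent1_comm.1 hx.2) (Nat.gcdB 3 m))
  rwa [← zpow_natCast, ← zpow_natCast, ← zpow_mul, ← zpow_mul, ← zpow_add, ← h3, Nat.cast_one,
    zpow_one] at this

theorem three_dvd_of_fpf {E : Subgroup G} (h0 : E ≠ ⊥) {ρ : G} {k : ℕ} (h1 : ρ ^ 3 ^ k = 1)
    (h2 : E ⊓ 𝐂[ρ] = ⊥) : 3 ∣ orderOf ρ := by
  obtain ⟨j, -, h3⟩ := (Nat.dvd_prime_pow Nat.prime_three).1 (orderOf_dvd_of_pow_eq_one h1)
  rcases j with _ | j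
  · rw [pow_zero, orderOf_eq_one_iff] at h3
    exact absurd (eq_bot_of_forall fun x hx =>
      eq_one_of_mem_inf h2 hx (mem_cent1.2 (by simp [h3]))) h0
  · exact h3 ▸ dvd_pow_self 3 j.succ_ne_zero

theorem three_dvd_of_not_eight [IsSimpleGroup G] (hn : ¬ IsMulCommutative G)
    (h8 : ¬ 8 ∣ Nat.card G) : 3 ∣ Nat.card G := by
  have := Fact.mk Nat.prime_two
  have := topEquiv (G := G).isSimpleGroup
  obtain ⟨Q, hQ⟩ := IsSylowIn.exists_in (p := 2) (⊤ : Subgroup G)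
  obtain ⟨h4, ρ, -, ⟨k, h2⟩, h3⟩ := exists_three_of_not_eight (K := ⊤) (by rwa [card_top])
    (not_hnpc_of_simple fun hc => hn ⟨⟨fun a b => congrArg Subtype.val
      (hc.is_comm.comm ⟨a, trivial⟩ ⟨b, trivial⟩)⟩⟩) hQ
  exact (three_dvd_of_fpf (fun e => by rw [e, card_bot] at h4; omega) h2 h3).trans
    (orderOf_dvd_natCard ρ)

theorem Loc.good_of_three {X : Subgroup G} (h : Loc X) (h3 : ¬ 3 ∣ Nat.card X) : Good A X :=
  fun L hL _ => (h.cases hL).resolve_right fun e => by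
    have := zq_simple hL.2
    exact h3 ((three_dvd_of_not_eight hL.zq_nonab e.not_eight_dvd).trans
      ((card_quotient_dvd_card _).trans (card_dvd_of_le hL.le)))

theorem MC.sylow_ne (h : MC G) (hS : IsSylowIn 2 S ⊤) : S ≠ ⊥ := fun e =>
  h.not_solv (solvable_of_odd (Nat.odd_iff.2 (Nat.two_dvd_ne_zero.1
    (IsSylowIn.bot_iff.1 (e ▸ hS)))))

theorem eight_le (hE : El A) (h : 4 ≤ Nat.card A) (h4 : Nat.card A ≠ 4) : 8 ≤ Nat.card A := by
  have := Fact.mk Nat.prime_two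
  obtain ⟨k, hk⟩ := hE.isPGroup.exists_card_eq
  rw [hk] at h h4 ⊢
  rcases k with _ | _ | _ | k
  · omega
  · omega
  · omega
  · exact Nat.pow_le_pow_right two_pos (by omega : 3 ≤ k + 1 + 1 + 1)

theorem MC.zd_of_three (h : MC G) (h3 : ¬ 3 ∣ Nat.card G) :
    ∃ S A M : Subgroup G, SCA S A ∧ ZD A M := by
  have := Fact.mk Nat.prime_two
  obtain ⟨S⟩ := (inferInstance : Nonempty (Sylow 2 G))
  obtain ⟨B, hB, -⟩ := h.exists_sca S (h.sylow_ne (IsSylowIn.sylow_top S))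
  obtain ⟨A, -, hA, hi⟩ := hB.exists_irr
  obtain ⟨M, hM⟩ := h.core hA (eight_le hA.el (hA.four_le h) fun e => by
    obtain ⟨ρ, -, ⟨k, h1⟩, h2⟩ := Irr.exists_fpf hi hA.el e
    exact h3 ((three_dvd_of_fpf hA.ne h1 h2).trans (orderOf_dvd_natCard ρ))) hi
    (fun a _ a1 => (h.loc_bar (h.cent1_ne a1)).good_of_three fun e => h3 (e.trans
      ((card_subgroup_dvd_card _).trans
        ((card_quotient_dvd_card _).trans (card_subgroup_dvd_card _)))))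
    fun a _ a1 e => (h.loc (h.cent1_ne a1) e).good_of_three fun e =>
      h3 (e.trans (card_subgroup_dvd_card _))
  exact ⟨S, A, M, hA, hM⟩

end CfsgLib.GO
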