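import Cfsg.Agent.Lib.Gol.Sz

/-!
# Step B1: components of Suzuki type, inside an ambient group
-/

set_option autoImplicit false

namespace CfsgLib.GO

open Subgroup Cfsg CfsgLib.FT CfsgLib.FT.BGN CfsgLib.Cop CfsgLib.GW CfsgLib.Wal
open CfsgLib.H1 (AbTwo CharIn layerIn genFitIn dSub)
open CfsgLib.FT.U4 (mem_cent1 mem_cent1' mem_cent mem_cent1_comm cent1_conj
  eq_one_of_mem_inf eq_bot_of_forall conj_mem_conj_iff orderOf_conj norm_le_norm_cent)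
open scoped commutatorElement

universe u

section Zq

variable {G : Type*} [Group G]

instance zq_normal (L : Subgroup G) : ((𝐂(L)).subgroupOf L).Normal :=
  (normal_subgroupOf_iff_le_normalizer_inf).2
    (H1.le_normalizer_inf (le_normalizer.trans (norm_le_norm_cent L)) le_normalizer)

/-- `L / Z(L)`. -/
abbrev Zq (L : Subgroup G) := L ⧸ (𝐂(L)).subgroupOf L

open Classical in
/-- The image in `L / Z(L)`. -/
noncomputable def bz (L : Subgroup G) (x : G) : Zq L :=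
  if h : x ∈ L then QuotientGroup.mk' _ ⟨x, h⟩ else 1

/-- The image of a subgroup in `L / Z(L)`. -/
def iz (L Q : Subgroup G) : Subgroup (Zq L) := (Q.subgroupOf L).map (QuotientGroup.mk' _)

variable {L Q : Subgroup G}

theorem bz_of_mem {x : G} (h : x ∈ L) : bz L x = QuotientGroup.mk' _ ⟨x, h⟩ := dif_pos h

theorem bz_mul {x y : G} (hx : x ∈ L) (hy : y ∈ L) : bz L (x * y) = bz L x * bz L y := by
  rw [bz_of_mem hx, bz_of_mem hy, bz_of_mem (mul_mem hx hy), ← map_mul]; rfl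

theorem bz_inv {x : G} (hx : x ∈ L) : bz L x⁻¹ = (bz L x)⁻¹ := by
  rw [bz_of_mem hx, bz_of_mem (inv_mem hx), ← map_inv]; rfl

theorem bz_zpow {x : G} (hx : x ∈ L) (n : ℤ) : bz L (x ^ n) = bz L x ^ n := by
  rw [bz_of_mem hx, bz_of_mem (zpow_mem hx n), ← map_zpow]; rfl

theorem bz_pow {x : G} (hx : x ∈ L) (n : ℕ) : bz L (x ^ n) = bz L x ^ n := by
  simpa using bz_zpow hx n

theorem bz_eq_one {x : G} (hx : x ∈ L) : bz L x = 1 ↔ x ∈ 𝐂(L) := by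
  rw [bz_of_mem hx, QuotientGroup.mk'_apply, QuotientGroup.eq_one_iff, mem_subgroupOf]

theorem bz_sq {x : G} (hx : x ∈ L) : bz L x * bz L x = 1 ↔ x * x ∈ 𝐂(L) := by
  rw [← bz_mul hx hx, bz_eq_one (mul_mem hx hx)]

theorem bz_eq {x y : G} (hx : x ∈ L) (hy : y ∈ L) : bz L x = bz L y ↔ x * y⁻¹ ∈ 𝐂(L) := by
  rw [← bz_eq_one (mul_mem hx (inv_mem hy)), bz_mul hx (inv_mem hy), bz_inv hy, mul_inv_eq_one]

theorem bz_conj {g x : G} (hg : g ∈ L) (hx : x ∈ L) :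
    bz L (g * x * g⁻¹) = bz L g * bz L x * (bz L g)⁻¹ := by
  rw [bz_mul (mul_mem hg hx) (inv_mem hg), bz_mul hg hx, bz_inv hg]

theorem bz_comm {x y : G} (hx : x ∈ L) (hy : y ∈ L) :
    bz L x * bz L y = bz L y * bz L x ↔ ⁅x, y⁆ ∈ 𝐂(L) := by
  rw [← bz_mul hx hy, ← bz_mul hy hx, bz_eq (mul_mem hx hy) (mul_mem hy hx), commutatorElement_def,
    mul_inv_rev, mul_assoc (x * y)]

theorem bz_surj (y : Zq L) : ∃ x ∈ L, bz L x = y := by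
  obtain ⟨⟨x, hx⟩, rfl⟩ := QuotientGroup.mk'_surjective _ y
  exact ⟨x, hx, bz_of_mem hx⟩

theorem mem_iz (hQ : Q ≤ L) {y : Zq L} : y ∈ iz L Q ↔ ∃ x ∈ Q, bz L x = y :=
  ⟨fun ⟨x, h1, h2⟩ => ⟨x, h1, (bz_of_mem x.2).trans h2⟩,
    fun ⟨x, h1, h2⟩ => ⟨⟨x, hQ h1⟩, h1, (bz_of_mem (hQ h1)).symm.trans h2⟩⟩

theorem bz_mem (hQ : Q ≤ L) {x : G} (h : x ∈ Q) : bz L x ∈ iz L Q := (mem_iz hQ).2 ⟨x, h, rfl⟩

theorem mem_of_bz (hQ : Q ≤ L) (hZ : L ⊓ 𝐂(L) ≤ Q) {x : G} (hx : x ∈ L) (h : bz L x ∈ iz L Q) :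
    x ∈ Q := by
  obtain ⟨y, hy, e⟩ := (mem_iz hQ).1 h
  simpa using mul_mem (hZ (mem_inf.2 ⟨mul_mem hx (inv_mem (hQ hy)), (bz_eq hx (hQ hy)).1 e.symm⟩))
    hy

/-- The action of `N(L)` on `L / Z(L)`. -/
def az (L : Subgroup G) : 𝐍(L) →* MulAut (Zq L) :=
  sectionAction 𝐍(L) L 𝐂(L) le_rfl (norm_le_norm_cent L)

theorem az_bz {g x : G} (hg : g ∈ 𝐍(L)) (hx : x ∈ L) :
    az L ⟨g, hg⟩ (bz L x) = bz L (g * x * g⁻¹) := by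
  rw [bz_of_mem hx, bz_of_mem (conj_mem_of_mem_normalizer hg hx)]
  exact sectionAction_mk _ _ _ _

theorem zq_simple (h : IsQuasisimple L) : IsSimpleGroup (Zq L) := by
  have := h.2
  refine (QuotientGroup.quotientMulEquivOfEq (G := L) (M := center L) ?_).symm.isSimpleGroup
  ext x
  rw [mem_subgroupOf, mem_cent, mem_center_iff]
  exact ⟨fun h y hy => congrArg Subtype.val (h ⟨y, hy⟩), fun h y => Subtype.ext (h y y.2)⟩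

variable [Finite G] {X : Subgroup G}

theorem _root_.CfsgLib.Wal.TC.mem_cent (h : TC X L) {g : G} (h1 : ∀ x ∈ L, ⁅g, x⁆ ∈ 𝐂(L))
    (hg : g ∈ 𝐍(L)) : g ∈ 𝐂(L) := by
  have h2 : g ∈ H1.centMod L 𝐂(L) :=
    mem_centMod.2 ⟨norm_le_norm_cent L hg, fun x hx => commutatorElement_mem_comm (h1 x hx)⟩
  refine h.cent_of_comm (W := H1.centMod L 𝐂(L)) (commutator_le.2 fun a ha b hb => ?_) h2
  exact commutatorElement_mem_comm ((mem_centMod.1 ha).2 b hb)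

theorem _root_.CfsgLib.Wal.TC.az_eq_one (h : TC X L) {g : G} (hg : g ∈ 𝐍(L)) :
    az L ⟨g, hg⟩ = 1 ↔ g ∈ 𝐂(L) := by
  refine ⟨fun e => h.mem_cent (fun x hx => ?_) hg, fun e => ?_⟩
  · have := az_bz hg hx
    rw [e, MulAut.one_apply, eq_comm, bz_eq (conj_mem_of_mem_normalizer hg hx) hx] at this
    exact this
  · ext y
    obtain ⟨x, hx, rfl⟩ := bz_surj y
    rw [az_bz hg hx, ← mem_cent.1 e x hx, mul_inv_cancel_right, MulAut.one_apply]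

theorem az_of_mem {g : G} (hg : g ∈ L) : az L ⟨g, le_normalizer hg⟩ = MulAut.conj (bz L g) := by
  ext y
  obtain ⟨x, hx, rfl⟩ := bz_surj y
  rw [az_bz _ hx, bz_conj hg hx, MulAut.conj_apply]

theorem _root_.CfsgLib.Wal.TC.not_le_cent (h : TC X L) : ¬ L ≤ 𝐂(L) := fun e =>
  h.not_solv (solv_of_le_cent e)

theorem _root_.CfsgLib.Wal.TC.zq_nonab (h : TC X L) : ¬ IsMulCommutative (Zq L) := fun e =>
  h.not_le_cent fun g hg => h.mem_cent (fun x hx => (bz_comm hg hx).1 (e.is_comm.comm _ _))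
    (le_normalizer hg)

theorem _root_.CfsgLib.Wal.TC.zq_involves (h : TC X L) : Involves (Zq L) X :=
  H1.Involves.of_injective (H1.involves_of_surjective (QuotientGroup.mk' _)
    (QuotientGroup.mk'_surjective _)) (inclusion h.le) (inclusion_injective _)

theorem _root_.CfsgLib.Wal.TC.two_center (h : TC X L) (hO : Od X = ⊥) :
    IsPGroup 2 ↥(L ⊓ 𝐂(L)) := by
  have := Fact.mk Nat.prime_two
  refine H5.isPGroup_of_forall_coprime fun x hx hc => mem_bot.1 (hO ▸ ?_)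
  refine H1.piCoreOf_le_of_subnormalIn h.1 (le_Od (zpowers_le.2 hx.1) (norm_zp fun y hy =>
    mem_cent1.2 (mem_cent.1 hx.2 y hy)) ?_ (mem_zpowers x))
  rwa [Nat.card_zpowers, ← Nat.coprime_two_right]

theorem _root_.CfsgLib.Wal.TC.center_le (h : TC X L) (hO : Od X = ⊥) (hQ : IsSylowIn 2 Q L) :
    L ⊓ 𝐂(L) ≤ Q := by
  have := Fact.mk Nat.prime_two
  exact (H1.le_pCoreOf inf_le_left (H1.le_normalizer_inf le_normalizer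
    (le_normalizer.trans (norm_le_norm_cent L))) (h.two_center hO)).trans (H1.pCoreOf_le_sylow hQ)

omit [Finite G] in
theorem sylow_iz (hQ : IsSylowIn 2 Q L) : IsSylowIn 2 (iz L Q) ⊤ := by
  have := (hQ.subgroupOf le_rfl).map (QuotientGroup.mk' ((𝐂(L)).subgroupOf L))
  rwa [subgroupOf_self, ← MonoidHom.range_eq_map,
    MonoidHom.range_eq_top_of_surjective _ (QuotientGroup.mk'_surjective _)] at this

theorem exists_lift_odd {d : Zq L} (hd : Odd (orderOf d)) : ∃ k ∈ L, Odd (orderOf k) ∧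
    bz L k ∈ zpowers d ∧ ∀ e ∈ zpowers d, ∃ j ∈ zpowers k, bz L j = e := by
  obtain ⟨l, hl, rfl⟩ := bz_surj d
  obtain ⟨n, hn⟩ := PRes.exists_pow_pow_coprime Nat.prime_two l
  refine ⟨_, pow_mem hl _, Nat.coprime_two_right.1 hn, ?_, fun e he => ?_⟩
  · rw [bz_pow hl]; exact pow_mem (mem_zpowers _) _
  · have h1 : bz L l ∈ zpowers (bz L l ^ 2 ^ n) := mem_zpowers_pow_iff.2
      ((Nat.coprime_two_left.2 hd).pow_left n)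
    obtain ⟨i, rfl⟩ := zpowers_le.2 h1 he
    exact ⟨_, zpow_mem (mem_zpowers _) i, by rw [bz_zpow (pow_mem hl _), bz_pow hl]⟩

end Zq

variable {G : Type*} [Group G]

/-- The component `L` of `X` with Sylow `2`-subgroup `Q` and torus `K`. -/
structure Tor (X L Q K : Subgroup G) : Prop where
  tc : TC X L
  syl : IsSylowIn 2 Q L
  zle : L ⊓ 𝐂(L) ≤ Q
  cen : ∀ x ∈ Q, x * x ∈ 𝐂(L) → ∀ y ∈ Q, ⁅x, y⁆ ∈ 𝐂(L)
  le : K ≤ L
  norm : K ≤ 𝐍(Q)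
  odd : Odd (Nat.card K)
  tr : ∀ x ∈ Q, ∀ y ∈ Q, x ∉ 𝐂(L) → y ∉ 𝐂(L) → x * x ∈ 𝐂(L) → y * y ∈ 𝐂(L) →
    ∃ k ∈ K, k * x * k⁻¹ * y⁻¹ ∈ 𝐂(L)
  two : ∃ x ∈ Q, ∃ y ∈ Q, x ∉ 𝐂(L) ∧ y ∉ 𝐂(L) ∧ x * y⁻¹ ∉ 𝐂(L) ∧ x * x ∈ 𝐂(L) ∧ y * y ∈ 𝐂(L)
  inn : ∀ g ∈ X, g ∈ 𝐍(L) → ∀ n : ℕ, g ^ 2 ^ n ∈ 𝐂(L) → ∃ l ∈ L, l⁻¹ * g ∈ 𝐂(L)

/-- A component of Suzuki type. -/
structure STor (X L Q K : Subgroup G) : Prop extends Tor X L Q K where
  sq : ∀ x ∈ Q, x * x * (x * x) ∈ 𝐂(L)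
  cent : ∀ x ∈ Q, x ∉ 𝐂(L) → ∀ g ∈ L, ⁅x, g⁆ ∈ 𝐂(L) → g ∈ Q
  tr2 : ∀ x ∈ Q, ∀ y ∈ Q, x * x ∉ 𝐂(L) → y * y ∉ 𝐂(L) →
    ∃ k ∈ K, k * x * k⁻¹ * y⁻¹ * (k * x * k⁻¹ * y⁻¹) ∈ 𝐂(L)
  com : ∀ x ∈ Q, ∀ y ∈ Q, x * x ∉ 𝐂(L) → y * y ∉ 𝐂(L) → x * y = y * x →
    x * y * (x * y) ∈ 𝐂(L)
  cmm : ∀ x ∈ Q, ∀ y ∈ Q, ⁅x, y⁆ * ⁅x, y⁆ ∈ 𝐂(L)
  three : ∃ x ∈ Q, ∃ y ∈ Q, ∃ w ∈ Q, x * x ∉ 𝐂(L) ∧ y * y ∉ 𝐂(L) ∧ w * w ∉ 𝐂(L) ∧
    x * y * (x * y) ∉ 𝐂(L) ∧ x * w * (x * w) ∉ 𝐂(L) ∧ y * w * (y * w) ∉ 𝐂(L) ∧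
    x * (y * w) * (x * (y * w)) ∉ 𝐂(L)
  big : ∀ Y T : Subgroup G, (∀ y ∈ Q, y ∈ Y → y * y ∈ 𝐂(L)) → T ≤ Q → El T → T ⊓ 𝐂(L) = ⊥ →
    Nat.card T ≤ Y.relIndex Q
  eight : ∀ T ≤ Q, (∀ x ∈ Q, x * x ∈ 𝐂(L) → ∃ t ∈ T, x * t⁻¹ ∈ 𝐂(L)) → 8 ≤ Nat.card T
  aut : ∀ g ∈ 𝐍(L), Odd (orderOf g) → g ∈ 𝐂(Q) → g ∈ 𝐂(L)

variable [Finite G] {X L Q : Subgroup G}

theorem tor_of_td (h : TC X L) (hO : Od X = ⊥) (hQ : IsSylowIn 2 Q L) {d : Zq L}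
    (hd : TD (iz L Q) d)
    (inn : ∀ g ∈ X, g ∈ 𝐍(L) → ∀ n : ℕ, g ^ 2 ^ n ∈ 𝐂(L) → ∃ l ∈ L, l⁻¹ * g ∈ 𝐂(L)) :
    ∃ K, Tor X L Q K ∧ IsCyclic K ∧ ∀ e ∈ zpowers d, ∃ j ∈ K, bz L j = e := by
  obtain ⟨k, hk, h1, h2, h3⟩ := exists_lift_odd hd.odd
  have hZ := h.center_le hO hQ
  have le := hQ.le
  refine ⟨zpowers k, ⟨h, hQ, hZ, fun x hx e y hy => (bz_comm (le hx) (le hy)).1
    (hd.cen _ (bz_mem le hx) ((bz_sq (le hx)).2 e) _ (bz_mem le hy)), zpowers_le.2 hk,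
    zpowers_le.2 (mem_normalizer_of_conj_mem fun x hx => ?_), by rwa [Nat.card_zpowers],
    fun x hx y hy x1 y1 xx yy => ?_, ?_, inn⟩, inferInstance, h3⟩
  · refine mem_of_bz le hZ (mul_mem (mul_mem hk (le hx)) (inv_mem hk)) ?_
    rw [bz_conj hk (le hx)]
    exact conj_mem_of_mem_normalizer (zpowers_le.2 hd.norm h2) (bz_mem le hx)
  · obtain ⟨e, he, h4⟩ := hd.tr _ (bz_mem le hx) _ (bz_mem le hy) (mt (bz_eq_one (le hx)).1 x1)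
      (mt (bz_eq_one (le hy)).1 y1) ((bz_sq (le hx)).2 xx) ((bz_sq (le hy)).2 yy)
    obtain ⟨j, hj, rfl⟩ := h3 e he
    have hj' := zpowers_le.2 hk hj
    exact ⟨j, hj, (bz_eq (mul_mem (mul_mem hj' (le hx)) (inv_mem hj')) (le hy)).1
      ((bz_conj hj' (le hx)).trans h4)⟩
  · obtain ⟨_, hx', _, hy', x1, y1, xy, xx, yy⟩ := hd.two
    obtain ⟨x, hx, rfl⟩ := (mem_iz le).1 hx'
    obtain ⟨y, hy, rfl⟩ := (mem_iz le).1 hy'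
    exact ⟨x, hx, y, hy, mt (bz_eq_one (le hx)).2 x1, mt (bz_eq_one (le hy)).2 y1,
      mt (bz_eq (le hx) (le hy)).2 xy, (bz_sq (le hx)).1 xx, (bz_sq (le hy)).1 yy⟩

theorem exists_stor (h : TC X L) (hO : Od X = ⊥) (hQ : IsSylowIn 2 Q L) (hs : SzT (Zq L)) :
    ∃ K, STor X L Q K := by
  obtain ⟨d, hd⟩ := hs.sd (sylow_iz hQ)
  have le := hQ.le
  obtain ⟨K, hK, -, h3⟩ := tor_of_td h hO hQ hd.toTD fun g _ hg n hn => by
    obtain ⟨y, hy⟩ := hs.inner n (az L ⟨g, hg⟩) (g := 1) (by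
      rw [← map_pow, map_one]; exact (h.az_eq_one (pow_mem hg _)).2 hn)
    obtain ⟨l, hl, rfl⟩ := bz_surj y
    refine ⟨l, hl, (h.az_eq_one (mul_mem (inv_mem (le_normalizer hl)) hg)).1 ?_⟩
    rw [← az_of_mem hl, ← inv_mul_eq_one, ← map_inv, ← map_mul] at hy
    rw [← inv_eq_one, ← map_inv, ← hy]
    congr 1
    exact Subtype.ext (by simp)
  obtain ⟨T₀, t1, t2, t3⟩ := hd.card
  refine ⟨K, hK, fun x hx => ?_, fun x hx x1 g hg e => mem_of_bz le hK.zle hg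
    (hd.cent _ (bz_mem le hx) (mt (bz_eq_one (le hx)).1 x1) _ ((bz_comm (le hx) hg).2 e)),
    fun x hx y hy xx yy => ?_, fun x hx y hy xx yy e => ?_, fun x hx y hy => ?_, ?_,
    fun Y T h1 h2 h4 h5 => ?_, fun T h1 h2 => ?_, fun g hg h1 h2 => ?_⟩
  · rw [← bz_sq (mul_mem (le hx) (le hx)), bz_mul (le hx) (le hx)]
    exact hd.sq _ (bz_mem le hx)
  · obtain ⟨e, he, h4⟩ := hd.tr2 _ (bz_mem le hx) _ (bz_mem le hy) (mt (bz_sq (le hx)).1 xx)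
      (mt (bz_sq (le hy)).1 yy)
    obtain ⟨j, hj, rfl⟩ := h3 e he
    have h5 := mul_mem (mul_mem (hK.le hj) (le hx)) (inv_mem (hK.le hj))
    refine ⟨j, hj, (bz_sq (mul_mem h5 (inv_mem (le hy)))).1 ?_⟩
    rwa [bz_mul h5 (inv_mem (le hy)), bz_conj (hK.le hj) (le hx), bz_inv (le hy)]
  · rw [← bz_sq (mul_mem (le hx) (le hy)), bz_mul (le hx) (le hy)]
    exact hd.com _ (bz_mem le hx) _ (bz_mem le hy) (mt (bz_sq (le hx)).1 xx)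
      (mt (bz_sq (le hy)).1 yy) (by rw [← bz_mul (le hx) (le hy), e, bz_mul (le hy) (le hx)])
  · have h5 := mul_mem (mul_mem (le hx) (le hy)) (inv_mem (le hx))
    rw [commutatorElement_def, ← bz_sq (mul_mem h5 (inv_mem (le hy))), bz_mul h5 (inv_mem (le hy)),
      bz_conj (le hx) (le hy), bz_inv (le hy)]
    exact hd.cmm _ (bz_mem le hx) _ (bz_mem le hy)
  · obtain ⟨_, hx', _, hy', _, hw', h4⟩ := hd.three
    obtain ⟨x, hx, rfl⟩ := (mem_iz le).1 hx'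
    obtain ⟨y, hy, rfl⟩ := (mem_iz le).1 hy'
    obtain ⟨w, hw, rfl⟩ := (mem_iz le).1 hw'
    refine ⟨x, hx, y, hy, w, hw, ?_⟩
    rwa [← bz_mul (le hx) (le hy), ← bz_mul (le hx) (le hw), ← bz_mul (le hy) (le hw),
      ← bz_mul (le hx) (mul_mem (le hy) (le hw)), Ne, Ne, Ne, Ne, Ne, Ne, Ne, bz_sq (le hx),
      bz_sq (le hy), bz_sq (le hw), bz_sq (mul_mem (le hx) (le hy)),
      bz_sq (mul_mem (le hx) (le hw)), bz_sq (mul_mem (le hy) (le hw)),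
      bz_sq (mul_mem (le hx) (mul_mem (le hy) (le hw)))] at h4
  · have h6 : Nat.card T ≤ Nat.card T₀ := by
      rw [← card_subgroupOf_of_le (h2.trans le), ← Suz.card_map_of_injOn (QuotientGroup.mk' _)
        fun x hx e => Subtype.ext (eq_one_of_mem_inf h5 hx
          (mem_subgroupOf.1 ((QuotientGroup.eq_one_iff x).1 e)))]
      refine card_le_of_le fun y hy => ?_
      obtain ⟨x, hx, rfl⟩ := (mem_iz (h2.trans le)).1 hy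
      exact (t1 _).2 ⟨bz_mem le (h2 hx), (bz_sq (le (h2 hx))).2 (h4 x hx ▸ one_mem _)⟩
    refine h6.trans ?_
    rw [← t3, iz, ← relIndex_comap, ← relIndex_subgroupOf le, ← inf_relIndex_right (Y.subgroupOf L)]
    refine Nat.le_of_dvd (Nat.pos_of_ne_zero index_ne_zero_of_finite) (relIndex_dvd_of_le_left _ ?_)
    rintro ⟨y, hy⟩ ⟨h7, h8⟩
    rw [mem_comap, ← bz_of_mem hy, t1]
    exact ⟨bz_mem le h8, (bz_sq hy).2 (h1 y h8 h7)⟩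
  · refine t2.trans ((card_le_of_le (K := iz L T) fun y hy => ?_).trans ?_)
    · obtain ⟨h4, h5⟩ := (t1 y).1 hy
      obtain ⟨x, hx, rfl⟩ := (mem_iz le).1 h4
      obtain ⟨t, ht, h6⟩ := h2 x hx ((bz_sq (le hx)).1 h5)
      exact (bz_eq (le hx) (le (h1 ht))).2 h6 ▸ bz_mem (h1.trans le) ht
    · rw [← card_subgroupOf_of_le (h1.trans le)]
      exact Nat.le_of_dvd Nat.card_pos (card_map_dvd _ _)
  · refine (h.az_eq_one hg).1 (hd.aut _ (h1.of_dvd_nat ?_) fun y hy => ?_)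
    · exact (orderOf_map_dvd _ _).trans (by rw [Subgroup.orderOf_mk])
    · obtain ⟨x, hx, rfl⟩ := (mem_iz le).1 hy
      rw [az_bz hg (le hx), ← mem_cent.1 h2 x hx, mul_inv_cancel_right]

end CfsgLib.GO
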